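import Cfsg.Agent.Lib.JankoThompson.GSide.TorusFun

/-!
# Janko–Thompson: the functions of the fused case

`U = T₀`, `3 ∤ |U|` and `r` fixes the non-trivial linear character `θ` of `U`.  For a cube root of
unity `z`, `fFun` is induced from `H = (⟨t, s⟩ × U)⟨r⟩`: the difference of the linear characters
extending `1` and `θ` by `r ↦ z`.  Its sixth powers put it on the TI set, so inner products are
computed in `N`: Gram matrix `3 δ`, and outside the classes meeting `H \ H₀` it is a third of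
`tiFun 1 1 θ`.

Owner: helper8.
-/

set_option autoImplicit false
set_option linter.style.haveILetI false
set_option linter.unusedSectionVars false

universe u

namespace Cfsg.Agent.Lib.JankoThompson.GSide.TorusData

open Subgroup Cfsg.Agent.Lib.Induced.Basic Cfsg.Agent.Lib.Walter.NoField
  Cfsg.Agent.Lib.Characters.Linear
open scoped ComplexConjugate Classical

variable {G : Type u} [Group G] {t : G} {K : Subgroup G} (d : TorusData t K)

include d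

/-- A linear character of `U` fixed by `r`. -/
def RInv (μ : ↥d.U →* ℂˣ) : Prop :=
  ∀ x : ↥d.U, μ ⟨d.r * x * d.r⁻¹, d.r_U x x.2⟩ = μ x

theorem rInv_one : d.RInv 1 := fun _ => rfl

variable {d}

theorem RInv.inv {μ : ↥d.U →* ℂˣ} (h : d.RInv μ) : d.RInv μ⁻¹ := fun x => by
  rw [MonoidHom.inv_apply, MonoidHom.inv_apply, h x]

theorem RInv.pow {μ : ↥d.U →* ℂˣ} (h : d.RInv μ) (i : ℕ) (x : ↥d.U) :
    μ ⟨d.r ^ i * x * (d.r ^ i)⁻¹, d.pow_r_conj_U i x.2⟩ = μ x := by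
  induction i with
  | zero => congr 1; exact Subtype.ext (by simp)
  | succ j ih =>
    rw [← ih, ← h ⟨_, d.pow_r_conj_U j x.2⟩]
    congr 1
    exact Subtype.ext (by simp only [pow_succ', mul_inv_rev]; group)

variable (d)

theorem pow_r_mod (n : ℕ) : d.r ^ (n % 3) = d.r ^ n := by
  conv_rhs => rw [← Nat.mod_add_div n 3, pow_add, pow_mul, d.r_cube, one_pow, mul_one]

/-- A product of two elements `h rⁱ`. -/
theorem coset_mul {h h' : G} (hh : h ∈ d.H₀) (hh' : h' ∈ d.H₀) (i j : ℕ) :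
    ∃ a : ↥d.H₀, h * d.r ^ i * (h' * d.r ^ j) = (a : G) * d.r ^ ((i + j) % 3) ∧
      (a : G) = h * (d.r ^ i * h' * (d.r ^ i)⁻¹) := by
  refine ⟨⟨_, mul_mem hh (d.conj_H₀ (pow_mem d.r_mem_N i) hh')⟩, ?_, rfl⟩
  rw [d.pow_r_mod, pow_add]
  group

/-- `H = H₀⟨r⟩`. -/
def H : Subgroup G where
  carrier := {g | ∃ h ∈ d.H₀, ∃ i : Fin 3, g = h * d.r ^ (i : ℕ)}
  one_mem' := ⟨1, one_mem _, 0, by simp⟩
  mul_mem' := by
    rintro _ _ ⟨h, hh, i, rfl⟩ ⟨h', hh', j, rfl⟩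
    obtain ⟨a, ha, -⟩ := d.coset_mul hh hh' i j
    exact ⟨a, a.2, ⟨_, Nat.mod_lt _ (by norm_num)⟩, ha⟩
  inv_mem' := by
    rintro _ ⟨h, hh, i, rfl⟩
    refine ⟨(d.r ^ (i : ℕ))⁻¹ * h⁻¹ * d.r ^ (i : ℕ), ?_, ⟨(2 * (i : ℕ)) % 3, Nat.mod_lt _ (by norm_num)⟩, ?_⟩
    · have := d.conj_H₀ (inv_mem (pow_mem d.r_mem_N (i : ℕ))) (inv_mem hh)
      rwa [inv_inv] at this
    · have e : d.r ^ (2 * (i : ℕ)) = (d.r ^ (i : ℕ))⁻¹ := (inv_eq_of_mul_eq_one_right (by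
        rw [← pow_add, show (i : ℕ) + 2 * i = 3 * i by ring, pow_mul, d.r_cube, one_pow])).symm
      simp only [d.pow_r_mod, e]
      group

theorem mem_H {g : G} : g ∈ d.H ↔ ∃ h ∈ d.H₀, ∃ i : Fin 3, g = h * d.r ^ (i : ℕ) := Iff.rfl

theorem H₀_le_H : d.H₀ ≤ d.H := fun h hh => ⟨h, hh, 0, by simp⟩

theorem H_le_N : d.H ≤ d.N := by
  rintro g ⟨h, hh, i, rfl⟩
  exact mul_mem (d.H₀_le_N hh) (pow_mem d.r_mem_N _)

theorem r_mem_H : d.r ∈ d.H := ⟨1, one_mem _, 1, by simp⟩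

theorem rep_false (i : Fin 3) : d.rep (false, i) = d.r ^ (i : ℕ) := by simp [rep]

/-- `H` as the union of three cosets. -/
noncomputable def hEquiv : ↥d.H₀ × Fin 3 ≃ ↥d.H :=
  Equiv.ofBijective (fun q => ⟨(q.1 : G) * d.r ^ (q.2 : ℕ), q.1, q.1.2, q.2, rfl⟩)
    ⟨fun a b e => by
      obtain ⟨h1, h2⟩ := d.rep_injective (p := (false, a.2)) (p' := (false, b.2)) a.1.2 b.1.2
        (by rw [d.rep_false, d.rep_false]; exact congrArg Subtype.val e)
      exact Prod.ext (Subtype.ext h1) (Prod.ext_iff.1 h2).2,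
    fun g => by
      obtain ⟨h, hh, i, hg⟩ := g.2
      exact ⟨(⟨h, hh⟩, i), Subtype.ext hg.symm⟩⟩

theorem coe_hEquiv (q : ↥d.H₀ × Fin 3) : (d.hEquiv q : G) = (q.1 : G) * d.r ^ (q.2 : ℕ) := rfl

theorem card_H : Nat.card ↥d.H = 3 * Nat.card ↥d.H₀ := by
  rw [← Nat.card_congr d.hEquiv, Nat.card_prod, show Nat.card (Fin 3) = 3 by simp, mul_comm]

theorem lin_conj_r {μ : ↥d.U →* ℂˣ} (hμ : d.RInv μ) (i : ℕ) {h h' : ↥d.H₀}
    (e : (h' : G) = d.r ^ i * (h : G) * (d.r ^ i)⁻¹) : d.lin 1 μ h' = d.lin 1 μ h := by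
  have hh := d.coe_H₀_eq h
  obtain ⟨v, hv⟩ : ∃ v : ↥d.V, (v : G) = d.r ^ i * ((d.pair h).1 : G) * (d.r ^ i)⁻¹ :=
    ⟨⟨_, d.mem_N.1 (pow_mem d.r_mem_N i) _ (d.pair h).1.2⟩, rfl⟩
  have e' : (h' : G) =
      (v : G) * ((⟨_, d.pow_r_conj_U i (d.pair h).2.2⟩ : ↥d.U) : G) := by
    rw [e, hh, hv]
    group
  rw [d.lin_apply 1 μ e', d.lin_apply 1 μ hh, hμ.pow]
  simp

variable {d}

/-- The linear character of `H` extending `μ` by `r ↦ z`. -/
noncomputable def extHom {μ : ↥d.U →* ℂˣ} (hμ : d.RInv μ) {z : ℂˣ} (hz : z ^ 3 = 1) :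
    ↥d.H →* ℂˣ where
  toFun g := d.lin 1 μ (d.hEquiv.symm g).1 * z ^ ((d.hEquiv.symm g).2 : ℕ)
  map_one' := by
    have : d.hEquiv.symm 1 = (1, 0) := d.hEquiv.symm_apply_eq.2 (Subtype.ext (by simp [coe_hEquiv]))
    simp [this]
  map_mul' g g' := by
    obtain ⟨⟨h, i⟩, rfl⟩ := d.hEquiv.surjective g
    obtain ⟨⟨h', j⟩, rfl⟩ := d.hEquiv.surjective g'
    obtain ⟨a, ha, ha'⟩ := d.coset_mul h.2 h'.2 i j
    have e : d.hEquiv.symm (d.hEquiv (h, i) * d.hEquiv (h', j)) =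
        (a, ⟨((i : ℕ) + j) % 3, Nat.mod_lt _ (by norm_num)⟩) :=
      d.hEquiv.symm_apply_eq.2 (Subtype.ext (by rw [Subgroup.coe_mul, coe_hEquiv, coe_hEquiv]; exact ha))
    obtain ⟨h'', hh''⟩ : ∃ h'' : ↥d.H₀, (h'' : G) = d.r ^ (i : ℕ) * (h' : G) * (d.r ^ (i : ℕ))⁻¹ :=
      ⟨⟨_, d.conj_H₀ (pow_mem d.r_mem_N (i : ℕ)) h'.2⟩, rfl⟩
    have ea : a = h * h'' := Subtype.ext (by rw [ha', Subgroup.coe_mul, hh''])
    have hp : z ^ (((i : ℕ) + j) % 3) = z ^ (i : ℕ) * z ^ (j : ℕ) := by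
      rw [← pow_add]
      conv_rhs => rw [← Nat.mod_add_div ((i : ℕ) + j) 3, pow_add, pow_mul, hz, one_pow, mul_one]
    simp only [e, ea, Equiv.symm_apply_apply, map_mul, d.lin_conj_r hμ i hh'', hp]
    exact mul_mul_mul_comm _ _ _ _

theorem extHom_apply {μ : ↥d.U →* ℂˣ} (hμ : d.RInv μ) {z : ℂˣ} (hz : z ^ 3 = 1) (h : ↥d.H₀)
    (i : Fin 3) : extHom hμ hz (d.hEquiv (h, i)) = d.lin 1 μ h * z ^ (i : ℕ) := by
  simp [extHom]

theorem extHom_incl {μ : ↥d.U →* ℂˣ} (hμ : d.RInv μ) {z : ℂˣ} (hz : z ^ 3 = 1) (h : ↥d.H₀) :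
    extHom hμ hz (Subgroup.inclusion d.H₀_le_H h) = d.lin 1 μ h := by
  have e : d.hEquiv (h, 0) = Subgroup.inclusion d.H₀_le_H h := Subtype.ext (by simp [coe_hEquiv])
  rw [← e, extHom_apply]
  simp

theorem extHom_r {μ : ↥d.U →* ℂˣ} (hμ : d.RInv μ) {z : ℂˣ} (hz : z ^ 3 = 1) :
    extHom hμ hz ⟨d.r, d.r_mem_H⟩ = z := by
  have e : d.hEquiv (1, 1) = ⟨d.r, d.r_mem_H⟩ := Subtype.ext (by simp [coe_hEquiv])
  rw [← e, extHom_apply]
  simp

theorem extHom_inj {μ μ' : ↥d.U →* ℂˣ} (hμ : d.RInv μ) (hμ' : d.RInv μ') {z z' : ℂˣ}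
    (hz : z ^ 3 = 1) (hz' : z' ^ 3 = 1) :
    extHom hμ hz = extHom hμ' hz' ↔ μ = μ' ∧ z = z' := by
  refine ⟨fun h => ⟨?_, ?_⟩, fun ⟨h, h'⟩ => by subst h; subst h'; rfl⟩
  · refine (d.lin_inj (ρ := 1) (ρ' := 1)).1 (MonoidHom.ext fun a => ?_) |>.2
    rw [← extHom_incl hμ hz a, h, extHom_incl]
  · rw [← extHom_r hμ hz, h, extHom_r]

theorem cube_ne_one {θ : ↥d.U →* ℂˣ} (h3 : ¬ 3 ∣ Nat.card ↥d.U) {x : ↥d.U} (hx : θ x ≠ 1) :
    θ x ^ 3 ≠ 1 := by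
  intro h
  have hn : θ x ^ Nat.card ↥d.U = 1 := by rw [← map_pow, pow_card_eq_one', map_one]
  have hg := pow_gcd_eq_one.2 ⟨h, hn⟩
  rw [((Nat.Prime.coprime_iff_not_dvd Nat.prime_three).2 h3).gcd_eq_one, pow_one] at hg
  exact hx hg

/-- The difference of the two extensions. -/
noncomputable def fPsi {θ : ↥d.U →* ℂˣ} (hr : d.RInv θ) {z : ℂˣ} (hz : z ^ 3 = 1) : ↥d.H → ℂ :=
  fun g => (extHom d.rInv_one hz g : ℂ) - (extHom hr hz g : ℂ)

theorem fPsi_incl {θ : ↥d.U →* ℂˣ} (hr : d.RInv θ) {z : ℂˣ} (hz : z ^ 3 = 1) (h : ↥d.H₀) :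
    fPsi hr hz (Subgroup.inclusion d.H₀_le_H h) = d.psi 1 1 θ h := by
  simp only [fPsi, psi, Pi.sub_apply, extHom_incl,
    show (1 : ↥d.U →* ℂˣ) * θ = θ from MonoidHom.ext fun x => one_mul _]

/-- The sixth power of a point of the function lies in the support. -/
theorem pow_six_mem (hU : d.T₀ = d.U) (h3 : ¬ 3 ∣ Nat.card ↥d.U) {θ : ↥d.U →* ℂˣ}
    (hr : d.RInv θ) {z : ℂˣ} (hz : z ^ 3 = 1) {b : ↥d.H} (hb : fPsi hr hz b ≠ 0) :
    (b : G) ^ 6 ∈ d.U ∧ (b : G) ^ 6 ∈ d.support ∧ (b : G) ^ 6 ≠ 1 := by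
  obtain ⟨⟨h, i⟩, hbq⟩ := d.hEquiv.surjective b
  have h1 : (1 : ℂˣ) ^ 3 = 1 := one_pow 3
  have hθ : θ (d.pair h).2 ≠ 1 := by
    intro e
    refine hb ?_
    rw [← hbq, fPsi, extHom_apply, extHom_apply, d.lin_apply 1 1 (d.coe_H₀_eq h),
      d.lin_apply 1 θ (d.coe_H₀_eq h), e]
    simp
  have hval : extHom hr h1 b = θ (d.pair h).2 := by
    rw [← hbq, extHom_apply, d.lin_apply 1 θ (d.coe_H₀_eq h)]
    simp
  have hmem : (b : G) ^ 3 ∈ d.H₀ := by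
    obtain ⟨a, ha⟩ : ∃ a, a = d.r ^ (i : ℕ) := ⟨_, rfl⟩
    have haN : a ∈ d.N := ha ▸ pow_mem d.r_mem_N _
    have ha3 : a * a * a = 1 := by
      rw [ha, ← pow_add, ← pow_add, show (i : ℕ) + i + i = 3 * i by ring, pow_mul, d.r_cube, one_pow]
    have e : (b : G) ^ 3 = (h : G) * (a * (h : G) * a⁻¹) * ((a * a) * (h : G) * (a * a)⁻¹) *
        (a * a * a) := by
      rw [← hbq, coe_hEquiv, ← ha, pow_succ, pow_two]
      group
    rw [e, ha3, mul_one]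
    exact mul_mem (mul_mem h.2 (d.conj_H₀ haN h.2)) (d.conj_H₀ (mul_mem haN haN) h.2)
  obtain ⟨c, hc⟩ : ∃ c : ↥d.H₀, (c : G) = (b : G) ^ 3 := ⟨⟨_, hmem⟩, rfl⟩
  have hci : Subgroup.inclusion d.H₀_le_H c = b ^ 3 := Subtype.ext (by simp [hc])
  have hθc : θ (d.pair c).2 ≠ 1 := by
    have := extHom_incl hr h1 c
    rw [hci, map_pow, hval, d.lin_apply 1 θ (d.coe_H₀_eq c)] at this
    simp only [MonoidHom.one_apply, one_mul] at this
    rw [← this]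
    exact cube_ne_one h3 hθ
  have hne : ((d.pair c).2 : G) * (d.pair c).2 ≠ 1 := fun e => hθc (by
    rw [show (d.pair c).2 = 1 from Subtype.ext (d.eq_one_of_sq (d.pair c).2.2 e), map_one])
  have e6 : (b : G) ^ 6 = ((d.pair c).2 : G) * (d.pair c).2 := by
    have := d.sq_pow_eq (d.pair c).1.2 (d.pair c).2.2 1
    rw [pow_one, mul_one, ← d.coe_H₀_eq c, hc, ← pow_mul] at this
    rw [this, pow_two]
  rw [e6]
  refine ⟨mul_mem (d.pair c).2.2 (d.pair c).2.2, ⟨1, one_mem _, _,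
    mul_mem (d.pair c).2.2 (d.pair c).2.2, (one_mul _).symm, 1, ?_, ?_⟩, hne⟩
  · rw [pow_one, hU]; exact mul_mem (d.pair c).2.2 (d.pair c).2.2
  · rwa [pow_one]

/-- The points of the function outside `H₀` are products of two involutions in no way. -/
theorem invPairs_eq_zero (hU : d.T₀ = d.U) (h3 : ¬ 3 ∣ Nat.card ↥d.U) {θ : ↥d.U →* ℂˣ}
    (hr : d.RInv θ) {z : ℂˣ} (hz : z ^ 3 = 1) {b : ↥d.H} (hb : fPsi hr hz b ≠ 0)
    (hb0 : (b : G) ∉ d.H₀) : invPairs (b : G) = 0 := by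
  obtain ⟨h6U, h6, h61⟩ := pow_six_mem hU h3 hr hz hb
  refine Nat.card_eq_zero.2 (Or.inl ⟨fun ⟨a, ha, hab⟩ => hb0 ?_⟩)
  have haa : a * a = 1 := by rw [← pow_two, ← ha, pow_orderOf_eq_one]
  have hai : a⁻¹ = a := inv_eq_of_mul_eq_one_right haa
  have habb : a * b * (a * b) = 1 := by rw [← pow_two, ← hab, pow_orderOf_eq_one]
  have hinv : a * (b : G) * a⁻¹ = (b : G)⁻¹ := by
    rw [hai]
    exact eq_inv_of_mul_eq_one_left (by rw [← habb]; group)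
  have h6' : a * (b : G) ^ 6 * a⁻¹ ∈ d.support := by
    rw [← conj_pow, hinv, inv_pow]
    refine ⟨1, one_mem _, _, inv_mem h6U, (one_mul _).symm, 1, ?_, ?_⟩
    · rw [pow_one, hU]; exact inv_mem h6U
    · rw [pow_one, inv_ne_one]; exact h61
  obtain ⟨v, hv, x, hx, e⟩ := d.comm_V_of_sq (d.fusion h6 h6') haa
  have hat : Commute a t := by
    rcases e with e | e <;> rw [e]
    · exact d.comm_t_H₀ (d.mem_H₀.2 ⟨v, hv, x, hx, rfl⟩)
    · exact (d.comm_t_H₀ (d.mem_H₀.2 ⟨v, hv, x, hx, rfl⟩)).mul_left d.comm_t_w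
  -- `b²` and `b³` centralise `t`
  have hV : (b : G) * t * (b : G)⁻¹ ∈ d.V := d.mem_N.1 (d.H_le_N b.2) t d.t_mem_V
  have hcV : Commute a ((b : G) * t * (b : G)⁻¹) := by
    rcases e with e | e <;> rw [e]
    · exact (d.V_comm hv hV).mul_left (d.V_comm_U hx hV)
    · exact ((d.V_comm hv hV).mul_left (d.V_comm_U hx hV)).mul_left (d.V_comm_w hV)
  have h2 : Commute ((b : G) * b) t := by
    have key : (b : G)⁻¹ * t * b = (b : G) * t * (b : G)⁻¹ := by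
      calc (b : G)⁻¹ * t * b = (a * b * a⁻¹) * (a * t * a⁻¹) * (a * b * a⁻¹)⁻¹ := by
            rw [hinv, hat.eq, mul_inv_cancel_right, inv_inv]
        _ = a * ((b : G) * t * (b : G)⁻¹) * a⁻¹ := by group
        _ = _ := by rw [hcV.eq, mul_inv_cancel_right]
    calc (b : G) * b * t = (b : G) * ((b : G) * t * (b : G)⁻¹) * b := by group
      _ = (b : G) * ((b : G)⁻¹ * t * b) * b := by rw [key]
      _ = t * ((b : G) * b) := by group
  obtain ⟨⟨h, i⟩, hbq⟩ := d.hEquiv.surjective b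
  have h6t : Commute ((b : G) ^ 6) t := d.comm_t_H₀ (d.U_le_H₀ h6U)
  -- `b` itself
  have hbt : Commute (b : G) t := by
    have h3t : Commute ((b : G) ^ 3) t := by
      obtain ⟨a', ha'⟩ : ∃ a', a' = d.r ^ (i : ℕ) := ⟨_, rfl⟩
      have haN : a' ∈ d.N := ha' ▸ pow_mem d.r_mem_N _
      have ha3 : a' * a' * a' = 1 := by
        rw [ha', ← pow_add, ← pow_add, show (i : ℕ) + i + i = 3 * i by ring, pow_mul, d.r_cube,
          one_pow]
      have e : (b : G) ^ 3 = (h : G) * (a' * (h : G) * a'⁻¹) *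
          ((a' * a') * (h : G) * (a' * a')⁻¹) * (a' * a' * a') := by
        rw [← hbq, coe_hEquiv, ← ha', pow_succ, pow_two]
        group
      rw [e, ha3, mul_one]
      exact d.comm_t_H₀
        (mul_mem (mul_mem h.2 (d.conj_H₀ haN h.2)) (d.conj_H₀ (mul_mem haN haN) h.2))
    have := h3t.mul_left h2.inv_left
    rwa [pow_succ, pow_two, mul_assoc ((b : G) * b), show (b : G) * b * ((b : G) * ((b : G) * b)⁻¹) =
      (b : G) by group] at this
  have hi : i = 0 := by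
    refine d.pos_injective ?_
    rw [d.pos_zero, ← d.conj_t_rep h.2 (false, i), d.rep_false, show (h : G) * d.r ^ (i : ℕ) = (b : G) by
      rw [← hbq, coe_hEquiv], hbt.inv_left.eq, inv_mul_cancel_right]
  rw [← hbq, coe_hEquiv, hi]
  simpa using h.2

section Finite

variable [Fintype G]

/-- The induced function. -/
noncomputable def fFun {θ : ↥d.U →* ℂˣ} (hr : d.RInv θ) {z : ℂˣ} (hz : z ^ 3 = 1) : G → ℂ :=
  Cfsg.indFun d.H (fPsi hr hz)

theorem isGen_fFun {θ : ↥d.U →* ℂˣ} (hr : d.RInv θ) {z : ℂˣ} (hz : z ^ 3 = 1) :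
    Cfsg.IsGeneralizedCharacter G (fFun hr hz) :=
  Induced.Character.isGeneralizedCharacter_indFun d.H
    (Induced.Generalized.isGen_sub (Induced.Generalized.of_irr (linChar (extHom d.rInv_one hz)))
      (Induced.Generalized.of_irr (linChar (extHom hr hz))))

/-- A third of `tiFun 1 1 θ` outside the classes meeting the function off `H₀`. -/
theorem fFun_apply {θ : ↥d.U →* ℂˣ} (hr : d.RInv θ) {z : ℂˣ} (hz : z ^ 3 = 1) {g : G}
    (hg : ∀ y : G, ∀ hy : y⁻¹ * g * y ∈ d.H, fPsi hr hz ⟨_, hy⟩ ≠ 0 → y⁻¹ * g * y ∈ d.H₀) :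
    fFun hr hz g = (3 : ℂ)⁻¹ * d.tiFun 1 1 θ g := by
  simp only [fFun, tiFun, Cfsg.indFun, d.card_H, Nat.cast_mul, mul_inv, mul_assoc, Nat.cast_ofNat]
  congr 2
  refine Finset.sum_congr rfl fun y _ => ?_
  obtain ⟨w, hw⟩ : ∃ w, w = y⁻¹ * g * y := ⟨_, rfl⟩
  simp only [← mul_assoc, ← hw]
  by_cases h0 : w ∈ d.H₀
  · rw [extendByZero_of_mem _ _ (d.H₀_le_H h0), extendByZero_of_mem _ _ h0, ← fPsi_incl hr hz ⟨w, h0⟩]
    rfl
  · rw [extendByZero_of_not_mem _ _ h0]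
    by_cases h1 : w ∈ d.H
    · rw [extendByZero_of_mem _ _ h1]
      by_contra hne
      subst hw
      exact h0 (hg y h1 hne)
    · rw [extendByZero_of_not_mem _ _ h1]

theorem mem_H₀_of_sq {u : G} (hu : u ∈ d.H) (h : u * u = 1) : u ∈ d.V := by
  obtain ⟨a, ha, i, e⟩ := d.mem_H.1 hu
  obtain ⟨v, hv, x, hx, e' | e'⟩ := d.comm_V_of_sq (d.H_le_N hu) h
  · have hsq : x * x = 1 := by
      rw [e', show v * x * (v * x) = v * (x * v) * x by group, (d.V_comm_U hx hv).eq,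
        ← mul_assoc v v, d.sq_V hv, one_mul] at h
      exact h
    rwa [e', d.eq_one_of_sq hx hsq, mul_one]
  · exfalso
    obtain ⟨-, hp⟩ := d.rep_injective (p := (false, i)) (p' := (true, 0)) ha
      (d.mem_H₀.2 ⟨v, hv, x, hx, rfl⟩) (by rw [d.rep_false, ← e, e']; simp [rep])
    exact Bool.false_ne_true (congrArg Prod.fst hp)

theorem fFun_one {θ : ↥d.U →* ℂˣ} (hθ : d.IsTheta θ) (hr : d.RInv θ) {z : ℂˣ} (hz : z ^ 3 = 1) :
    fFun hr hz 1 = 0 := by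
  rw [fFun_apply hr hz fun y _ _ => by rw [mul_one, inv_mul_cancel]; exact one_mem _, tiFun,
    d.indFun_one_eq (hθ.support_of_ne 1 1), mul_zero]

theorem fFun_t {θ : ↥d.U →* ℂˣ} (hθ : d.IsTheta θ) (hr : d.RInv θ) {z : ℂˣ} (hz : z ^ 3 = 1) :
    fFun hr hz t = 0 := by
  rw [fFun_apply hr hz fun y hy _ => d.V_le_H₀ (mem_H₀_of_sq hy (by
    calc y⁻¹ * t * y * (y⁻¹ * t * y) = y⁻¹ * (t * t) * y := by group
      _ = 1 := by rw [d.t_sq, mul_one, inv_mul_cancel])), tiFun,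
    d.indFun_t_eq (hθ.support_of_ne 1 1), mul_zero]

theorem secCoeff_fFun [Fintype ↥K] {θ : ↥d.U →* ℂˣ} (hr : d.RInv θ) {z : ℂˣ} (hz : z ^ 3 = 1)
    {φ : ↥K → ℂ} (hφ0 : OddSupport φ) :
    secCoeff t K (fFun hr hz) φ = (3 : ℂ)⁻¹ * secCoeff t K (d.tiFun 1 1 θ) φ := by
  have key : ∀ k : ↥K, φ k ≠ 0 → fFun hr hz (t * k) = (3 : ℂ)⁻¹ * d.tiFun 1 1 θ (t * k) := by
    intro k hk
    refine fFun_apply hr hz fun y hy _ => ?_
    obtain ⟨j, hj⟩ : Odd (orderOf (k : G)) :=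
      Nat.not_even_iff_odd.1 fun h => hk (hφ0 k (even_iff_two_dvd.1 h))
    obtain ⟨m, hm⟩ : ∃ m, m = orderOf (k : G) := ⟨_, rfl⟩
    obtain ⟨b, hb⟩ : ∃ b, b = y⁻¹ * (t * (k : G)) * y := ⟨_, rfl⟩
    rw [← hb] at hy ⊢
    have hbm : b ^ m = y⁻¹ * t * y := by
      rw [hb, show y⁻¹ * (t * (k : G)) * y = y⁻¹ * (t * (k : G)) * y⁻¹⁻¹ by rw [inv_inv], conj_pow,
        inv_inv, (d.comm_t k.2).mul_pow, hm, pow_orderOf_eq_one, mul_one, hj, pow_succ, pow_mul,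
        pow_two, d.t_sq, one_pow, one_mul]
    have hV : b ^ m ∈ d.V := mem_H₀_of_sq (pow_mem hy m) (by
      rw [hbm]
      calc y⁻¹ * t * y * (y⁻¹ * t * y) = y⁻¹ * (t * t) * y := by group
        _ = 1 := by rw [d.t_sq, mul_one, inv_mul_cancel])
    have hne : b ^ m ≠ 1 := fun e => d.t_ne_one (by
      have := congrArg (fun g => y * g * y⁻¹) (hbm.symm.trans e)
      simpa [mul_assoc] using this)
    obtain ⟨l, hl⟩ := d.exists_pos hV hne
    obtain ⟨a, ha, i, e⟩ := d.mem_H.1 hy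
    -- `b` centralises `pos l`, hence `i = 0`
    have hc : Commute (d.r ^ (i : ℕ)) (d.pos l) := by
      have h1 : Commute b (d.pos l) := hl ▸ Commute.self_pow b m
      have h2 : Commute a (d.pos l) := by
        obtain ⟨v, hv, x, hx, rfl⟩ := d.mem_H₀.1 ha
        exact (d.V_comm hv (d.pos_mem l)).mul_left (d.V_comm_U hx (d.pos_mem l))
      have := h2.inv_left.mul_left h1
      rwa [e, inv_mul_cancel_left] at this
    have hct : Commute (d.r ^ (i : ℕ)) t := by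
      show d.r ^ (i : ℕ) * t = t * d.r ^ (i : ℕ)
      have hrr : Commute (d.r ^ (i : ℕ)) (d.r ^ (l : ℕ)) := Commute.pow_pow_self d.r _ _
      have h4 := (hrr.mul_right hc).mul_right hrr.inv_right
      rwa [show d.r ^ (l : ℕ) * d.pos l * (d.r ^ (l : ℕ))⁻¹ = t by rw [pos]; group] at h4
    have hi : i = 0 := d.pos_injective (by
      rw [d.pos_zero, pos, hct.inv_left.eq, inv_mul_cancel_right])
    rw [e, hi]
    simpa using ha
  simp only [secCoeff, Cfsg.classInner, Finset.mul_sum]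
  refine Finset.sum_congr rfl fun k _ => ?_
  by_cases hk : φ k = 0
  · simp [hk]
  · rw [key k hk]; ring

/-- A sum over `H` of a function vanishing off `H₀`. -/
theorem sum_H_eq [Fintype ↥d.H] [Fintype ↥d.H₀] {R : Type*} [AddCommMonoid R] (f : ↥d.H → R)
    (hf : ∀ b : ↥d.H, (b : G) ∉ d.H₀ → f b = 0) :
    ∑ b : ↥d.H, f b = ∑ h : ↥d.H₀, f (Subgroup.inclusion d.H₀_le_H h) := by
  rw [← Finset.sum_subset (Finset.subset_univ
    (Finset.univ.image (Subgroup.inclusion d.H₀_le_H))) fun b _ hb => hf b fun hb0 =>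
      hb (Finset.mem_image.2 ⟨⟨b, hb0⟩, Finset.mem_univ _, rfl⟩)]
  exact Finset.sum_image (Subgroup.inclusion_injective d.H₀_le_H).injOn

/-- Inner products with a class function vanishing at the points off `H₀`. -/
theorem classInner_fFun [Fintype ↥d.H] [Fintype ↥d.H₀] {θ : ↥d.U →* ℂˣ} (hr : d.RInv θ)
    {z : ℂˣ} (hz : z ^ 3 = 1) {φ : G → ℂ} (hφ : Cfsg.IsClassFunction G φ)
    (h0 : ∀ b : ↥d.H, fPsi hr hz b ≠ 0 → (b : G) ∉ d.H₀ → φ b = 0) :
    Cfsg.classInner (fFun hr hz) φ = (3 : ℂ)⁻¹ * Cfsg.classInner (d.tiFun 1 1 θ) φ := by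
  rw [fFun, tiFun, frobenius_reciprocity d.H _ hφ, frobenius_reciprocity d.H₀ _ hφ]
  simp only [Cfsg.classInner]
  rw [sum_H_eq _ fun b hb => ?_, d.card_H]
  · simp only [fPsi_incl, Subgroup.coe_inclusion, Nat.cast_mul, Nat.cast_ofNat, mul_inv, mul_assoc]
  · by_cases h : fPsi hr hz b = 0
    · rw [h, zero_mul]
    · rw [h0 b h hb, map_zero, mul_zero]

/-- Orthogonal to the norm-three function. -/
theorem inner_fFun_rho [Fintype ↥d.H] [Fintype ↥d.H₀] (hU : d.T₀ = d.U)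
    (h3 : ¬ 3 ∣ Nat.card ↥d.U) {θ : ↥d.U →* ℂˣ} (hθ : d.IsTheta θ) (hr : d.RInv θ) {z : ℂˣ}
    (hz : z ^ 3 = 1) : Cfsg.classInner (fFun hr hz) (d.tiFun d.rho 1 θ) = 0 := by
  rw [classInner_fFun hr hz (φ := d.tiFun d.rho 1 θ) (isClassFunction_indFun _ _) fun b hb hb0 => ?_]
  · rw [← classInner_conj_symm, d.inner_rho_one d.isTwist_one hθ hθ, map_zero, mul_zero]
  · refine d.indFun_eq_zero (hθ.support_of_ne d.rho 1) fun x hx => hb0 ?_
    obtain ⟨-, h6, -⟩ := pow_six_mem hU h3 hr hz hb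
    have h6x : x⁻¹ * (b : G) ^ 6 * x⁻¹⁻¹ ∈ d.support := by
      obtain ⟨v, hv, u, hu, e, k, hk, hk1⟩ := hx
      have hu1 : u ≠ 1 := fun h => hk1 (by rw [h, one_pow])
      have hnot : u ^ 6 ≠ 1 := by
        intro h
        have hn : u ^ Nat.card ↥d.U = 1 := by
          have := congrArg (Subtype.val : ↥d.U → G) (pow_card_eq_one' (G := ↥d.U) (x := ⟨u, hu⟩))
          rwa [SubmonoidClass.coe_pow] at this
        have hg := pow_gcd_eq_one.2 ⟨h, hn⟩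
        have hc : Nat.gcd 6 (Nat.card ↥d.U) = 1 := Nat.Coprime.mul_left (m := 2) (n := 3)
          (Nat.coprime_two_left.2 d.U_odd) ((Nat.Prime.coprime_iff_not_dvd Nat.prime_three).2 h3)
        rw [hc, pow_one] at hg
        exact hu1 hg
      rw [← conj_pow, inv_inv, e, show (6 : ℕ) = 2 * 3 from rfl, d.sq_pow_eq hv hu, ← pow_mul]
      refine ⟨1, one_mem _, _, pow_mem hu _, (one_mul _).symm, 1, ?_, ?_⟩
      · rw [pow_one, hU]; exact pow_mem hu _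
      · rw [pow_one]; exact hnot
    have hxN := d.fusion h6 h6x
    have := d.conj_H₀ (inv_mem hxN) (d.support_subset hx)
    rwa [show x⁻¹⁻¹ * (x⁻¹ * (b : G) * x) * x⁻¹⁻¹⁻¹ = (b : G) by group] at this

/-- Conjugation by `w` on `H`. -/
def wH (hrw : d.w * d.r * d.w⁻¹ = t * d.s * d.r) : ↥d.H →* ↥d.H where
  toFun g := ⟨d.w * g * d.w⁻¹, by
    obtain ⟨h, hh, i, e⟩ := d.mem_H.1 g.2
    rw [e, show d.w * (h * d.r ^ (i : ℕ)) * d.w⁻¹ = d.w * h * d.w⁻¹ * (d.w * d.r * d.w⁻¹) ^ (i : ℕ) by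
      rw [conj_pow]; group, hrw]
    exact mul_mem (d.H₀_le_H (d.conj_H₀ d.w_mem_N hh))
      (pow_mem (mul_mem (d.H₀_le_H (d.V_le_H₀ (mul_mem d.t_mem_V d.s_mem_V))) d.r_mem_H) _)⟩
  map_one' := Subtype.ext (by simp)
  map_mul' x y := Subtype.ext (by simp only [Subgroup.coe_mul]; group)

theorem extHom_wH (hU : d.T₀ = d.U) (hrw : d.w * d.r * d.w⁻¹ = t * d.s * d.r)
    {μ : ↥d.U →* ℂˣ} (hμ : d.RInv μ) {z : ℂˣ} (hz : z ^ 3 = 1) :
    (extHom hμ hz).comp (wH hrw) = extHom hμ.inv hz := by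
  refine MonoidHom.ext fun g => ?_
  obtain ⟨⟨h, i⟩, rfl⟩ := d.hEquiv.surjective g
  have eg : d.hEquiv (h, i) =
      Subgroup.inclusion d.H₀_le_H h * (⟨d.r, d.r_mem_H⟩ : ↥d.H) ^ (i : ℕ) :=
    Subtype.ext (by simp [coe_hEquiv])
  obtain ⟨ts, hts⟩ : ∃ ts : ↥d.H₀, (ts : G) = t * d.s :=
    ⟨⟨_, d.V_le_H₀ (mul_mem d.t_mem_V d.s_mem_V)⟩, rfl⟩
  have e1 : wH hrw ⟨d.r, d.r_mem_H⟩ = Subgroup.inclusion d.H₀_le_H ts * ⟨d.r, d.r_mem_H⟩ :=
    Subtype.ext (by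
      show d.w * d.r * d.w⁻¹ = _
      rw [hrw, Subgroup.coe_mul, Subgroup.coe_inclusion, hts])
  obtain ⟨h', hh'⟩ : ∃ h' : ↥d.H₀, (h' : G) = d.w * (h : G) * d.w⁻¹ :=
    ⟨⟨_, d.conj_H₀ d.w_mem_N h.2⟩, rfl⟩
  have e2 : wH hrw (Subgroup.inclusion d.H₀_le_H h) = Subgroup.inclusion d.H₀_le_H h' :=
    Subtype.ext (by
      show d.w * (Subgroup.inclusion d.H₀_le_H h : G) * d.w⁻¹ = _
      rw [Subgroup.coe_inclusion, Subgroup.coe_inclusion, hh'])
  have l1 : d.lin 1 μ ts = 1 := by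
    rw [d.lin_apply 1 μ (v := ⟨t * d.s, mul_mem d.t_mem_V d.s_mem_V⟩) (x := 1) (by simp [hts])]
    simp
  have l2 : d.lin 1 μ h' = d.lin 1 μ⁻¹ h := by
    have hxT : ((d.pair h).2 : G) ∈ d.T := d.T₀_le (by rw [hU]; exact (d.pair h).2.2)
    rw [d.lin_apply 1 μ (v := (d.pair h).1) (x := (d.pair h).2⁻¹) ?_,
      d.lin_apply 1 μ⁻¹ (d.coe_H₀_eq h), map_inv, MonoidHom.inv_apply]
    rw [hh', d.coe_H₀_eq h, Subgroup.coe_inv,
      ← d.w_inv _ hxT,
      show d.w * (((d.pair h).1 : G) * ((d.pair h).2 : G)) * d.w⁻¹ =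
        d.w * ((d.pair h).1 : G) * ((d.pair h).2 : G) * d.w⁻¹ by group,
      (d.V_comm_w (d.pair h).1.2).eq]
    group
  simp only [MonoidHom.comp_apply, eg, map_mul, map_pow, e1, e2, extHom_incl, extHom_r, l1, l2,
    one_mul]

/-- Left coset decomposition of `N` over `H`. -/
noncomputable def nEquiv (hrw : d.w * d.r * d.w⁻¹ = t * d.s * d.r) : ↥d.H × Bool ≃ ↥d.N :=
  Equiv.ofBijective (fun q => ⟨(q.1 : G) * (if q.2 then d.w else 1),
      mul_mem (d.H_le_N q.1.2) (by split <;> first | exact d.w_mem_N | exact one_mem _)⟩)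
    ⟨fun a b e => by
      have e' : (a.1 : G) * (if a.2 then d.w else 1) = (b.1 : G) * (if b.2 then d.w else 1) :=
        congrArg Subtype.val e
      have hw : d.w ∉ d.H := fun hw => d.w_not_mem_H₀ (d.V_le_H₀ (mem_H₀_of_sq hw d.w_sq))
      have hb : a.2 = b.2 := by
        rcases a with ⟨a, _ | _⟩ <;> rcases b with ⟨b, _ | _⟩ <;>
          simp only [if_true, Bool.false_eq_true, if_false, mul_one] at e' ⊢
        · exfalso; apply hw
          rw [show d.w = (b : G)⁻¹ * (a : G) by rw [e', inv_mul_cancel_left]]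
          exact mul_mem (inv_mem b.2) a.2
        · exfalso; apply hw
          rw [show d.w = (a : G)⁻¹ * (b : G) by rw [← e', inv_mul_cancel_left]]
          exact mul_mem (inv_mem a.2) b.2
      rw [hb] at e'
      exact Prod.ext (Subtype.ext (mul_right_cancel e')) hb,
    fun n => by
      obtain ⟨h, hh, ⟨b, i⟩, e⟩ := d.exists_rep n.2
      refine ⟨(⟨n * (if b then d.w else 1)⁻¹, ?_⟩, b), Subtype.ext (inv_mul_cancel_right _ _)⟩
      rw [e]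
      cases b
      · simp only [rep, Bool.false_eq_true, if_false, one_mul, inv_one, mul_one]
        exact ⟨h, hh, i, rfl⟩
      · simp only [rep, if_true]
        have := (wH hrw (⟨d.r, d.r_mem_H⟩ ^ (i : ℕ))).2
        rw [show h * (d.w * d.r ^ (i : ℕ)) * d.w⁻¹ = h * (d.w * d.r ^ (i : ℕ) * d.w⁻¹) by group]
        refine mul_mem (d.H₀_le_H hh) ?_
        simpa [wH] using this⟩

/-- The value of the induced function at its own points. -/
theorem fFun_self (hU : d.T₀ = d.U) (h3 : ¬ 3 ∣ Nat.card ↥d.U)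
    (hrw : d.w * d.r * d.w⁻¹ = t * d.s * d.r) {θ : ↥d.U →* ℂˣ} (hr : d.RInv θ) {z z' : ℂˣ}
    (hz : z ^ 3 = 1) (hz' : z' ^ 3 = 1) {b : ↥d.H} (hb : fPsi hr hz b ≠ 0) :
    fFun hr hz' b = fPsi hr hz' b + fPsi hr.inv hz' b := by
  letI := Fintype.ofFinite ↥d.H
  letI := Fintype.ofFinite ↥d.N
  obtain ⟨-, h6, -⟩ := pow_six_mem hU h3 hr hz hb
  simp only [fFun, Cfsg.indFun]
  rw [← Finset.sum_subset (Finset.subset_univ (Finset.univ.filter fun x => x ∈ d.N)) fun x _ hx => ?_]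
  swap
  · by_contra hne
    refine hx (Finset.mem_filter.2 ⟨Finset.mem_univ _, ?_⟩)
    by_cases hm : x⁻¹ * (b : G) * x ∈ d.H
    · rw [extendByZero_of_mem _ _ hm] at hne
      obtain ⟨-, h6', -⟩ := pow_six_mem hU h3 hr hz' hne
      have : x⁻¹ * (b : G) ^ 6 * x⁻¹⁻¹ ∈ d.support := by
        rw [← conj_pow, inv_inv]; exact h6'
      exact inv_mem_iff.1 (d.fusion h6 this)
    · exact absurd (extendByZero_of_not_mem _ _ hm) hne
  rw [Finset.sum_subtype (Finset.univ.filter fun x => x ∈ d.N) (p := fun x => x ∈ d.N)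
    (fun x => by simp) (fun x => Cfsg.extendByZero d.H (fPsi hr hz') (x⁻¹ * b * x)),
    ← Fintype.sum_equiv (nEquiv hrw)
      (fun q => Cfsg.extendByZero d.H (fPsi hr hz') ((nEquiv hrw q : G)⁻¹ * b * (nEquiv hrw q : G)))
      _ (fun q => rfl), Fintype.sum_prod_type]
  have key : ∀ a : ↥d.H, ∑ e : Bool, Cfsg.extendByZero d.H (fPsi hr hz')
      ((nEquiv hrw (a, e) : G)⁻¹ * b * (nEquiv hrw (a, e) : G)) =
      fPsi hr hz' b + fPsi hr.inv hz' b := by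
    intro a
    have hconj : ∀ A : ↥d.H →* ℂˣ, A (a⁻¹ * b * a) = A b := fun A => by
      rw [map_mul, map_mul, map_inv, mul_comm (A a)⁻¹, inv_mul_cancel_right]
    have hf : ((nEquiv hrw (a, false) : G))⁻¹ * b * (nEquiv hrw (a, false) : G) =
        ((a⁻¹ * b * a : ↥d.H) : G) := by
      simp [nEquiv]
    have ht : ((nEquiv hrw (a, true) : G))⁻¹ * b * (nEquiv hrw (a, true) : G) =
        ((wH hrw (a⁻¹ * b * a) : ↥d.H) : G) := by
      show ((a : G) * d.w)⁻¹ * b * ((a : G) * d.w) = d.w * ((a : G)⁻¹ * b * a) * d.w⁻¹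
      rw [mul_inv_rev, d.w_inv']
      group
    have hw : ∀ {μ : ↥d.U →* ℂˣ} (hμ : d.RInv μ) (g : ↥d.H),
        extHom hμ hz' (wH hrw g) = extHom hμ.inv hz' g :=
      fun hμ g => DFunLike.congr_fun (extHom_wH hU hrw hμ hz') g
    have h1 : extHom d.rInv_one.inv hz' = extHom d.rInv_one hz' :=
      (extHom_inj _ _ _ _).2 ⟨MonoidHom.ext fun _ => inv_one, rfl⟩
    rw [Fintype.sum_bool, hf, ht, extendByZero_coe, extendByZero_coe]
    simp only [fPsi, hw, hconj, h1]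
    ring
  rw [Finset.sum_congr rfl fun a _ => key a, Finset.sum_const, Finset.card_univ, nsmul_eq_mul,
    ← Nat.card_eq_fintype_card, inv_mul_cancel_left₀ (subgroup_card_ne_zero d.H)]

theorem classInner_ext [Fintype ↥d.H] {μ μ' : ↥d.U →* ℂˣ} (hμ : d.RInv μ) (hμ' : d.RInv μ')
    {z z' : ℂˣ} (hz : z ^ 3 = 1) (hz' : z' ^ 3 = 1) :
    Cfsg.classInner (fun g => (extHom hμ hz g : ℂ)) (fun g => (extHom hμ' hz' g : ℂ)) =
      if μ = μ' ∧ z = z' then 1 else 0 := by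
  have := Characters.Basic.classInner_irr (linChar (extHom hμ hz)) (linChar (extHom hμ' hz'))
  simp only [linChar_injective.eq_iff, extHom_inj] at this
  exact this

/-- The Gram matrix. -/
theorem inner_fFun [Fintype ↥d.H] (hU : d.T₀ = d.U) (h3 : ¬ 3 ∣ Nat.card ↥d.U)
    (hrw : d.w * d.r * d.w⁻¹ = t * d.s * d.r) {θ : ↥d.U →* ℂˣ} (hθ : d.IsTheta θ) (hr : d.RInv θ)
    {z z' : ℂˣ} (hz : z ^ 3 = 1) (hz' : z' ^ 3 = 1) :
    Cfsg.classInner (fFun hr hz) (fFun hr hz') = if z = z' then 3 else 0 := by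
  rw [show Cfsg.classInner (fFun hr hz) (fFun hr hz') =
      Cfsg.classInner (fPsi hr hz) (fun g : ↥d.H => fPsi hr hz' g + fPsi hr.inv hz' g) by
    conv_lhs => arg 1; rw [fFun]
    rw [frobenius_reciprocity d.H (fPsi hr hz) (χ := fFun hr hz') (isClassFunction_indFun _ _)]
    simp only [Cfsg.classInner]
    congr 1
    refine Finset.sum_congr rfl fun b _ => ?_
    by_cases h : fPsi hr hz b = 0
    · rw [h, zero_mul, zero_mul]
    · rw [fFun_self hU h3 hrw hr hz hz' h]]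
  rw [show (fun g : ↥d.H => fPsi hr hz' g + fPsi hr.inv hz' g) =
      ((fun g => (extHom d.rInv_one hz' g : ℂ)) - fun g => (extHom hr hz' g : ℂ)) +
      ((fun g => (extHom d.rInv_one hz' g : ℂ)) - fun g => (extHom hr.inv hz' g : ℂ)) from rfl,
    show fPsi hr hz =
      (fun g => (extHom d.rInv_one hz g : ℂ)) - fun g => (extHom hr hz g : ℂ) from rfl]
  have hadd : ∀ f a b : ↥d.H → ℂ, Cfsg.classInner f (a + b) =
      Cfsg.classInner f a + Cfsg.classInner f b := fun f a b => by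
    simp only [Cfsg.classInner, Pi.add_apply, map_add, mul_add, Finset.sum_add_distrib]
  simp only [hadd, classInner_sub_left, classInner_sub_right, classInner_ext]
  have n1 : θ ≠ 1 := hθ.ne_one
  have n2 : θ⁻¹ ≠ (1 : ↥d.U →* ℂˣ) := hθ.inv'.ne_one
  have n3 : θ ≠ θ⁻¹ := fun h => hθ.ne_one (IsTheta.eq_one_of_inv_eq h)
  by_cases h : z = z'
  · simp [h, n1, n1.symm, n2.symm, n3]
    norm_num
  · simp [h]

/-- The coefficient of the trivial character. -/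
theorem classInner_fFun_const [Fintype ↥d.H] {θ : ↥d.U →* ℂˣ} (hθ : d.IsTheta θ) (hr : d.RInv θ)
    {z : ℂˣ} (hz : z ^ 3 = 1) :
    Cfsg.classInner (fFun hr hz) (fun _ => 1) = if z = 1 then 1 else 0 := by
  have h1 : (fun _ : ↥d.H => (1 : ℂ)) = fun g => (extHom d.rInv_one (one_pow 3) g : ℂ) := by
    funext g
    obtain ⟨⟨h, i⟩, rfl⟩ := d.hEquiv.surjective g
    rw [extHom_apply, d.lin_apply 1 1 (d.coe_H₀_eq h)]
    simp
  rw [fFun, frobenius_reciprocity d.H _ (fun _ _ => rfl), h1,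
    show fPsi hr hz =
      (fun g => (extHom d.rInv_one hz g : ℂ)) - fun g => (extHom hr hz g : ℂ) from rfl,
    classInner_sub_left, classInner_ext, classInner_ext]
  simp [hθ.ne_one]

/-- The class equation. -/
theorem sum_sq_fFun [Fintype (Cfsg.IrrCharacter G)] [Fintype ↥d.H] [Fintype ↥d.H₀]
    (hU : d.T₀ = d.U) (h3 : ¬ 3 ∣ Nat.card ↥d.U) {θ : ↥d.U →* ℂˣ} (hθ : d.IsTheta θ)
    (hr : d.RInv θ) {z : ℂˣ} (hz : z ^ 3 = 1) :
    ∑ χ : Cfsg.IrrCharacter G,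
        Cfsg.classInner (fFun hr hz) χ * (χ : G → ℂ) t ^ 2 / (χ : G → ℂ) 1 =
      (3 : ℂ)⁻¹ * ∑ χ : Cfsg.IrrCharacter G,
        Cfsg.classInner (d.tiFun 1 1 θ) χ * (χ : G → ℂ) t ^ 2 / (χ : G → ℂ) 1 := by
  have hG : (Nat.card G : ℂ) ≠ 0 := Nat.cast_ne_zero.2 Nat.card_pos.ne'
  have e1 : ∀ χ : Cfsg.IrrCharacter G, Cfsg.classInner (fFun hr hz) χ =
      (Nat.card ↥d.H : ℂ)⁻¹ * ∑ h : ↥d.H, fPsi hr hz h * (χ : G → ℂ) (h : G)⁻¹ := fun χ => by
    rw [fFun, frobenius_reciprocity d.H _ (Characters.Basic.isClassFunction_irr χ), Cfsg.classInner]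
    simp only [Characters.Basic.apply_inv (Characters.Basic.isCharacter_irr χ)]
  have e2 : ∀ h : G, ∑ χ : Cfsg.IrrCharacter G,
      (χ : G → ℂ) h⁻¹ * (χ : G → ℂ) t ^ 2 / (χ : G → ℂ) 1 =
      (Nat.card G : ℂ)⁻¹ *
        ((Nat.card ↥(centralizer ({t} : Set G)) : ℂ) ^ 2 * invPairs h) := fun h => by
    rw [← d.sum_pairs, GorensteinWalter.Four.card_pairs, inv_mul_cancel_left₀ hG]
  rw [tiFun, d.sum_classInner_sq (hθ.support_of_ne 1 1)]
  calc ∑ χ : Cfsg.IrrCharacter G,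
        Cfsg.classInner (fFun hr hz) χ * (χ : G → ℂ) t ^ 2 / (χ : G → ℂ) 1
      = (Nat.card ↥d.H : ℂ)⁻¹ * ∑ h : ↥d.H, fPsi hr hz h *
          ∑ χ : Cfsg.IrrCharacter G,
            (χ : G → ℂ) (h : G)⁻¹ * (χ : G → ℂ) t ^ 2 / (χ : G → ℂ) 1 := by
        simp only [e1, Finset.mul_sum, Finset.sum_mul, Finset.sum_div]
        rw [Finset.sum_comm]
        exact Finset.sum_congr rfl fun h _ => Finset.sum_congr rfl fun χ _ => by ring
    _ = _ := by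
        simp only [e2]
        rw [sum_H_eq _ fun b hb => ?_, d.card_H]
        · simp only [fPsi_incl, Subgroup.coe_inclusion, Finset.mul_sum]
          refine Finset.sum_congr rfl fun h _ => ?_
          push_cast
          field_simp
        · by_cases h : fPsi hr hz b = 0
          · rw [h, zero_mul]
          · rw [invPairs_eq_zero hU h3 hr hz h hb, Nat.cast_zero, mul_zero, mul_zero, mul_zero]

end Finite

end Cfsg.Agent.Lib.JankoThompson.GSide.TorusData
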