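import Cfsg.Agent.Lib.JankoThompson.GSide.Interface
import Cfsg.Agent.Lib.Blocks.Central
import Cfsg.Agent.Lib.H80.ClassMult
import Cfsg.Agent.Lib.GorensteinWalter.Four.Count

/-!
# Janko–Thompson: the table of a separated block (`PropBlock`)

helper37.  Gram matrix and degree relations from the pairing on the section of `t`; the three class
equations from the count of pairs of involutions with product in `t K`.
-/

set_option autoImplicit false
set_option linter.style.haveILetI false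
set_option linter.unusedSectionVars false

universe u

namespace Cfsg.Agent.Lib.JankoThompson.GSide

open Subgroup Cfsg.Agent.Lib.Walter.NoField Cfsg.Agent.Lib.Characters.Basic
open Cfsg.Agent.Lib.Characters.Complete
open scoped ComplexConjugate Classical

/-- What the table needs of the configuration: it also holds for `Q = 3`, which `KleinPart`
excludes. -/
structure SecCfg {G : Type u} [Group G] (t : G) (K : Subgroup G) (Q : ℤ) (c : ℕ) : Prop where
  card_sylow : ∀ S : Sylow 2 G, Nat.card ↥(S : Subgroup G) = 8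
  elementary : ∀ S : Sylow 2 G, Cfsg.IsElementaryAbelian 2 (S : Subgroup G)
  conjG : ∀ x y : G, orderOf x = 2 → orderOf y = 2 → IsConj x y
  ord : orderOf t = 2
  split : Cfsg.IsInternalDirectProduct (zpowers t) K (centralizer ({t} : Set G))
  odd_c : Odd c
  Q_mod : Q % 8 = 3
  card : 2 * (Nat.card ↥K : ℤ) = c * |Q * (Q ^ 2 - 1)|

variable {G : Type u} [Group G] [Fintype G] {t : G} {K : Subgroup G} {Q : ℤ} {c : ℕ}
  (h : SecCfg t K Q c)

include h

theorem SecCfg.t_sq : t * t = 1 := by rw [← pow_two, ← h.ord, pow_orderOf_eq_one]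

theorem SecCfg.t_not_mem : t ∉ K := fun hm => by
  have h1 : t ∈ zpowers t ⊓ K := ⟨mem_zpowers t, hm⟩
  rw [h.split.2.2.2.1, mem_bot] at h1
  have := h.ord
  rw [h1, orderOf_one] at this
  norm_num at this

theorem SecCfg.comm {k : G} (hk : k ∈ K) : Commute k t := sec_comm h.split hk

theorem SecCfg.decomp {u : G} (hu : Commute u t) : u ∈ K ∨ t * u ∈ K := by
  have hm : u ∈ zpowers t ⊔ K := by
    rw [h.split.2.2.2.2]
    exact mem_centralizer_singleton_iff.2 hu.eq
  have hle : zpowers t ≤ normalizer (K : Set G) := by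
    refine zpowers_le.2 (mem_normalizer_iff.2 fun k => ⟨fun hk => ?_, fun hk => ?_⟩)
    · rwa [(h.comm hk).symm.eq, mul_inv_cancel_right]
    · have e : k = t⁻¹ * (t * k * t⁻¹) * t := by group
      rw [(h.comm hk).symm.inv_left.eq, inv_mul_cancel_right] at e
      rwa [e]
  rw [← SetLike.mem_coe, coe_mul_of_left_le_normalizer_right _ _ hle] at hm
  obtain ⟨z, hz, k, hk, rfl⟩ := hm
  obtain ⟨j, rfl⟩ := mem_zpowers_iff.1 hz
  have h2 : t ^ (2 : ℤ) = 1 := by rw [zpow_two, h.t_sq]
  rcases Int.even_or_odd' j with ⟨l, rfl | rfl⟩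
  · exact Or.inl (by simpa [zpow_mul, h2] using hk)
  · exact Or.inr (by simpa [zpow_add, zpow_mul, h2, ← mul_assoc, h.t_sq] using hk)

/-- Two involutions whose product is `t` times an element of `K` of odd order commute with `t`. -/
theorem SecCfg.commute_of_pair {k : ↥K} (hk : ¬ 2 ∣ orderOf (k : G)) {u v : G} (hu : u * u = 1)
    (hv : v * v = 1) (e : u * v = t * (k : G)) : Commute u t ∧ Commute v t := by
  have hodd : Odd (orderOf (k : G)) := Nat.odd_iff.2 (by omega)
  have hpow : (t * (k : G)) ^ orderOf (k : G) = t := by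
    rw [(h.comm k.2).symm.mul_pow, pow_orderOf_eq_one, mul_one]
    obtain ⟨j, hj⟩ := hodd
    rw [hj, pow_succ, pow_mul, pow_two, h.t_sq, one_pow, one_mul]
  have hu' : u⁻¹ = u := inv_eq_of_mul_eq_one_right hu
  have hv' : v⁻¹ = v := inv_eq_of_mul_eq_one_right hv
  have hinv : u * (u * v) * u⁻¹ = (u * v)⁻¹ := by rw [mul_inv_rev, hu', hv', ← mul_assoc, hu, one_mul]
  have h1 : u * t * u⁻¹ = t := by
    have h2 := congrArg (fun z => z ^ orderOf (k : G)) hinv
    simp only [conj_pow, inv_pow, e, hpow] at h2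
    rw [h2]
    exact inv_eq_of_mul_eq_one_right h.t_sq
  have hut : Commute u t := mul_inv_eq_iff_eq_mul.1 h1
  refine ⟨hut, ?_⟩
  have hkt : Commute (t * (k : G)) t := (Commute.refl t).mul_left (h.comm k.2)
  have e2 : v = u * (t * (k : G)) := by rw [← e, ← mul_assoc, hu, one_mul]
  rw [e2]
  exact hut.mul_left hkt

/-- The involution pairs with product `t k`. -/
theorem SecCfg.card_pairs_tk {k : ↥K} (hk : ¬ 2 ∣ orderOf (k : G)) :
    Nat.card {p : G × G // orderOf p.1 = 2 ∧ orderOf p.2 = 2 ∧ p.1 * p.2 = t * (k : G)} =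
      2 * pairs K k := by
  have ht1 : t ≠ 1 := fun e => h.t_not_mem (e ▸ K.one_mem)
  have hord : ∀ {z : G}, z * z = 1 → z ≠ 1 → orderOf z = 2 := fun {z} hz h1 =>
    orderOf_eq_prime (by rw [pow_two]; exact hz) h1
  have hsq : ∀ {z : G}, orderOf z = 2 → z * z = 1 := fun {z} hz => by
    rw [← pow_two, ← hz, pow_orderOf_eq_one]
  have hsqK : ∀ {e : ↥K}, orderOf e = 2 → (e : G) * e = 1 := fun {e} he =>
    hsq (by rw [Subgroup.orderOf_coe]; exact he)
  have hte : ∀ {e : ↥K}, orderOf e = 2 → orderOf (t * (e : G)) = 2 := fun {e} he => by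
    refine hord ?_ fun e1 => h.t_not_mem ?_
    · calc t * (e : G) * (t * e) = t * ((e : G) * t) * e := by group
        _ = t * t * ((e : G) * e) := by rw [(h.comm e.2).eq]; group
        _ = 1 := by rw [h.t_sq, one_mul, hsqK he]
    · rw [eq_inv_of_mul_eq_one_left e1]
      exact inv_mem e.2
  let f : Bool × {p : ↥K × ↥K // orderOf p.1 = 2 ∧ orderOf p.2 = 2 ∧ p.1 * p.2 = k} →
      {p : G × G // orderOf p.1 = 2 ∧ orderOf p.2 = 2 ∧ p.1 * p.2 = t * (k : G)} := fun b =>
    if b.1 then ⟨(t * (b.2.1.1 : G), (b.2.1.2 : G)),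
      hte b.2.2.1, by rw [Subgroup.orderOf_coe]; exact b.2.2.2.1,
      by rw [mul_assoc, ← Subgroup.coe_mul, b.2.2.2.2]⟩
    else ⟨((b.2.1.1 : G), t * (b.2.1.2 : G)),
      by rw [Subgroup.orderOf_coe]; exact b.2.2.1, hte b.2.2.2.1,
      by rw [← mul_assoc, (h.comm b.2.1.1.2).eq, mul_assoc, ← Subgroup.coe_mul, b.2.2.2.2]⟩
  have hinj : Function.Injective f := by
    rintro ⟨b, ⟨p, q⟩, hp⟩ ⟨b', ⟨p', q'⟩, hp'⟩ e
    have e' := congrArg Subtype.val e
    cases b <;> cases b'
    · have e1 := congrArg Prod.fst e'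
      have e2 := congrArg Prod.snd e'
      simp only [f] at e1 e2
      obtain rfl : p = p' := Subtype.ext e1
      obtain rfl : q = q' := Subtype.ext (mul_left_cancel e2)
      rfl
    · have e1 := congrArg Prod.fst e'
      simp only [f] at e1
      exact absurd (by rw [show t = (p : G) * (p' : G)⁻¹ by rw [eq_mul_inv_iff_mul_eq]; exact e1.symm]
                       exact mul_mem p.2 (inv_mem p'.2)) h.t_not_mem
    · have e1 := congrArg Prod.fst e'
      simp only [f] at e1
      exact absurd (by rw [show t = (p' : G) * (p : G)⁻¹ by rw [eq_mul_inv_iff_mul_eq]; exact e1]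
                       exact mul_mem p'.2 (inv_mem p.2)) h.t_not_mem
    · have e1 := congrArg Prod.fst e'
      have e2 := congrArg Prod.snd e'
      simp only [f] at e1 e2
      obtain rfl : p = p' := Subtype.ext (mul_left_cancel e1)
      obtain rfl : q = q' := Subtype.ext e2
      rfl
  have hsurj : Function.Surjective f := by
    rintro ⟨⟨u, v⟩, hu, hv, e⟩
    obtain ⟨hut, hvt⟩ := h.commute_of_pair hk (hsq hu) (hsq hv) e
    have hodd1 : ∀ {z : ↥K}, (z : G) * z = 1 → z ≠ 1 → orderOf z = 2 := fun {z} hz h1 => by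
      rw [← Subgroup.orderOf_coe]
      exact hord hz fun e1 => h1 (Subtype.ext e1)
    have hne : ∀ {z : ↥K}, (z : G) * z = 1 → z = k → z = 1 := fun {z} hz hzk => by
      by_contra h1
      apply hk
      rw [← hzk, Subgroup.orderOf_coe, hodd1 hz h1]
    rcases h.decomp hut with huK | huK
    · have hvK : t * v ∈ K := by
        rcases h.decomp hvt with hvK | hvK
        · refine absurd ?_ h.t_not_mem
          have := mul_mem (mul_mem huK hvK) (inv_mem k.2)
          rwa [e, mul_inv_cancel_right] at this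
        · exact hvK
      have e' : u * (t * v) = (k : G) := by
        rw [← mul_assoc, hut.eq, mul_assoc, e, ← mul_assoc, h.t_sq, one_mul]
      have htv : t * v * (t * v) = 1 := by
        calc t * v * (t * v) = t * (v * t) * v := by group
          _ = t * t * (v * v) := by rw [hvt.eq]; group
          _ = 1 := by rw [h.t_sq, hsq hv, one_mul]
      refine ⟨(false, ⟨(⟨u, huK⟩, ⟨t * v, hvK⟩), ?_, ?_, Subtype.ext e'⟩), ?_⟩
      · exact hodd1 (hsq hu) fun e1 => by
          have := congrArg Subtype.val e1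
          simp only [OneMemClass.coe_one] at this
          rw [this, orderOf_one] at hu
          norm_num at hu
      · refine hodd1 htv fun e1 => ?_
        have e2 : t * v = 1 := congrArg Subtype.val e1
        have e3 : (⟨u, huK⟩ : ↥K) = k := Subtype.ext (by rw [← e', e2, mul_one])
        have := congrArg Subtype.val (hne (hsq hu) e3)
        simp only [OneMemClass.coe_one] at this
        rw [this, orderOf_one] at hu
        norm_num at hu
      · refine Subtype.ext (Prod.ext rfl ?_)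
        show t * (t * v) = v
        rw [← mul_assoc, h.t_sq, one_mul]
    · have hvK : v ∈ K := by
        have e' : (t * u) * v = (k : G) := by rw [mul_assoc, e, ← mul_assoc, h.t_sq, one_mul]
        have := mul_mem (inv_mem huK) (e'.symm ▸ k.2 : (t * u) * v ∈ K)
        rwa [inv_mul_cancel_left] at this
      have e' : (t * u) * v = (k : G) := by rw [mul_assoc, e, ← mul_assoc, h.t_sq, one_mul]
      have htu : t * u * (t * u) = 1 := by
        calc t * u * (t * u) = t * (u * t) * u := by group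
          _ = t * t * (u * u) := by rw [hut.eq]; group
          _ = 1 := by rw [h.t_sq, hsq hu, one_mul]
      refine ⟨(true, ⟨(⟨t * u, huK⟩, ⟨v, hvK⟩), ?_, ?_, Subtype.ext e'⟩), ?_⟩
      · refine hodd1 htu fun e1 => ?_
        have e2 : t * u = 1 := congrArg Subtype.val e1
        have e3 : (⟨v, hvK⟩ : ↥K) = k := Subtype.ext (by rw [← e', e2, one_mul])
        have := congrArg Subtype.val (hne (hsq hv) e3)
        simp only [OneMemClass.coe_one] at this
        rw [this, orderOf_one] at hv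
        norm_num at hv
      · exact hodd1 (hsq hv) fun e1 => by
          have := congrArg Subtype.val e1
          simp only [OneMemClass.coe_one] at this
          rw [this, orderOf_one] at hv
          norm_num at hv
      · refine Subtype.ext (Prod.ext ?_ rfl)
        show t * (t * u) = u
        rw [← mul_assoc, h.t_sq, one_mul]
  rw [← Nat.card_congr (Equiv.ofBijective f ⟨hinj, hsurj⟩), Nat.card_prod, Nat.card_eq_fintype_card,
    Fintype.card_bool, pairs]

omit h in
theorem pairs_inv (k : ↥K) : pairs K k⁻¹ = pairs K k := by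
  have e : ∀ {a : ↥K}, orderOf a = 2 → a⁻¹ = a := fun {a} ha =>
    inv_eq_of_mul_eq_one_right (by rw [← pow_two, ← ha, pow_orderOf_eq_one])
  refine Nat.card_congr
    { toFun := fun p => ⟨(p.1.2, p.1.1), p.2.2.1, p.2.1, ?_⟩
      invFun := fun p => ⟨(p.1.2, p.1.1), p.2.2.1, p.2.1, ?_⟩
      left_inv := fun p => rfl
      right_inv := fun p => rfl }
  · rw [← e p.2.2.1, ← e p.2.1, ← mul_inv_rev, p.2.2.2, inv_inv]
  · rw [← e p.2.2.1, ← e p.2.1, ← mul_inv_rev, p.2.2.2]

/-- The class sum on the section of `t`. -/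
theorem SecCfg.sum_sq_apply [Fintype (Cfsg.IrrCharacter G)] {k : ↥K} (hk : ¬ 2 ∣ orderOf (k : G)) :
    ∑ χ : Cfsg.IrrCharacter G,
        (χ : G → ℂ) t ^ 2 / (χ : G → ℂ) 1 * (χ : G → ℂ) (t * (k : G)) =
      (Nat.card ↥(centralizer ({t} : Set G)) : ℂ) ^ 2 / (Nat.card G : ℂ) * (2 * (pairs K k : ℂ)) := by
  set C := centralizer ({t} : Set G) with hC
  have hsum := GorensteinWalter.Four.card_pairs t (t * (k : G))
  rw [← Nat.cast_sum, ← Nat.card_sigma] at hsum
  have hne : ∀ z : {z : G // orderOf z = 2}, ∃ g : G, g * t * g⁻¹ = (z : G) := fun z =>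
    isConj_iff.1 (h.conjG t z h.ord z.2)
  choose r hr using hne
  have hk' : ¬ 2 ∣ orderOf ((k⁻¹ : ↥K) : G) := by
    rwa [Subgroup.coe_inv, orderOf_inv]
  set P := {p : G × G // orderOf p.1 = 2 ∧ orderOf p.2 = 2 ∧ p.1 * p.2 = t * ((k⁻¹ : ↥K) : G)} with hP
  have hinvtk : (t * (k : G))⁻¹ = t * ((k⁻¹ : ↥K) : G) := by
    rw [mul_inv_rev, inv_eq_of_mul_eq_one_right h.t_sq, Subgroup.coe_inv, (h.comm k.2).inv_left.eq]
  have hmemC : ∀ {g : G} {z : {z : G // orderOf z = 2}}, g * t * g⁻¹ = (z : G) → (r z)⁻¹ * g ∈ C := by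
    intro g z hg
    rw [hC, mem_centralizer_singleton_iff]
    have e : g * t * g⁻¹ = r z * t * (r z)⁻¹ := by rw [hg, hr]
    calc (r z)⁻¹ * g * t = (r z)⁻¹ * (g * t * g⁻¹) * g := by group
      _ = t * ((r z)⁻¹ * g) := by rw [e]; group
  let toP : (Σ p : G, {q : G // t * (k : G) * (p * t * p⁻¹) * (q * t * q⁻¹) = 1}) → P := fun a =>
    ⟨(a.1 * t * a.1⁻¹, a.2.1 * t * a.2.1⁻¹), by
      rw [Involutions.Basic.orderOf_conj_eq]; exact h.ord, by
      rw [Involutions.Basic.orderOf_conj_eq]; exact h.ord, by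
      rw [← hinvtk]
      refine eq_inv_of_mul_eq_one_right ?_
      rw [← mul_assoc]; exact a.2.2⟩
  let e : (Σ p : G, {q : G // t * (k : G) * (p * t * p⁻¹) * (q * t * q⁻¹) = 1}) ≃ P × ↥C × ↥C :=
    { toFun := fun a => (toP a,
        ⟨(r ⟨_, (toP a).2.1⟩)⁻¹ * a.1, hmemC rfl⟩, ⟨(r ⟨_, (toP a).2.2.1⟩)⁻¹ * a.2.1, hmemC rfl⟩)
      invFun := fun b => ⟨r ⟨_, b.1.2.1⟩ * b.2.1, r ⟨_, b.1.2.2.1⟩ * b.2.2, by
        have hc : ∀ (z : {z : G // orderOf z = 2}) (x : ↥C),
            r z * (x : G) * t * (r z * (x : G))⁻¹ = (z : G) := fun z x => by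
          have hx := mem_centralizer_singleton_iff.1 x.2
          calc r z * (x : G) * t * (r z * (x : G))⁻¹
              = r z * ((x : G) * t * (x : G)⁻¹) * (r z)⁻¹ := by group
            _ = r z * t * (r z)⁻¹ := by rw [hx, mul_inv_cancel_right]
            _ = _ := hr z
        rw [hc, hc, mul_assoc, b.1.2.2.2, ← hinvtk, mul_inv_cancel]⟩
      left_inv := fun a => Sigma.subtype_ext (mul_inv_cancel_left _ _) (mul_inv_cancel_left _ _)
      right_inv := fun b => by
        have hc : ∀ (z : {z : G // orderOf z = 2}) (x : ↥C),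
            r z * (x : G) * t * (r z * (x : G))⁻¹ = (z : G) := fun z x => by
          have hx := mem_centralizer_singleton_iff.1 x.2
          calc r z * (x : G) * t * (r z * (x : G))⁻¹
              = r z * ((x : G) * t * (x : G)⁻¹) * (r z)⁻¹ := by group
            _ = r z * t * (r z)⁻¹ := by rw [hx, mul_inv_cancel_right]
            _ = _ := hr z
        obtain ⟨⟨⟨u, v⟩, hu, hv, huv⟩, x, y⟩ := b
        have h1 := hc ⟨u, hu⟩ x
        have h2 := hc ⟨v, hv⟩ y
        refine Prod.ext (Subtype.ext (Prod.ext h1 h2)) (Prod.ext (Subtype.ext ?_) (Subtype.ext ?_))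
        · show (r ⟨_, _⟩)⁻¹ * (r ⟨u, hu⟩ * (x : G)) = x
          simp only [toP, h1, inv_mul_cancel_left]
        · show (r ⟨_, _⟩)⁻¹ * (r ⟨v, hv⟩ * (y : G)) = y
          simp only [toP, h2, inv_mul_cancel_left] }
  rw [Nat.card_congr e, Nat.card_prod, Nat.card_prod, hP, h.card_pairs_tk hk', pairs_inv] at hsum
  push_cast at hsum
  have hG : (Nat.card G : ℂ) ≠ 0 := Nat.cast_ne_zero.2 Nat.card_pos.ne'
  rw [div_mul_eq_mul_div, eq_div_iff hG, mul_comm]
  refine Eq.trans ?_ (hsum.symm.trans (by ring))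
  refine congrArg _ (Finset.sum_congr rfl fun χ _ => by ring)

/-- The multiplicity congruence modulo eight. -/
theorem SecCfg.eight_dvd (χ : Cfsg.IrrCharacter G) {d T : ℤ} (hd : (d : ℂ) = (χ : G → ℂ) 1)
    (hT : (T : ℂ) = (χ : G → ℂ) t) : (8 : ℤ) ∣ d - T := by
  haveI : Fact (Nat.Prime 2) := ⟨Nat.prime_two⟩
  obtain ⟨S⟩ := (inferInstance : Nonempty (Sylow 2 G))
  obtain ⟨n, hn⟩ := H80.ClassMult.exists_sum_subgroup χ (S : Subgroup G)
  rw [h.card_sylow S, ← Finset.add_sum_erase _ _ (Finset.mem_univ (1 : ↥(S : Subgroup G))),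
    Finset.sum_congr rfl (g := fun _ => (χ : G → ℂ) t) fun s hs => ?_] at hn
  · rw [Finset.sum_const, Finset.card_erase_of_mem (Finset.mem_univ _), Finset.card_univ,
      ← Nat.card_eq_fintype_card, h.card_sylow S, OneMemClass.coe_one, ← hd, ← hT, nsmul_eq_mul] at hn
    have h1 : d + 7 * T = 8 * (n : ℤ) := by
      apply Int.cast_injective (α := ℂ)
      push_cast at hn ⊢
      linear_combination hn
    omega
  · have hs1 : (s : G) ≠ 1 := fun e => Finset.ne_of_mem_erase hs (Subtype.ext e)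
    refine (classFunction_apply_of_isConj (isClassFunction_irr χ)
      (h.conjG t s h.ord (orderOf_eq_prime ((h.elementary S).2 _ s.2) hs1))).symm

variable [Fintype ↥K] [Fintype (Cfsg.IrrCharacter G)]

/-- The class equation of one projective function. -/
theorem SecCfg.class_eq {g : Fin 3 → ↥K → ℂ} (hg : IsProj K Q c g) (i : Fin 3) :
    ∑ χ : Cfsg.IrrCharacter G,
        secCoeff t K (χ : G → ℂ) (g i) * ((χ : G → ℂ) t ^ 2 / (χ : G → ℂ) 1) =
      ((Q : ℂ) * ((Q : ℂ) - 1)) ^ 2 / ((centralizer ({t} : Set G)).index : ℂ) *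
        (if i = 0 then ((Q : ℂ) + 1) / Q else (3 * (Q : ℂ) - 1) / ((Q : ℂ) * ((Q : ℂ) - 1))) := by
  set r : ℂ := (Nat.card ↥(centralizer ({t} : Set G)) : ℂ) ^ 2 / (Nat.card G : ℂ) with hr
  have h1 : ∑ χ : Cfsg.IrrCharacter G,
      secCoeff t K (χ : G → ℂ) (g i) * ((χ : G → ℂ) t ^ 2 / (χ : G → ℂ) 1) =
      r * 2 * Cfsg.classInner (fun k => (pairs K k : ℂ)) (g i) := by
    calc _ = (Nat.card ↥K : ℂ)⁻¹ * ∑ k : ↥K, (∑ χ : Cfsg.IrrCharacter G,
          (χ : G → ℂ) t ^ 2 / (χ : G → ℂ) 1 * (χ : G → ℂ) (t * (k : G))) * conj (g i k) := by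
          simp only [secCoeff, Cfsg.classInner, Finset.mul_sum, Finset.sum_mul]
          rw [Finset.sum_comm]
          exact Finset.sum_congr rfl fun k _ => Finset.sum_congr rfl fun χ _ => by ring
      _ = (Nat.card ↥K : ℂ)⁻¹ * ∑ k : ↥K, r * (2 * (pairs K k : ℂ)) * conj (g i k) := by
          refine congrArg _ (Finset.sum_congr rfl fun k _ => ?_)
          by_cases hk : 2 ∣ orderOf (k : G)
          · rw [hg.supp i k hk]; simp
          · rw [h.sum_sq_apply hk, hr]
      _ = _ := by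
          simp only [Cfsg.classInner, Finset.mul_sum]
          exact Finset.sum_congr rfl fun k _ => by ring
  rw [h1, hg.pairs_eq i, ← mul_assoc]
  congr 1
  have hC := sec_card h.split h.ord
  have hGn := (centralizer ({t} : Set G)).card_mul_index
  have hn : ((centralizer ({t} : Set G)).index : ℂ) ≠ 0 :=
    Nat.cast_ne_zero.2 index_ne_zero_of_finite
  have hK : (Nat.card ↥K : ℂ) ≠ 0 := Nat.cast_ne_zero.2 Nat.card_pos.ne'
  have hQ := h.Q_mod
  have hQ1' : Q + 1 ≠ 0 := by omega
  have hQ1 : (Q : ℂ) + 1 ≠ 0 := by exact_mod_cast hQ1'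
  have hc : (c : ℂ) ≠ 0 := Nat.cast_ne_zero.2 h.odd_c.pos.ne'
  have hcard : (2 * (Nat.card ↥K : ℂ)) ^ 2 =
      (c : ℂ) ^ 2 * ((Q : ℂ) * ((Q : ℂ) ^ 2 - 1)) ^ 2 := by
    have e := congrArg (fun x : ℤ => x ^ 2) h.card
    simp only [mul_pow, sq_abs] at e
    rw [mul_pow, mul_pow]
    exact_mod_cast e
  have habs : ((|Q + 1| : ℤ) : ℂ) ^ 2 = ((Q : ℂ) + 1) ^ 2 := by exact_mod_cast sq_abs (Q + 1)
  rw [hr, ← hGn, hC]
  push_cast
  simp only [mul_pow, habs]
  field_simp
  linear_combination hcard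

omit [Fintype ↥K] in
/-- The degree of a character divides the index times the value at `t`. -/
theorem SecCfg.dvd_index_mul (χ : Cfsg.IrrCharacter G) {d T : ℤ} (hd : (d : ℂ) = (χ : G → ℂ) 1)
    (hd0 : d ≠ 0) (hT : (T : ℂ) = (χ : G → ℂ) t) :
    d ∣ ((centralizer ({t} : Set G)).index : ℤ) * T := by
  have hint := Blocks.isIntegral_centralChar χ t
  rw [Cfsg.centralChar, ← hT, ← hd] at hint
  have he : ((centralizer ({t} : Set G)).index : ℂ) * (T : ℂ) / (d : ℂ) =
      algebraMap ℚ ℂ ((((centralizer ({t} : Set G)).index : ℤ) * T : ℤ) / (d : ℚ)) := by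
    simp
  rw [he, isIntegral_algebraMap_iff (algebraMap ℚ ℂ).injective] at hint
  obtain ⟨w, hw⟩ := IsIntegrallyClosed.isIntegral_iff.mp hint
  refine ⟨w, ?_⟩
  apply Int.cast_injective (α := ℚ)
  have hd' : (d : ℚ) ≠ 0 := Int.cast_ne_zero.2 hd0
  rw [eq_div_iff hd'] at hw
  push_cast at hw ⊢
  simp only [algebraMap_int_eq, eq_intCast] at hw
  linear_combination -hw

/-- Separated projective functions give a table. -/
theorem SecCfg.exists_table {g : Fin 3 → ↥K → ℂ} (hg : IsProj K Q c g) (hsep : IsSep t K Q g) :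
    ∃ X : BTab (Cfsg.IrrCharacter G), IsTable t K Q g X := by
  have hex : ∀ χ : Cfsg.IrrCharacter G, ∀ i, ∃ z : ℤ, secCoeff t K (χ : G → ℂ) (g i) = z := fun χ i =>
    exists_secCoeff_int h.split h.ord χ (hg.gen i)
  choose z hz using hex
  have hT : ∀ χ : Cfsg.IrrCharacter G, ∃ T : ℤ, (χ : G → ℂ) t = T := fun χ => by
    obtain ⟨n, hn⟩ := H80.ClassMult.exists_sum_subgroup χ (zpowers t)
    obtain ⟨d, -, hd⟩ := exists_degree_pos χ
    have h2 : Nat.card ↥(zpowers t) = 2 := by rw [Nat.card_zpowers, h.ord]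
    have ht1 : t ≠ 1 := fun e => h.t_not_mem (e ▸ K.one_mem)
    have hu : (Finset.univ : Finset ↥(zpowers t)) = {1, ⟨t, mem_zpowers t⟩} := by
      refine (Finset.eq_univ_of_card _ ?_).symm
      rw [Finset.card_pair fun e => ht1 (congrArg Subtype.val e).symm, ← Nat.card_eq_fintype_card, h2]
    rw [hu, Finset.sum_pair (fun e => ht1 (congrArg Subtype.val e).symm), h2,
      OneMemClass.coe_one, hd] at hn
    exact ⟨2 * (n : ℤ) - d, by push_cast; linear_combination hn⟩
  choose T hT using hT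
  have hd : ∀ χ : Cfsg.IrrCharacter G, ∃ d : ℤ, 0 < d ∧ (χ : G → ℂ) 1 = d := fun χ => by
    obtain ⟨d, hd0, hd⟩ := exists_degree_pos χ
    exact ⟨d, by exact_mod_cast hd0, by rw [hd]; simp⟩
  choose d hd0 hd using hd
  have hQb := h.Q_mod
  have hQ0 : Q ≠ 0 := by omega
  have hQ1 : Q - 1 ≠ 0 := by omega
  have hQ2 : Q + 1 ≠ 0 := by omega
  set N : ℕ := (centralizer ({t} : Set G)).index with hN
  have hN0 : (N : ℂ) ≠ 0 := Nat.cast_ne_zero.2 index_ne_zero_of_finite
  have gram : ∀ i j, ∑ χ, z χ i * z χ j = if i = j then 4 else 2 := fun i j => by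
    apply Int.cast_injective (α := ℂ)
    have hs := sum_secCoeff_mul (G := G) h.split h.ord (hg.class_fn i) (hg.supp i) (hg.supp j)
    rw [hg.gram j i] at hs
    push_cast
    rw [Finset.sum_congr rfl fun χ _ => show ((z χ i : ℂ) * (z χ j : ℂ)) =
        secCoeff t K (χ : G → ℂ) (g i) * conj (secCoeff t K (χ : G → ℂ) (g j)) by
      rw [hz, hz, map_intCast], hs]
    split_ifs with h1 h2 h2
    · norm_num
    · exact absurd h1.symm h2
    · exact absurd h2.symm h1
    · norm_num
  have deg : ∀ i, ∑ χ, d χ * z χ i = 0 := fun i => by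
    apply Int.cast_injective (α := ℂ)
    push_cast
    simp only [← hd, ← hz, secCoeff, Cfsg.classInner, Finset.mul_sum]
    rw [Finset.sum_comm]
    refine Finset.sum_eq_zero fun k _ => ?_
    have hne : t * (k : G) ≠ 1 := fun e => h.t_not_mem (by
      rw [eq_inv_of_mul_eq_one_left e]; exact inv_mem k.2)
    calc ∑ χ : Cfsg.IrrCharacter G, (χ : G → ℂ) 1 *
          ((Nat.card ↥K : ℂ)⁻¹ * ((χ : G → ℂ) (t * (k : G)) * conj (g i k)))
        = (Nat.card ↥K : ℂ)⁻¹ * ((∑ χ : Cfsg.IrrCharacter G,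
          (χ : G → ℂ) 1 * (χ : G → ℂ) (t * (k : G))) * conj (g i k)) := by
          rw [Finset.sum_mul, Finset.mul_sum]
          exact Finset.sum_congr rfl fun χ _ => by ring
      _ = 0 := by rw [sum_degree_mul_apply, if_neg hne]; simp
  have eqn : ∀ i (v : ℚ), ((Q : ℂ) * ((Q : ℂ) - 1)) ^ 2 / (N : ℂ) *
      (if i = 0 then ((Q : ℂ) + 1) / Q else (3 * (Q : ℂ) - 1) / ((Q : ℂ) * ((Q : ℂ) - 1))) = (v : ℂ) →
      ∑ χ, (z χ i : ℚ) * (T χ : ℚ) ^ 2 / d χ = v := fun i v hv => by
    apply Rat.cast_injective (α := ℂ)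
    rw [← hv, hN, ← h.class_eq hg i, Rat.cast_sum]
    refine Finset.sum_congr rfl fun χ _ => ?_
    rw [hz, hT, hd]
    push_cast
    ring
  have hQc : (Q : ℂ) ≠ 0 := Int.cast_ne_zero.2 hQ0
  have hQc1 : (Q : ℂ) - 1 ≠ 0 := by exact_mod_cast hQ1
  have hQc2 : (Q : ℂ) + 1 ≠ 0 := by exact_mod_cast hQ2
  have hm : 2 * ((Q - 1) / 2) = Q - 1 := by have := h.Q_mod; omega
  refine ⟨{ Q := Q, m := (Q - 1) / 2, hm := hm, hQ8 := h.Q_mod, K := kConst t Q
            Nt := (N : ℤ), d := d, T := T, a := fun χ => z χ 0, b := fun χ => z χ 1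
            c := fun χ => z χ 2, d_pos := hd0
            hK := ?_, hNt := ?_, T_le := ?_, hT := ?_, cong := ?_, omega := ?_
            aa := by simpa using gram 0 0
            bb := by simpa using gram 1 1
            cc := by simpa using gram 2 2
            ab := by simpa using gram 0 1
            ac := by simpa using gram 0 2
            bc := by simpa using gram 1 2
            da := deg 0, db := deg 1, dc := deg 2
            eqA := eqn 0 _ ?_, eqB := eqn 1 _ ?_, eqC := eqn 2 _ ?_ },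
    rfl, rfl, fun χ => (hd χ).symm, fun χ => (hT χ).symm, fun χ => (hz χ 0).symm,
    fun χ => (hz χ 1).symm, fun χ => (hz χ 2).symm⟩
  · rw [kConst]
    refine div_ne_zero (mul_ne_zero (Int.cast_ne_zero.2 hQ0) ?_)
      (Nat.cast_ne_zero.2 index_ne_zero_of_finite)
    have : Q ^ 2 - 1 ≠ 0 := by
      rw [show Q ^ 2 - 1 = (Q + 1) * (Q - 1) by ring]; exact mul_ne_zero hQ2 hQ1
    exact_mod_cast this
  · rw [kConst, ← hN, Int.cast_natCast, mul_div_cancel₀ _ (Nat.cast_ne_zero.2 index_ne_zero_of_finite)]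
  · intro χ
    have h1 := norm_apply_le (isCharacter_irr χ) t
    rw [hT, hd, Complex.norm_intCast, Complex.norm_intCast] at h1
    have h1' : |T χ| ≤ |d χ| := by exact_mod_cast h1
    rwa [abs_of_pos (hd0 χ)] at h1'
  · intro χ hχ
    have hex' : ∃ i, secCoeff t K (χ : G → ℂ) (g i) ≠ 0 := by
      rcases hχ with e | e | e
      exacts [⟨0, by rw [hz]; exact_mod_cast e⟩, ⟨1, by rw [hz]; exact_mod_cast e⟩,
        ⟨2, by rw [hz]; exact_mod_cast e⟩]
    have hs := hsep χ hex'
    rw [hT, hz, hz, hz] at hs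
    apply Int.cast_injective (α := ℂ)
    push_cast
    have hmc : (2 : ℂ) * (((Q - 1) / 2 : ℤ) : ℂ) = (Q : ℂ) - 1 := by exact_mod_cast hm
    linear_combination hs - ((z χ 1 : ℂ) + z χ 2) / 2 * hmc
  · exact fun χ => h.eight_dvd χ (hd χ).symm (hT χ).symm
  · exact fun χ => h.dvd_index_mul χ (hd χ).symm (hd0 χ).ne' (hT χ).symm
  · simp only [kConst, if_true, ← hN]
    push_cast
    field_simp
    ring
  · simp only [kConst, if_neg (show (1 : Fin 3) ≠ 0 by decide), ← hN]
    push_cast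
    field_simp
    ring
  · simp only [kConst, if_neg (show (2 : Fin 3) ≠ 0 by decide), ← hN]
    push_cast
    field_simp
    ring

omit h

/-- The configuration of `Cent` has what the table needs. -/
theorem Cent.toSecCfg {G : Type u} [Group G] {t : G} {K : Subgroup G} {Q : ℤ} {c : ℕ}
    (h : Cent t K Q c) : SecCfg t K Q c :=
  ⟨h.card_sylow, h.elementary, h.conjG, h.ord, h.split, h.part.odd_c, h.part.Q_mod, h.part.card⟩

section Cent

variable {G : Type u} [Group G] [Fintype G] {t : G} {K : Subgroup G} {Q : ℤ} {c : ℕ}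
  (hC : Cent t K Q c)

include hC

theorem Cent.t_sq : t * t = 1 := hC.toSecCfg.t_sq

theorem Cent.t_not_mem : t ∉ K := hC.toSecCfg.t_not_mem

theorem Cent.comm {k : G} (hk : k ∈ K) : Commute k t := hC.toSecCfg.comm hk

theorem Cent.decomp {u : G} (hu : Commute u t) : u ∈ K ∨ t * u ∈ K := hC.toSecCfg.decomp hu

end Cent

/-- Separated projective functions give a table. -/
theorem propBlock : PropBlock.{u} :=
  fun _ _ _ _ _ _ _ _ _ _ h hg hsep => h.toSecCfg.exists_table hg hsep

end Cfsg.Agent.Lib.JankoThompson.GSide
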