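import Cfsg.Agent.Lib.JankoThompson.GSide.Twist
import Cfsg.Agent.Lib.JankoThompson.GSide.Block
import Cfsg.Agent.Lib.Blocks.BlockPart

/-!
# Janko–Thompson: the blocks over the linear characters of `K` are separated on the section of `t`

Let `S ∋ t` be a Sylow 2-subgroup and let `N(S)` centralise the elements of odd order of `C(S)`
(`FixedOdd`; nothing for `c = 1`).  The pair of the twisted principal block at `S` is fixed by
`N(S)`, so a block of `G` over it has only one pair at `⟨t⟩`, and the second main theorem gives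
`IsSep` for projective functions spanning the principal block of `K` (`PropProjBlock`).

Owner: helper68.
-/

set_option autoImplicit false
set_option linter.style.haveILetI false
set_option linter.unusedSectionVars false

universe u

namespace Cfsg.Agent.Lib.JankoThompson.GSide

open Subgroup MonoidAlgebra
open Cfsg.Agent.Lib.Walter.NoField
open Cfsg.Agent.Lib.BrauerMap.Basic Cfsg.Agent.Lib.BrauerMap.ClassSum
open Cfsg.Agent.Lib.BrauerMap.SecondMain
open Cfsg.Agent.Lib.BrauerPairs
open Cfsg.Agent.Lib.BrauerPairs.Center Cfsg.Agent.Lib.BrauerPairs.Trunc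
open Cfsg.Agent.Lib.BrauerPairs.Conj Cfsg.Agent.Lib.BrauerPairs.Pairs
open Cfsg.Agent.Lib.BrauerPairs.Transport Cfsg.Agent.Lib.BrauerPairs.Maximal
open Cfsg.Agent.Lib.BrauerPairs.Bridge (Res charP_res blk)
open Cfsg.Agent.Lib.Blocks Cfsg.Agent.Lib.Characters.Basic
open scoped ComplexConjugate

attribute [local instance] Ideal.Quotient.field

/-! ## The statements -/

/-- The functions span the principal block and recombine to its regular function. -/
def PrincSpan {G : Type u} [Group G] [Finite G] (M : Ideal Cfsg.AlgInt) (K : Subgroup G)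
    [Fintype ↥K] (Q : ℤ) (g : Fin 3 → ↥K → ℂ) : Prop :=
  (∀ i k, g i k = Cfsg.blockPart (Cfsg.principalBlock M ↥K) (g i) k) ∧
    ∀ k, g 0 k + ((Q : ℂ) - 1) / 2 * (g 1 k + g 2 k) =
      ∑ᶠ θ ∈ Cfsg.principalBlock M ↥K, (θ : ↥K → ℂ) 1 * (θ : ↥K → ℂ) k

/-- Projective functions of the principal block. -/
def PropProjBlock : Prop :=
  ∀ (G : Type u) [Group G] [Finite G] (K : Subgroup G) [Fintype ↥K] (Q : ℤ) (c : ℕ),
    KleinPart K Q c → ∀ M : Ideal Cfsg.AlgInt, Cfsg.IsPModular 2 M →
      ∃ g : Fin 3 → ↥K → ℂ,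
        (∀ i, Cfsg.classInner (g i) 1 = if i = 0 then 1 else 0) ∧
        (∀ lam : ↥K →* ℂˣ, lam ≠ 1 → ∀ i, Cfsg.classInner (g i) (fun k => (lam k : ℂ)) = 0) ∧
        (∀ lam : ↥K →* ℂˣ, IsProj K Q c fun i k => g i k * (lam k : ℂ)) ∧ PrincSpan M K Q g

/-- With `C(S) = S` there is nothing to centralise. -/
theorem fixedOdd_of_card {G : Type u} [Group G] [Finite G] (t : G)
    (h : ∀ S : Sylow 2 G, t ∈ (S : Subgroup G) →
      Nat.card ↥(centralizer ((S : Subgroup G) : Set G)) = 8) : FixedOdd t := by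
  intro S hS n _ x hx ho
  have h1 : orderOf x ∣ 2 ^ 3 := by
    have := Subgroup.orderOf_dvd_natCard _ hx
    rw [h S hS] at this
    exact this
  obtain ⟨j, -, hj⟩ := (Nat.dvd_prime_pow Nat.prime_two).1 h1
  rcases j with _ | j
  · rw [pow_zero, orderOf_eq_one_iff] at hj
    rw [hj, mul_one, one_mul]
  · rw [hj] at ho
    exact absurd ho (Nat.not_odd_iff_even.2 ((Nat.even_pow' (Nat.succ_ne_zero j)).2 even_two))

/-! ## The twisting character -/

section Lam

variable {G : Type u} [Group G] [Finite G] {K : Subgroup G}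
variable (M : Ideal Cfsg.AlgInt) [M.IsMaximal]

/-- The values of a linear character, in the local ring. -/
noncomputable def lamR (lam : ↥K →* ℂˣ) : ↥K →* localRing M where
  toFun x := ⟨(lam x : ℂ), mem_localRing_of_isIntegral (IsIntegral.of_pow (n := Nat.card ↥K)
    Nat.card_pos (by
      rw [← Units.val_pow_eq_pow_val, ← map_pow, pow_card_eq_one', map_one, Units.val_one]
      exact isIntegral_one))⟩
  map_one' := Subtype.ext (by simp)
  map_mul' x y := Subtype.ext (by simp)

theorem coe_lamR (lam : ↥K →* ℂˣ) (x : ↥K) : (lamR M lam x : ℂ) = (lam x : ℂ) := rfl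

/-- The reduced values. -/
noncomputable def lamBar (lam : ↥K →* ℂˣ) : ↥K →* Res M :=
  (residue M).toMonoidHom.comp (lamR M lam)

end Lam

/-! ## The projection of the centraliser -/

section Proj

variable {G : Type u} [Group G] [Fintype G] {t : G} {K : Subgroup G} {Q : ℤ} {c : ℕ}
  (h : Cent t K Q c)

local notation "Ct" => Subgroup.centralizer ((Subgroup.zpowers t : Subgroup G) : Set G)

theorem mem_Ct {x : G} : x ∈ Ct ↔ Commute x t := mem_centralizer_zpowers_iff

include h

theorem Cent.le_Ct : K ≤ Ct := fun _ hx => mem_Ct.2 (h.comm hx)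

theorem Cent.t_mem_Ct : t ∈ Ct := mem_Ct.2 (Commute.refl t)

/-- The component in `K`. -/
noncomputable def Cent.toK : ↥Ct →* ↥K := by
  classical
  exact
  { toFun := fun x => if hx : (x : G) ∈ K then ⟨x, hx⟩
      else ⟨t * x, (h.decomp (mem_Ct.1 x.2)).resolve_left hx⟩
    map_one' := by rw [dif_pos (by simp)]; rfl
    map_mul' := fun x y => by
      have hcx : Commute (x : G) t := mem_Ct.1 x.2
      have ht : ∀ {z : G}, z ∈ K → t * z ∉ K := fun hz hm =>
        h.t_not_mem (by simpa using K.mul_mem hm (K.inv_mem hz))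
      by_cases hx : (x : G) ∈ K <;> by_cases hy : (y : G) ∈ K
      · rw [dif_pos hx, dif_pos hy, dif_pos (by simpa using K.mul_mem hx hy)]
        rfl
      · rw [dif_pos hx, dif_neg hy, dif_neg fun hm => hy (by
          simpa using K.mul_mem (K.inv_mem hx) hm)]
        refine Subtype.ext ?_
        show t * ((x : G) * y) = x * (t * y)
        rw [← mul_assoc, ← mul_assoc, hcx.eq]
      · rw [dif_neg hx, dif_pos hy, dif_neg fun hm => hx (by
          simpa using K.mul_mem hm (K.inv_mem hy))]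
        refine Subtype.ext ?_
        show t * ((x : G) * y) = t * x * y
        rw [mul_assoc]
      · have hx' := (h.decomp hcx).resolve_left hx
        have hy' := (h.decomp (mem_Ct.1 y.2)).resolve_left hy
        have e : (x : G) * y = t * x * (t * y) := by
          rw [hcx.symm.eq, mul_assoc, ← mul_assoc t t, h.t_sq, one_mul]
        rw [dif_neg hx, dif_neg hy, dif_pos (by
          show (x : G) * y ∈ K
          rw [e]; exact K.mul_mem hx' hy')]
        exact Subtype.ext e }

theorem Cent.toK_inclusion (x : ↥K) : h.toK (Subgroup.inclusion h.le_Ct x) = x := by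
  simp [Cent.toK]

theorem Cent.exists_conj (v : ↥Ct) :
    ∃ w : ↥K, ∀ x : ↥K, (v : G) * x * (v : G)⁻¹ = ((w * x * w⁻¹ : ↥K) : G) := by
  obtain ⟨w, hw, hwx⟩ := sec_exists_conj h.split (v := (v : G))
    (mem_centralizer_singleton_iff.2 (mem_Ct.1 v.2).eq)
  exact ⟨⟨w, hw⟩, fun x => by rw [hwx x x.2]; simp⟩

end Proj

/-! ## The pairs over a twisted principal block -/

section Pair

variable {G : Type u} [Group G] [Fintype G] {t : G} {K : Subgroup G} {Q : ℤ} {c : ℕ}
  (h : Cent t K Q c)
variable {k : Type} [Field k] [IsAlgClosed k] [CharP k 2] [Fact (Nat.Prime 2)]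

local notation "Ct" => Subgroup.centralizer ((Subgroup.zpowers t : Subgroup G) : Set G)

include h

theorem Cent.isPGroup_zpowers : IsPGroup 2 (zpowers t) :=
  IsPGroup.of_card (n := 1) (by rw [Nat.card_zpowers, h.ord, pow_one])

theorem Cent.exists_sylow : ∃ S : Sylow 2 G, t ∈ (S : Subgroup G) := by
  obtain ⟨S, hS⟩ := h.isPGroup_zpowers.exists_le_sylow
  exact ⟨S, hS (mem_zpowers t)⟩

/-- A character of `C(t)` over a core centralised by `N(S)` has only one pair at `⟨t⟩`. -/
theorem Cent.pair_unique (hO : FixedOdd t) (η : ↥Ct →* k) {ψ : Blk k G} {ω : Blk k ↥Ct}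
    (hω : PairOf 2 ψ (⟨zpowers t, ω⟩ : Idx k G))
    (hη : PairOf 2 ψ (⟨zpowers t, Twist.tw η⟩ : Idx k G)) : ω = Twist.tw η := by
  classical
  obtain ⟨S, hS⟩ := h.exists_sylow
  have hab : ∀ a ∈ (S : Subgroup G), ∀ b ∈ (S : Subgroup G), a * b = b * a := by
    haveI := (h.elementary S).1
    exact fun a ha b hb => congrArg Subtype.val (mul_comm' (⟨a, ha⟩ : ↥(S : Subgroup G)) ⟨b, hb⟩)
  have hSC : (S : Subgroup G) ≤ Ct := fun a ha => mem_Ct.2 (hab a ha t hS)
  have hQS : zpowers t ≤ (S : Subgroup G) := zpowers_le.2 hS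
  set CS := centralizer ((S : Subgroup G) : Set G) with hCS
  have hCSC : CS ≤ Ct := centralizer_anti hQS
  set ν : Blk k ↥CS := Twist.tw (η.comp (Subgroup.inclusion hCSC)) with hν
  -- the step to `S`
  have hstep : Step 2 (zpowers t) (Twist.tw η) (S : Subgroup G) ν := by
    refine ⟨S.2, hQS, hSC.trans (centralizer_le_normalizer _),
      isFixedBy_bext_of_le hSC _, ?_⟩
    set a := bext Ct (Twist.tw η) with ha
    have hfix : IsFixedBy (S : Subgroup G) a := isFixedBy_bext_of_le hSC _
    rw [val_eq _ (isFixedBy_centralizer_bext hQS _), hν, Twist.tw_apply]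
    letI : MulAction (S : Subgroup G) G := MulAction.compHom G (MulAut.conj.comp (S : Subgroup G).subtype)
    have hsm : ∀ (u : (S : Subgroup G)) (x : G), u • x = u * x * (u : G)⁻¹ := fun _ _ => rfl
    set f : G → k := fun g => if hg : g ∈ Ct then a.coeff g * η ⟨g, hg⟩ else 0 with hf
    have hfinv : ∀ (u : (S : Subgroup G)) (x : G), f (u • x) = f x := by
      intro u x
      rw [hsm]
      by_cases hx : x ∈ Ct
      · have hu' : (u : G) * x * (u : G)⁻¹ ∈ Ct := mul_mem (mul_mem (hSC u.2) hx) (inv_mem (hSC u.2))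
        simp only [hf, dif_pos hx, dif_pos hu']
        rw [hfix u u.2 x, show (⟨(u : G) * x * (u : G)⁻¹, hu'⟩ : ↥Ct) =
          ⟨u, hSC u.2⟩ * ⟨x, hx⟩ * (⟨u, hSC u.2⟩ : ↥Ct)⁻¹ from Subtype.ext rfl, map_mul, map_mul,
          mul_right_comm (η _), ← map_mul, mul_inv_cancel, map_one, one_mul]
      · simp only [hf]
        rw [dif_neg hx, dif_neg]
        intro hm
        apply hx
        have := mul_mem (mul_mem (inv_mem (hSC u.2)) hm) (hSC u.2)
        simpa [mul_assoc] using this
    have h1 := sum_eq_sum_fixed (P := ↥(S : Subgroup G)) (X := G) S.2 f hfinv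
    have hL : ∑ g, f g = 1 := by
      have h2 : ∑ g, f g = ∑ x : ↥Ct, (bidem (Twist.tw η)).coeff x * η x := by
        rw [← Finset.sum_subset (s₁ := Finset.univ.filter fun g => g ∈ Ct) (Finset.subset_univ _)
          (fun g _ hg => by
            simp only [Finset.mem_filter, Finset.mem_univ, true_and] at hg
            simp only [hf, dif_neg hg])]
        rw [Finset.sum_subtype (p := fun g => g ∈ Ct) _ (fun g => by simp)]
        refine Finset.sum_congr rfl fun x _ => ?_
        simp only [hf, dif_pos x.2, ha, bext, coeff_ext]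
      rw [h2]
      exact (Twist.tw_apply η (idem (Twist.tw η))).symm.trans (apply_idem_self _)
    rw [← hL, h1]
    have hfx : ∀ x : G, x ∈ MulAction.fixedPoints (S : Subgroup G) G ↔ x ∈ CS := by
      intro x
      rw [hCS, mem_centralizer_iff]
      constructor
      · intro hx u hu
        have := hx ⟨u, hu⟩
        rw [hsm, mul_inv_eq_iff_eq_mul] at this
        exact this
      · intro hx u
        rw [hsm, hx u u.2, mul_inv_cancel_right]
    rw [Finset.sum_subtype (p := fun g => g ∈ CS) _ (fun g => by simp [hfx])]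
    refine Finset.sum_congr rfl fun x _ => ?_
    simp only [hf, dif_pos (hCSC x.2)]
    exact congrArg₂ (· * ·) (coeff_br (S : Subgroup G) _ x) rfl
  have hle : Le 2 (⟨zpowers t, Twist.tw η⟩ : Idx k G) ⟨(S : Subgroup G), ν⟩ :=
    Relation.ReflTransGen.single hstep
  have htop : Top 2 (⟨(S : Subgroup G), ν⟩ : Idx k G) := ⟨S.2, fun _ hb => S.3 hb.1 hb.2.1⟩
  -- `N(S)` fixes the pair at `S`
  have hNfix : ∀ n ∈ normalizer ((S : Subgroup G) : Set G),
      cPair n (⟨(S : Subgroup G), ν⟩ : Idx k G) = ⟨(S : Subgroup G), ν⟩ := by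
    intro n hn
    refine sigma_ext_of_bext (map_conj_eq_of_mem hn) ?_
    rw [bext_cPair]
    refine (act_eq_iff hn ν).1 ?_
    refine Twist.tw_comp_zMap _ fun a => ?_
    show η _ = η _
    generalize ha' : Subgroup.inclusion hCSC a = b
    set d : ↥CS := (conjEquiv n CS CS (mem_centralizer_conj_iff hn)).symm a with hd
    obtain ⟨j, o, ho, he⟩ : ∃ j o : ℕ, Odd o ∧ orderOf (a : G) = 2 ^ j * o := by
      obtain ⟨j, o, ho, he⟩ := Nat.exists_eq_pow_mul_and_not_dvd (orderOf_pos (a : G)).ne' 2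
        (by norm_num)
      exact ⟨j, o, Nat.odd_iff.2 (by omega), he⟩
    refine Twist.eq_of_pow_two_pow j ?_
    rw [← map_pow η, ← map_pow η]
    congr 1
    refine Subtype.ext ?_
    rw [← ha']
    show (d : G) ^ 2 ^ j = (a : G) ^ 2 ^ j
    have hd' : (d : G) = n⁻¹ * a * n := rfl
    have hodd : Odd (orderOf ((a : G) ^ 2 ^ j)) := by
      rw [orderOf_pow' _ (pow_ne_zero j two_ne_zero), he, Nat.gcd_mul_right_left,
        Nat.mul_div_cancel_left _ (by positivity)]
      exact ho
    have hcomm := hO S hS n hn _ (pow_mem a.2 (2 ^ j)) hodd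
    have e : (n⁻¹ * (a : G) * n) ^ 2 ^ j = n⁻¹ * (a : G) ^ 2 ^ j * n := by
      simpa using conj_pow (a := n⁻¹) (b := (a : G)) (i := 2 ^ j)
    rw [hd', e, mul_assoc, ← hcomm, inv_mul_cancel_left]
  obtain ⟨x, hx⟩ := exists_le_conj_top hω htop
    ((pairOf_iff_of_le S.2 hle ψ).1 hη)
  -- move the image of `t` back to `t`
  have hu : x * t * x⁻¹ ∈ (S : Subgroup G) :=
    hx.subgroup_le ⟨t, mem_zpowers t, rfl⟩
  obtain ⟨n, hn, hnt⟩ := Sylow.conj_eq_normalizer_conj_of_mem_centralizer (P := S) t x⁻¹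
    (mem_centralizer_iff.2 fun b hb => hab b hb t hS)
    (mem_centralizer_iff.2 fun b hb => by
      rw [inv_inv]; exact hab b hb _ hu)
  rw [inv_inv] at hnt
  have hyt : Commute (n * x) t := by
    show n * x * t = t * (n * x)
    have e : n * (x * t * x⁻¹) = t * n := by rw [hnt]; group
    calc n * x * t = n * (x * t * x⁻¹) * x := by group
      _ = t * n * x := by rw [e]
      _ = t * (n * x) := mul_assoc _ _ _
  have hle' : Le 2 (cPair (n * x) (⟨zpowers t, ω⟩ : Idx k G)) ⟨(S : Subgroup G), ν⟩ := by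
    have := le_cPair n hx
    rwa [hNfix n hn, ← cPair_mul] at this
  rw [cPair_of_mem_centralizer (mem_Ct.2 hyt)] at hle'
  exact le_unique S.2 ν hle' hle

end Pair

/-! ## Separation -/

section Sep

variable {G : Type u} [Group G] [Fintype G] {t : G} {K : Subgroup G} [Fintype ↥K] {Q : ℤ} {c : ℕ}
  (h : Cent t K Q c) {M : Ideal Cfsg.AlgInt} (hM : Cfsg.IsPModular 2 M)

local notation "Ct" => Subgroup.centralizer ((Subgroup.zpowers t : Subgroup G) : Set G)

include h hM

theorem Cent.isSep (hO : FixedOdd t) {g : Fin 3 → ↥K → ℂ} (hg : PrincSpan M K Q g)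
    (hcl : ∀ i, Cfsg.IsClassFunction ↥K (g i))
    (hsupp : ∀ i (k : ↥K), 2 ∣ orderOf (k : G) → g i k = 0) (lam : ↥K →* ℂˣ) :
    IsSep t K Q fun i k => g i k * (lam k : ℂ) := by
  classical
  haveI : M.IsMaximal := hM.2.1
  haveI : Fact (Nat.Prime 2) := ⟨Nat.prime_two⟩
  haveI := charP_res hM
  intro χ hne
  have hkey : ∀ x : ↥K, (lamR M lam⁻¹ x : ℂ) = (lam x : ℂ)⁻¹ := fun x => by
    rw [coe_lamR]; simp
  set hP := Bridge.isPBlock_principalBlock (M := M) (G := ↥K)
  set e₀ := (blockIdemR hP).1 with he₀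
  set fC := Twist.twHom h.le_Ct (lamR M lam⁻¹) e₀ with hfC
  set f : MonoidAlgebra (localRing M) G :=
    MonoidAlgebra.mapDomainAlgHom (localRing M) (localRing M) (Subgroup.subtype Ct) fC with hf
  have hfcoeff : ∀ x : ↥K, (f.coeff (x : G) : ℂ) =
      (lam x : ℂ)⁻¹ * Cfsg.blockCoeff (Cfsg.principalBlock M ↥K) x := by
    intro x
    rw [hf, BrauerMap.PrincipalSection.coeff_mapDomain_subtype, dif_pos (h.le_Ct x.2)]
    show ((fC.coeff (Subgroup.inclusion h.le_Ct x) : localRing M) : ℂ) = _
    rw [hfC, Twist.coeff_twHom]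
    push_cast
    rw [hkey, he₀, coe_coeff_blockIdemR, mul_comm]
  have hfzero : ∀ y : G, y ∉ K → f.coeff y = 0 := by
    intro y hy
    rw [hf, BrauerMap.PrincipalSection.coeff_mapDomain_subtype]
    split_ifs with hm
    · exact Twist.coeff_twHom_of_notMem _ _ _ hy
    · rfl
  have hsum : ∀ y : G, ∑ k : G, (f.coeff k : ℂ) * (χ : G → ℂ) (y * k) =
      ∑ x : ↥K, (lam x : ℂ)⁻¹ * Cfsg.blockCoeff (Cfsg.principalBlock M ↥K) x *
        (χ : G → ℂ) (y * x) := by
    intro y
    rw [← Finset.sum_subset (s₁ := Finset.univ.filter fun k => k ∈ K) (Finset.subset_univ _)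
      (fun k _ hk => by
        simp only [Finset.mem_filter, Finset.mem_univ, true_and] at hk
        rw [hfzero k hk, ZeroMemClass.coe_zero, zero_mul]),
      Finset.sum_subtype (p := fun k => k ∈ K) _ (fun k => by simp)]
    exact Finset.sum_congr rfl fun x _ => by rw [hfcoeff]
  have hff : f * f = f := by
    rw [hf, hfC, he₀, ← map_mul, ← map_mul, ← Subalgebra.coe_mul, blockIdemR_mul_self]
  have hfcomm : ∀ u, Commute u t → Commute (single u (1 : localRing M)) f := by
    intro u hu
    have e : single u (1 : localRing M) =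
        MonoidAlgebra.mapDomainAlgHom (localRing M) (localRing M) (Subgroup.subtype Ct)
          (single ⟨u, mem_Ct.2 hu⟩ 1) := by simp
    rw [e, hf]
    exact Commute.map (Subalgebra.mem_center_iff.1
      (Twist.twHom_mem_center h.le_Ct _ h.exists_conj (blockIdemR hP).2) _) _
  set η : ↥Ct →* Res M := (lamBar M lam).comp h.toK with hη
  have hχη : ∀ x : ↥K, lamBar M lam⁻¹ x * η (Subgroup.inclusion h.le_Ct x) = 1 := by
    intro x
    rw [hη, MonoidHom.comp_apply, h.toK_inclusion]
    show residue M (lamR M lam⁻¹ x) * residue M (lamR M lam x) = 1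
    rw [← map_mul, ← map_one (residue M)]
    refine congrArg _ (Subtype.ext ?_)
    push_cast
    rw [hkey, coe_lamR, inv_mul_cancel₀ (Units.ne_zero _)]
  have hfixC : IsFixedBy Ct (red M f) := fun u hu y => by
    rw [coeff_red, coeff_red, coeff_conj_of_commute (hfcomm u (mem_Ct.1 hu))]
  set τ : ↥Ct := ⟨t, h.t_mem_Ct⟩
  have hval : ∀ ω : Blk (Res M) ↥Ct,
      val (zpowers t) ω (red M f) = if ω = Twist.tw η then 1 else 0 := by
    intro ω
    rw [val_eq ω hfixC]
    have e : (⟨br (zpowers t) (red M f), br_mem_center hfixC⟩ : ZAlg (Res M) ↥Ct) =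
        Twist.twC h.le_Ct h.exists_conj (lamBar M lam⁻¹)
          (idem (Principal.princ (Res M) ↥K)) := by
      refine Subtype.ext ?_
      rw [Twist.coe_twC]
      have e1 : MonoidAlgebra.mapRingHom ↥K (residue M) e₀ =
          ((idem (Principal.princ (Res M) ↥K) : ZAlg (Res M) ↥K) : MonoidAlgebra (Res M) ↥K) := by
        ext x
        rw [coeff_mapRingHom]
        have := Bridge.coeff_bidem hP x
        rw [Bridge.blk_principalBlock] at this
        refine Eq.trans ?_ this.symm
        exact congrArg (residue M) (Subtype.ext (coe_coeff_blockIdemR hP x))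
      rw [← e1, ← Twist.mapRingHom_twHom h.le_Ct (residue M) (lamR M lam⁻¹) (lamBar M lam⁻¹)
        (fun _ => rfl)]
      ext v
      rw [coeff_br, coeff_red, coeff_mapRingHom, hf,
        BrauerMap.PrincipalSection.coeff_mapDomain_subtype, dif_pos v.2]
    rw [e]
    show (ω.comp (Twist.twC h.le_Ct h.exists_conj (lamBar M lam⁻¹))) (idem (Principal.princ (Res M) ↥K)) = _
    rw [apply_idem]
    refine if_congr (Twist.comp_twC_iff h.le_Ct h.exists_conj η (lamBar M lam⁻¹) hχη (τ := τ)
      (fun v => Subtype.ext (mem_Ct.1 v.2).symm.eq) (Subtype.ext h.t_sq)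
      (fun v => h.decomp (mem_Ct.1 v.2)) ω) rfl rfl
  set hB : Cfsg.IsPBlock M (Cfsg.blockOf M (χ : G → ℂ)) := ⟨χ, rfl⟩
  have hχB := mem_blockOf_self (M := M) χ
  have hpp : ∀ s : ↥K, Odd (orderOf (s : G)) → Cfsg.IsPPart 2 (t * (s : G)) t := fun s hs =>
    ⟨s, rfl, (h.comm s.2).symm, ⟨1, by rw [h.ord, pow_one]⟩, fun h2 => by
      obtain ⟨j, hj⟩ := hs; omega⟩
  by_cases hmem : PairOf 2 (blk hB) (⟨zpowers t, Twist.tw η⟩ : Idx (Res M) G)
  · -- the block of `χ` lies over the twisted block
    have h1 := apply_eq_sum_of_val_eq_one hM hB (hpp 1 (by simp)) f hff hfcomm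
      (fun ω hω => by rw [hval, if_pos (h.pair_unique hO η hω hmem)]) hχB
    rw [OneMemClass.coe_one, mul_one, hsum] at h1
    rw [h1]
    have hQ2 : conj (((Q : ℂ) - 1) / 2) = ((Q : ℂ) - 1) / 2 := by
      simp [map_sub, map_div₀, Complex.conj_ofNat]
    simp only [secCoeff, Cfsg.classInner, Finset.mul_sum, ← Finset.sum_add_distrib]
    refine Finset.sum_congr rfl fun x _ => ?_
    have hlam : conj (lam x : ℂ) = (lam x : ℂ)⁻¹ := by
      rw [← Complex.inv_eq_conj]
      exact Complex.norm_eq_one_of_pow_eq_one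
        (by rw [← Units.val_pow_eq_pow_val, ← map_pow, pow_card_eq_one', map_one, Units.val_one])
        Nat.card_pos.ne'
    have hreg : conj (g 0 x) + ((Q : ℂ) - 1) / 2 * (conj (g 1 x) + conj (g 2 x)) =
        ∑ᶠ θ ∈ Cfsg.principalBlock M ↥K, (θ : ↥K → ℂ) 1 * conj ((θ : ↥K → ℂ) x) := by
      rw [← hQ2, ← map_add, ← map_mul, ← map_add, hg.2 x,
        finsum_mem_eq_finite_toFinset_sum _ (Set.toFinite _), map_sum,
        finsum_mem_eq_finite_toFinset_sum _ (Set.toFinite _)]
      exact Finset.sum_congr rfl fun θ _ => by rw [map_mul, conj_apply_one (isCharacter_irr θ)]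
    simp only [Cfsg.blockCoeff, ← hreg, map_mul, hlam]
    ring
  · exfalso
    have hF : ∀ s : ↥K, Odd (orderOf (s : G)) →
        ∑ x : ↥K, (lam x : ℂ)⁻¹ * Cfsg.blockCoeff (Cfsg.principalBlock M ↥K) x *
          (χ : G → ℂ) (t * (s : G) * x) = 0 := by
      intro s hs
      have h1 := apply_eq_sum_of_val_eq_one hM hB (hpp s hs) (1 - f)
        (IsIdempotentElem.one_sub hff)
        (fun u hu => (Commute.one_right _).sub_right (hfcomm u hu)) (fun ω hω => ?_) hχB
      · have hdec : ∀ k : G, (((1 - f).coeff k : localRing M) : ℂ) =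
            (if k = 1 then (1 : ℂ) else 0) - (f.coeff k : ℂ) := by
          intro k
          rw [coeff_sub, Finsupp.sub_apply, one_def, coeff_single, Finsupp.single_apply]
          simp only [eq_comm]
          split_ifs <;> simp
        simp only [hdec, sub_mul, Finset.sum_sub_distrib, ite_mul, one_mul, zero_mul,
          Finset.sum_ite_eq', Finset.mem_univ, if_true, mul_one] at h1
        rw [hsum] at h1
        exact sub_eq_self.1 h1.symm
      · have hωne : ω ≠ Twist.tw η := fun e => hmem (e ▸ hω)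
        have hfix1 : IsFixedBy Ct (1 - red M f) := fun u hu y => by
          rw [coeff_sub, Finsupp.sub_apply, Finsupp.sub_apply, hfixC u hu y,
            isFixedBy_one Ct u hu y]
        rw [red, map_sub, map_one, ← red]
        have hs1 : val (zpowers t) ω (1 - red M f) + val (zpowers t) ω (red M f) = 1 := by
          rw [val_eq ω hfix1, val_eq ω hfixC, ← map_add]
          refine Eq.trans (congrArg ω (Subtype.ext ?_)) (map_one ω)
          show br (zpowers t) (1 - red M f) + br (zpowers t) (red M f) = 1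
          rw [← br_add, sub_add_cancel, br_one]
        rwa [hval, if_neg hωne, add_zero] at hs1
    obtain ⟨i, hi⟩ := hne
    refine hi ?_
    rw [secCoeff, Cfsg.classInner, mul_eq_zero]
    refine Or.inr ?_
    have hconj : ∀ y : ↥K, conj (Cfsg.blockCoeff (Cfsg.principalBlock M ↥K) y) =
        Cfsg.blockCoeff (Cfsg.principalBlock M ↥K) y⁻¹ := fun y => by
      rw [Cfsg.blockCoeff, Cfsg.blockCoeff, map_mul, map_inv₀, map_natCast,
        finsum_mem_eq_finite_toFinset_sum _ (Set.toFinite _), map_sum,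
        finsum_mem_eq_finite_toFinset_sum _ (Set.toFinite _)]
      refine congrArg _ (Finset.sum_congr rfl fun θ _ => ?_)
      rw [map_mul, conj_apply_one (isCharacter_irr θ), ← apply_inv (isCharacter_irr θ)]
    have hlam : ∀ y : ↥K, conj (lam y : ℂ) = (lam y : ℂ)⁻¹ := fun y => by
      rw [← Complex.inv_eq_conj]
      exact Complex.norm_eq_one_of_pow_eq_one
        (by rw [← Units.val_pow_eq_pow_val, ← map_pow, pow_card_eq_one', map_one, Units.val_one])
        Nat.card_pos.ne'
    have hexp : ∀ k : ↥K, (χ : G → ℂ) (t * (k : G)) * conj (g i k * (lam k : ℂ)) =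
        ∑ s : ↥K, conj (g i s) * (lam s : ℂ)⁻¹ * ((lam (s⁻¹ * k) : ℂ)⁻¹ *
          Cfsg.blockCoeff (Cfsg.principalBlock M ↥K) (s⁻¹ * k) * (χ : G → ℂ) (t * (k : G))) := by
      intro k
      rw [map_mul, hlam, hg.1 i k, BlockPart.blockPart_eq_sum _ (hcl i), map_sum, Finset.sum_mul,
        Finset.mul_sum]
      refine Fintype.sum_equiv (Equiv.mulLeft k) _ _ fun x => ?_
      rw [Equiv.coe_mulLeft, map_mul, hconj, show (k * x)⁻¹ * k = x⁻¹ by group, map_mul lam,
        map_inv lam, Units.val_mul, Units.val_inv_eq_inv_val, mul_inv, inv_inv]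
      have hx : (lam x : ℂ) ≠ 0 := Units.ne_zero _
      field_simp
    rw [Finset.sum_congr rfl fun k _ => hexp k, Finset.sum_comm]
    refine Finset.sum_eq_zero fun s _ => ?_
    rw [← Finset.mul_sum]
    by_cases hs : 2 ∣ orderOf (s : G)
    · rw [hsupp i s hs, map_zero, zero_mul, zero_mul]
    · rw [show (∑ k : ↥K, (lam (s⁻¹ * k) : ℂ)⁻¹ *
          Cfsg.blockCoeff (Cfsg.principalBlock M ↥K) (s⁻¹ * k) * (χ : G → ℂ) (t * (k : G))) =
          ∑ x : ↥K, (lam x : ℂ)⁻¹ * Cfsg.blockCoeff (Cfsg.principalBlock M ↥K) x *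
            (χ : G → ℂ) (t * (s : G) * x) from ?_, hF s (Nat.odd_iff.2 (by omega)), mul_zero]
      refine Fintype.sum_equiv (Equiv.mulLeft s⁻¹) _ _ fun k => ?_
      simp [mul_assoc]

end Sep

/-- Separation from projective functions of the principal block. -/
theorem propSep_of (hP : PropProjBlock.{u}) : PropSep.{u} := by
  intro G _ _ t K _ Q c h hO
  haveI := Fintype.ofFinite G
  obtain ⟨M, hM⟩ := exists_isPModular 2 Nat.prime_two
  obtain ⟨g, hone, horth, hg, hspan⟩ := hP G K Q c h.part M hM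
  have h1 : ∀ i, (fun k => g i k * (((1 : ↥K →* ℂˣ) k : ℂˣ) : ℂ)) = g i := fun i =>
    funext fun k => by simp
  have hc : ∀ i, Cfsg.IsClassFunction ↥K (g i) := fun i => h1 i ▸ (hg 1).class_fn i
  have hs : ∀ i (k : ↥K), 2 ∣ orderOf (k : G) → g i k = 0 := fun i k hk =>
    (congrFun (h1 i) k).symm.trans ((hg 1).supp i k hk)
  exact ⟨g, hone, horth, fun lam => ⟨hg lam, h.isSep hM hO hspan hc hs lam⟩⟩

end Cfsg.Agent.Lib.JankoThompson.GSide
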