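import Cfsg.Agent.Lib.JankoThompson.GSide.Quad
import Cfsg.Agent.Lib.JankoThompson.GSide.Separation
import Cfsg.Agent.S0840

/-!
# Janko–Thompson: the projective functions of the blocks of `K`

`g = (1 - y₁, y₂ - y₁, y₃ - y₁)` from the signed characters `y` of the principal block, with the
pairing against the count of involution pairs.  `propProjBlock`, `propProj`, `propSep`.

Owner: helper68.
-/

set_option autoImplicit false
set_option linter.style.haveILetI false
set_option linter.unusedSectionVars false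

universe u

namespace Cfsg.Agent.Lib.JankoThompson.GSide

open Subgroup Cfsg.Agent.Lib.Characters.Basic Cfsg.Agent.Lib.Blocks
open Cfsg.Agent.Lib.Walter.NoField
open scoped ComplexConjugate

/-- The Steinberg hypothesis of `KleinPart`. -/
theorem KleinPart.hasSteinberg {G : Type u} [Group G] [Finite G] {K : Subgroup G} {Q : ℤ} {c : ℕ}
    (h : KleinPart K Q c) : HasSteinberg ↥K Q := by
  intro hQ
  obtain ⟨χ, hr, h1⟩ := h.st hQ
  refine ⟨χ, hr, ?_⟩
  rw [char_one_eq_degree] at h1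
  exact_mod_cast h1

/-- A linear character is trivial at the involutions. -/
theorem KleinPart.lam_invol {G : Type u} [Group G] [Finite G] {K : Subgroup G} {Q : ℤ} {c : ℕ}
    (h : KleinPart K Q c) (lam : ↥K →* ℂˣ) {x : ↥K} (hx : orderOf x = 2) : lam x = 1 := by
  haveI : Fact (Nat.Prime 2) := ⟨Nat.prime_two⟩
  obtain ⟨P⟩ : Nonempty (Sylow 2 ↥K) := inferInstance
  have hP := h.klein P
  have hsame : ∀ a b : ↥K, orderOf a = 2 → orderOf b = 2 → lam a = lam b := fun a b ha hb => by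
    obtain ⟨v, hv⟩ := isConj_iff.1 (h.conjK a b ha hb)
    rw [← hv, map_mul, map_mul, map_inv, mul_comm (lam v), mul_inv_cancel_right]
  obtain ⟨J, hJ, hJ1⟩ : ∃ J ∈ (P : Subgroup ↥K), J ≠ 1 := by
    by_contra hne
    push Not at hne
    have : (P : Subgroup ↥K) ≤ ⊥ := fun a ha => mem_bot.2 (hne a ha)
    have := Subgroup.card_le_of_le this
    rw [hP.card_four, Subgroup.card_bot] at this
    omega
  obtain ⟨b, hb, hb1, hbJ⟩ : ∃ b ∈ (P : Subgroup ↥K), b ≠ 1 ∧ b ≠ J := by
    by_contra hne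
    push Not at hne
    have hle : (P : Subgroup ↥K) ≤ zpowers J := fun b hb => by
      by_cases hb1 : b = 1
      · rw [hb1]; exact one_mem _
      · rw [hne b hb hb1]; exact mem_zpowers J
    have := Subgroup.card_le_of_le hle
    rw [hP.card_four, Nat.card_zpowers, Involutions.KleinSylow.orderOf_mem hP hJ hJ1] at this
    omega
  have hJo := Involutions.KleinSylow.orderOf_mem hP hJ hJ1
  have hbo := Involutions.KleinSylow.orderOf_mem hP hb hb1
  have hJbo : orderOf (J * b) = 2 := Involutions.KleinSylow.orderOf_mem hP (mul_mem hJ hb) fun e => by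
    apply hbJ
    have h2 : J * J = 1 := by rw [← pow_two, ← hJo, pow_orderOf_eq_one]
    exact mul_left_cancel (e.trans h2.symm)
  have e := hsame (J * b) J hJbo hJo
  rw [map_mul, hsame b J hbo hJo] at e
  rw [hsame x J hx hJo]
  exact mul_eq_right.1 e

namespace Quad

variable {G : Type u} [Group G] [Finite G] {K : Subgroup G} [Fintype ↥K] {Q : ℤ} {c : ℕ}
  {M : Ideal Cfsg.AlgInt} (D : Quad M ↥K Q)

/-- The indices of the functions. -/
def idx : Fin 3 → Fin 4 := ![0, 2, 3]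

/-- The projective functions. -/
noncomputable def g (i : Fin 3) (k : ↥K) : ℂ :=
  (D.e (idx i) : ℂ) * (D.θ (idx i) : ↥K → ℂ) k - (D.e 1 : ℂ) * (D.θ 1 : ↥K → ℂ) k

theorem sq (i : Fin 4) : (D.e i : ℂ) * D.e i = 1 := by
  rcases D.sign i with h | h <;> rw [h] <;> norm_num

theorem inner_g (i : Fin 3) (φ : ↥K → ℂ) :
    Cfsg.classInner (D.g i) φ = (D.e (idx i) : ℂ) * Cfsg.classInner (D.θ (idx i) : ↥K → ℂ) φ -
      (D.e 1 : ℂ) * Cfsg.classInner (D.θ 1 : ↥K → ℂ) φ := by
  simp only [Cfsg.classInner, g, sub_mul, Finset.sum_sub_distrib, mul_sub, Finset.mul_sum]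
  refine congrArg₂ (· - ·) ?_ ?_ <;> exact Finset.sum_congr rfl fun k _ => by ring

theorem inner_irr (a b : Fin 4) :
    Cfsg.classInner (D.θ a : ↥K → ℂ) (D.θ b : ↥K → ℂ) = if a = b then 1 else 0 := by
  split_ifs with h
  · rw [h, classInner_self_irr]
  · exact classInner_irr_of_ne fun e => h (D.inj e)

theorem inner_g_irr (i : Fin 3) (b : Fin 4) :
    Cfsg.classInner (D.g i) (D.θ b : ↥K → ℂ) =
      (if idx i = b then (D.e b : ℂ) else 0) - if (1 : Fin 4) = b then (D.e b : ℂ) else 0 := by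
  rw [D.inner_g, D.inner_irr, D.inner_irr]
  split_ifs with h1 h2 h2 <;> simp_all

theorem g_even {k : ↥K} (hk : 2 ∣ orderOf k) (i : Fin 3) : D.g i k = 0 := by
  rw [g, D.even k hk, D.even k hk, sub_self]

theorem g_class (i : Fin 3) : Cfsg.IsClassFunction ↥K (D.g i) := fun a b => by
  simp only [g, isClassFunction_irr _ a b]

theorem g_gram (i j : Fin 3) : Cfsg.classInner (D.g i) (D.g j) = if i = j then 2 else 1 := by
  have h : Cfsg.classInner (D.g i) (D.g j) = conj (Cfsg.classInner (D.g j) (D.g i)) := by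
    simp only [Cfsg.classInner, map_mul, map_inv₀, map_natCast, map_sum, Complex.conj_conj]
    exact congrArg _ (Finset.sum_congr rfl fun k _ => mul_comm _ _)
  rw [h, D.inner_g j]
  have e : ∀ b : Fin 4, Cfsg.classInner (D.θ b : ↥K → ℂ) (D.g i) =
      conj (Cfsg.classInner (D.g i) (D.θ b : ↥K → ℂ)) := fun b => by
    simp only [Cfsg.classInner, map_mul, map_inv₀, map_natCast, map_sum, Complex.conj_conj]
    exact congrArg _ (Finset.sum_congr rfl fun k _ => mul_comm _ _)
  rw [e, e, D.inner_g_irr, D.inner_g_irr]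
  have s0 := D.sq 0; have s1 := D.sq 1; have s2 := D.sq 2; have s3 := D.sq 3
  fin_cases i <;> fin_cases j <;>
    simp [idx, map_sub, map_mul, Complex.conj_conj, s0, s1, s2, s3] <;> norm_num

theorem g_gen (lam : ↥K →* ℂˣ) (i : Fin 3) :
    Cfsg.IsGeneralizedCharacter ↥K fun k => D.g i k * (lam k : ℂ) := by
  have h : ∀ b : Fin 4, Cfsg.IsGeneralizedCharacter ↥K
      ((D.θ b : ↥K → ℂ) * (Characters.Linear.linChar lam : ↥K → ℂ)) := fun b =>
    Characters.Generalized.of_isCharacter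
      (isCharacter_mul (isCharacter_irr _) (isCharacter_irr _))
  convert Characters.Generalized.sub
    (Characters.Generalized.zsmul (h (idx i)) (D.e (idx i)))
    (Characters.Generalized.zsmul (h 1) (D.e 1)) using 1
  funext k
  simp only [g, Pi.sub_apply, Pi.smul_apply, Pi.mul_apply, zsmul_eq_mul,
    Characters.Linear.linChar_apply]
  simp only [Pi.intCast_apply]
  ring

theorem g_one (i : Fin 3) : Cfsg.classInner (D.g i) 1 = if i = 0 then 1 else 0 := by
  have e : (1 : ↥K → ℂ) = (D.θ 0 : ↥K → ℂ) := by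
    rw [D.θ_zero]; funext k; exact (oneChar_apply k).symm
  rw [e, D.inner_g_irr]
  fin_cases i <;> simp [idx, D.e_zero]

theorem g_lin (hQ : 5 ≤ |Q|) (lam : ↥K →* ℂˣ) (hlam : lam ≠ 1) (i : Fin 3) :
    Cfsg.classInner (D.g i) (fun k => (lam k : ℂ)) = 0 := by
  have hne : ∀ b : Fin 4, D.θ b ≠ Characters.Linear.linChar lam := by
    intro b e
    have h1 := D.deg b
    rw [e, Characters.Linear.linChar_apply, map_one, Units.val_one, mul_one] at h1
    have h2 : D.e b = quadDeg Q b := by exact_mod_cast h1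
    fin_cases b
    · refine hlam (Characters.Linear.linChar_injective ?_)
      refine e.symm.trans (D.θ_zero.trans (Subtype.ext (funext fun k => ?_)))
      rw [oneChar_apply, Characters.Linear.linChar_apply, MonoidHom.one_apply, Units.val_one]
    all_goals
      rcases D.sign _ with s | s <;> rw [s] at h2 <;> simp [quadDeg] at h2 <;>
        rcases abs_cases Q with ⟨hh, -⟩ | ⟨hh, -⟩ <;> omega
  rw [show (fun k => (lam k : ℂ)) = (Characters.Linear.linChar lam : ↥K → ℂ) from rfl, D.inner_g,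
    classInner_irr_of_ne (hne _), classInner_irr_of_ne (hne _), mul_zero, mul_zero, sub_zero]

open scoped Classical in
theorem g_span (i : Fin 3) (k : ↥K) :
    D.g i k = Cfsg.blockPart (Cfsg.principalBlock M ↥K) (D.g i) k := by
  rw [BlockPart.blockPart_apply,
    show (Set.toFinite (Cfsg.principalBlock M ↥K)).toFinset = Finset.univ.image D.θ by
      ext χ; rw [Set.Finite.mem_toFinset, D.block]; simp,
    Finset.sum_image fun a _ b _ e => D.inj e, Fin.sum_univ_four,
    D.inner_g_irr, D.inner_g_irr, D.inner_g_irr, D.inner_g_irr]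
  fin_cases i <;> simp [g, idx] <;> ring

open scoped Classical in
theorem g_reg (hQ : Q % 8 = 3) (k : ↥K) :
    D.g 0 k + ((Q : ℂ) - 1) / 2 * (D.g 1 k + D.g 2 k) =
      ∑ᶠ θ ∈ Cfsg.principalBlock M ↥K, (θ : ↥K → ℂ) 1 * (θ : ↥K → ℂ) k := by
  rw [finsum_mem_eq_finite_toFinset_sum _ (Set.toFinite _),
    show (Set.toFinite (Cfsg.principalBlock M ↥K)).toFinset = Finset.univ.image D.θ by
      ext χ; rw [Set.Finite.mem_toFinset, D.block]; simp,
    Finset.sum_image fun a _ b _ e => D.inj e, Fin.sum_univ_four]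
  have hd : ∀ b, (D.θ b : ↥K → ℂ) 1 = (D.e b : ℂ) * (quadDeg Q b : ℂ) := fun b => by
    rw [← D.deg b, ← mul_assoc, D.sq, one_mul]
  have hh : (((Q - 1) / 2 : ℤ) : ℂ) = ((Q : ℂ) - 1) / 2 := by
    have e : 2 * ((Q - 1) / 2) = Q - 1 := by omega
    have e' : (2 : ℂ) * (((Q - 1) / 2 : ℤ) : ℂ) = (Q : ℂ) - 1 := by exact_mod_cast e
    linear_combination e' / 2
  rw [hd, hd, hd, hd]
  simp [g, idx, quadDeg, hh, D.e_zero]
  ring

theorem pairs_apply (h : KleinPart K Q c) (k : ↥K) [Fintype (Cfsg.IrrCharacter ↥K)] {J : ↥K}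
    (hJ : orderOf J = 2) :
    (pairs K k : ℂ) = (Nat.card ↥K : ℂ) / ((c : ℂ) * |Q + 1|) ^ 2 *
      ∑ χ : Cfsg.IrrCharacter ↥K,
        (χ : ↥K → ℂ) J * (χ : ↥K → ℂ) J * conj ((χ : ↥K → ℂ) k) / (χ : ↥K → ℂ) 1 := by
  have hiff : ∀ u : ↥K, IsConj J u ↔ orderOf u = 2 := fun u => by
    refine ⟨fun hu => ?_, fun hu => h.conjK J u hJ hu⟩
    obtain ⟨v, rfl⟩ := isConj_iff.1 hu
    rw [Involutions.Basic.orderOf_conj_eq, hJ]
  have h0 := Cfsg.Agent.S0840.result J J k
  rw [finsum_eq_sum_of_fintype] at h0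
  have e : Nat.card {p : ↥K × ↥K // IsConj J p.1 ∧ IsConj J p.2 ∧ p.1 * p.2 = k} = pairs K k :=
    Nat.card_congr (Equiv.subtypeEquivRight fun p => by rw [hiff, hiff])
  rw [e] at h0
  rw [h0]
  have hk : (Nat.card {u : ↥K // IsConj J u} : ℂ) * ((c : ℂ) * |Q + 1|) = Nat.card ↥K := by
    have h1 := Involutions.Thompson.card_class_mul J
    have h2 : ((Nat.card ↥(centralizer ({J} : Set ↥K)) : ℤ) : ℂ) = ((c * |Q + 1| : ℤ) : ℂ) := by
      rw [h.cent J hJ]
    push_cast at h2
    rw [← h2, ← Nat.cast_mul, h1]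
  have hK0 : (Nat.card ↥K : ℂ) ≠ 0 := Nat.cast_ne_zero.2 Nat.card_pos.ne'
  have hne : (c : ℂ) * |Q + 1| ≠ 0 := fun e => by
    rw [e, mul_zero] at hk; exact hK0 hk.symm
  rw [← hk]
  field_simp

theorem g_pairs (h : KleinPart K Q c) (i : Fin 3) :
    Cfsg.classInner (fun k => (pairs K k : ℂ)) (D.g i) =
      (Nat.card ↥K : ℂ) / ((c : ℂ) * |Q + 1|) ^ 2 *
        (if i = 0 then ((Q : ℂ) + 1) / Q else (3 * (Q : ℂ) - 1) / ((Q : ℂ) * ((Q : ℂ) - 1))) := by
  classical
  haveI := Fintype.ofFinite (Cfsg.IrrCharacter ↥K)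
  haveI : Fact (Nat.Prime 2) := ⟨Nat.prime_two⟩
  obtain ⟨J, hJ⟩ := exists_prime_orderOf_dvd_card' (G := ↥K) 2 (by
    obtain ⟨P⟩ : Nonempty (Sylow 2 ↥K) := inferInstance
    exact (show 2 ∣ Nat.card ↥(P : Subgroup ↥K) by rw [(h.klein P).card_four]; norm_num).trans
      (Subgroup.card_subgroup_dvd_card _))
  have hsymm : Cfsg.classInner (fun k => (pairs K k : ℂ)) (D.g i) =
      conj (Cfsg.classInner (D.g i) (fun k => (pairs K k : ℂ))) := by
    simp only [Cfsg.classInner, map_mul, map_inv₀, map_natCast, map_sum]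
    exact congrArg _ (Finset.sum_congr rfl fun k _ => mul_comm _ _)
  have hco : Cfsg.classInner (D.g i) (fun k => (pairs K k : ℂ)) =
      (Nat.card ↥K : ℂ) / ((c : ℂ) * |Q + 1|) ^ 2 * ∑ χ : Cfsg.IrrCharacter ↥K,
        (χ : ↥K → ℂ) J * (χ : ↥K → ℂ) J / (χ : ↥K → ℂ) 1 *
          Cfsg.classInner (D.g i) (χ : ↥K → ℂ) := by
    simp only [Cfsg.classInner, map_natCast]
    simp only [pairs_apply h _ hJ, Finset.mul_sum]
    rw [Finset.sum_comm]
    exact Finset.sum_congr rfl fun χ _ => Finset.sum_congr rfl fun k _ => by ring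
  rw [hsymm, hco]
  have hinner : ∀ χ : Cfsg.IrrCharacter ↥K,
      Cfsg.classInner (D.g i) (χ : ↥K → ℂ) =
        (if D.θ (idx i) = χ then (D.e (idx i) : ℂ) else 0) -
          if D.θ 1 = χ then (D.e 1 : ℂ) else 0 := by
    intro χ
    rw [D.inner_g]
    refine congrArg₂ (· - ·) ?_ ?_ <;> split_ifs with e <;>
      first
        | rw [← e, classInner_self_irr, mul_one]
        | rw [classInner_irr_of_ne e, mul_zero]
  simp only [hinner, mul_sub, mul_ite, mul_zero, Finset.sum_sub_distrib, Finset.sum_ite_eq,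
    Finset.mem_univ, if_true]
  have hd : ∀ b, (D.θ b : ↥K → ℂ) 1 = (D.e b : ℂ) * (quadDeg Q b : ℂ) := fun b => by
    rw [← D.deg b, ← mul_assoc, D.sq, one_mul]
  have hv : ∀ b, (D.θ b : ↥K → ℂ) J = (D.e b : ℂ) := fun b => by
    have := D.even J (by rw [hJ]) b
    calc (D.θ b : ↥K → ℂ) J = (D.e b : ℂ) * D.e b * (D.θ b : ↥K → ℂ) J := by rw [D.sq, one_mul]
      _ = (D.e b : ℂ) := by rw [mul_assoc, this, mul_one]
  have hterm : ∀ b, (D.θ b : ↥K → ℂ) J * (D.θ b : ↥K → ℂ) J / (D.θ b : ↥K → ℂ) 1 * (D.e b : ℂ) =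
      1 / (quadDeg Q b : ℂ) := fun b => by
    rw [hv, hd, D.sq, div_mul_eq_mul_div, one_mul]
    exact div_mul_cancel_left₀ (fun e => by simpa [e] using D.sq b) _ |>.trans (one_div _).symm
  rw [hterm, hterm]
  have hQ8 := h.Q_mod
  have hh : (((Q - 1) / 2 : ℤ) : ℂ) = ((Q : ℂ) - 1) / 2 := by
    have e : 2 * ((Q - 1) / 2) = Q - 1 := by omega
    have e' : (2 : ℂ) * (((Q - 1) / 2 : ℤ) : ℂ) = (Q : ℂ) - 1 := by exact_mod_cast e
    linear_combination e' / 2
  have q0 : (Q : ℂ) ≠ 0 := by exact_mod_cast (show Q ≠ 0 by omega)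
  have q1 : (Q : ℂ) - 1 ≠ 0 := sub_ne_zero.2 (by exact_mod_cast (show Q ≠ 1 by omega))
  simp only [map_mul, map_div₀, map_sub, map_pow, map_natCast, map_intCast, map_one]
  rw [← mul_sub, ← mul_ite]
  refine congrArg _ ?_
  fin_cases i <;> simp [idx, quadDeg, hh] <;> field_simp <;> ring

end Quad

/-- The projective functions of the principal block, twisted by the linear characters. -/
theorem propProjBlock : PropProjBlock.{u} := by
  intro G _ _ K _ Q c h M hM
  obtain ⟨D⟩ := exists_quad h h.hasSteinberg M hM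
  refine ⟨D.g, D.g_one, fun lam hl i => D.g_lin h.Q_big lam hl i, fun lam => ?_, D.g_span,
    D.g_reg h.Q_mod⟩
  have hunit : ∀ k : ↥K, (lam k : ℂ) * conj (lam k : ℂ) = 1 := fun k => by
    rw [← Complex.inv_eq_conj, mul_inv_cancel₀ (Units.ne_zero _)]
    exact Complex.norm_eq_one_of_pow_eq_one
      (by rw [← Units.val_pow_eq_pow_val, ← map_pow, pow_card_eq_one', map_one, Units.val_one])
      Nat.card_pos.ne'
  refine ⟨fun i => D.g_gen lam i, fun i a b => ?_, fun i k hk => ?_, fun i j => ?_, fun i => ?_⟩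
  · show D.g i (b * a * b⁻¹) * (lam (b * a * b⁻¹) : ℂ) = _
    rw [D.g_class, map_mul, map_mul, map_inv, mul_comm (lam b), mul_inv_cancel_right]
  · show D.g i k * _ = 0
    rw [D.g_even (by rwa [Subgroup.orderOf_coe] at hk), zero_mul]
  · rw [← D.g_gram i j]
    simp only [Cfsg.classInner, map_mul]
    refine congrArg _ (Finset.sum_congr rfl fun k _ => ?_)
    linear_combination (D.g i k * conj (D.g j k)) * hunit k
  · rw [← D.g_pairs h i]
    simp only [Cfsg.classInner, map_mul]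
    refine congrArg _ (Finset.sum_congr rfl fun k _ => ?_)
    by_cases hp : pairs K k = 0
    · simp [hp]
    · obtain ⟨⟨⟨a, b⟩, ha, hb, hab⟩⟩ := (Nat.card_ne_zero.1 hp).1
      have : lam k = 1 := by rw [← hab, map_mul, h.lam_invol lam ha, h.lam_invol lam hb, one_mul]
      rw [this, Units.val_one, map_one, mul_one]

theorem propProj : PropProj.{u} := by
  intro G _ _ K _ Q c h
  obtain ⟨M, hM⟩ := exists_isPModular 2 Nat.prime_two
  obtain ⟨g, h1, h2, h3, -⟩ := propProjBlock G K Q c h M hM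
  exact ⟨g, h1, h2, h3⟩

theorem propSep : PropSep.{u} := propSep_of propProjBlock

end Cfsg.Agent.Lib.JankoThompson.GSide
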