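import Cfsg.Agent.Lib.Walter.NoField.Section
import Cfsg.Agent.Lib.JankoThompson.Rows
import Cfsg.Prelude.Def_TwoFusion

/-!
# Janko–Thompson: the blocks over the linear characters of an involution centraliser `⟨t⟩ × K`

Interface by helper37 (`notes/walter_nofield.md`).  `K` has a fused four-group as Sylow 2-subgroup and
the orders of `PSL(2,q)` times an odd number `c`; `lam` is a linear character of `K`.  With
`c = 1`, `lam = 1` this is the principal block of S0343; with `K = E`, `c = m` the blocks of section Z.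

* `PropProj` : the three projective functions of the block of `lam` in `K` (helper55).
* `PropSep`  : on the section of `t` the block of `lam` is separated from the others (helper68).
* `BTab`     : the coefficient table of a block; `PropBlock` its existence (from the two above).
-/

set_option autoImplicit false

universe u

namespace Cfsg.Agent.Lib.JankoThompson.GSide

open Subgroup Cfsg.Agent.Lib.Walter.NoField
open scoped Classical

/-- The group `K`: fused four-group, orders of `PSL(2,q)` times `c`; `Q = ± q ≡ 3 (mod 8)`.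
For `Q < 0` the orders alone do not give the degrees of the principal block: `st` is then the
Steinberg character (from a subgroup of index `1 - Q` with two double cosets). -/
structure KleinPart {G : Type u} [Group G] (K : Subgroup G) (Q : ℤ) (c : ℕ) : Prop where
  odd_c : Odd c
  Q_mod : Q % 8 = 3
  Q_big : 5 ≤ |Q|
  klein : ∀ P : Sylow 2 ↥K, IsKleinFour ↥(P : Subgroup ↥K)
  conjK : ∀ x y : ↥K, orderOf x = 2 → orderOf y = 2 → IsConj x y
  card : 2 * (Nat.card ↥K : ℤ) = c * |Q * (Q ^ 2 - 1)|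
  cent : ∀ x : ↥K, orderOf x = 2 →
    (Nat.card ↥(centralizer ({x} : Set ↥K)) : ℤ) = c * |Q + 1|
  centP : ∀ P : Sylow 2 ↥K, Nat.card ↥(centralizer ((P : Subgroup ↥K) : Set ↥K)) = 4 * c
  st : Q < 0 → ∃ χ : Cfsg.IrrCharacter ↥K,
    (∀ k : ↥K, ((χ : ↥K → ℂ) k).im = 0) ∧ (χ : ↥K → ℂ) 1 = -(Q : ℂ)

/-- The hypotheses on the group. -/
structure Cent {G : Type u} [Group G] (t : G) (K : Subgroup G) (Q : ℤ) (c : ℕ) : Prop where
  simple : IsSimpleGroup G
  card_sylow : ∀ S : Sylow 2 G, Nat.card ↥(S : Subgroup G) = 8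
  elementary : ∀ S : Sylow 2 G, Cfsg.IsElementaryAbelian 2 (S : Subgroup G)
  conjG : ∀ x y : G, orderOf x = 2 → orderOf y = 2 → IsConj x y
  ord : orderOf t = 2
  split : Cfsg.IsInternalDirectProduct (zpowers t) K (centralizer ({t} : Set G))
  part : KleinPart K Q c

/-- `N(S)` centralises the elements of odd order of `C(S)`, for the Sylow 2-subgroups through
`t`: the linear characters of `K` give different blocks. -/
def FixedOdd {G : Type u} [Group G] (t : G) : Prop :=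
  ∀ S : Sylow 2 G, t ∈ (S : Subgroup G) → ∀ n ∈ normalizer ((S : Subgroup G) : Set G),
    ∀ x ∈ centralizer ((S : Subgroup G) : Set G), Odd (orderOf x) → n * x = x * n

/-- The value of the class equation: `Q (Q² - 1) / |G : C(t)|`. -/
noncomputable def kConst {G : Type u} [Group G] (t : G) (Q : ℤ) : ℚ :=
  (Q : ℚ) * ((Q : ℚ) ^ 2 - 1) / ((centralizer ({t} : Set G)).index : ℚ)

/-- The number of ordered pairs of involutions of `K` with product `k`. -/
noncomputable def pairs {G : Type u} [Group G] (K : Subgroup G) (k : ↥K) : ℕ :=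
  Nat.card {p : ↥K × ↥K // orderOf p.1 = 2 ∧ orderOf p.2 = 2 ∧ p.1 * p.2 = k}

/-- `g` behave like the projective functions of a block: `⟪g i, g j⟫ = 1 + δ` and the inner
products with the pair count of `K`. -/
structure IsProj {G : Type u} [Group G] [Finite G] (K : Subgroup G) [Fintype ↥K] (Q : ℤ) (c : ℕ)
    (g : Fin 3 → ↥K → ℂ) : Prop where
  gen : ∀ i, Cfsg.IsGeneralizedCharacter ↥K (g i)
  class_fn : ∀ i, Cfsg.IsClassFunction ↥K (g i)
  supp : ∀ i, OddSupport (g i)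
  gram : ∀ i j, Cfsg.classInner (g i) (g j) = if i = j then 2 else 1
  pairs_eq : ∀ i, Cfsg.classInner (fun k => (pairs K k : ℂ)) (g i) =
    (Nat.card ↥K : ℂ) / ((c : ℂ) * |Q + 1|) ^ 2 *
      (if i = 0 then ((Q : ℂ) + 1) / Q else (3 * (Q : ℂ) - 1) / ((Q : ℂ) * ((Q : ℂ) - 1)))

/-- Existence of the projective functions; those of `lam` are the principal ones times `lam`. -/
def PropProj : Prop :=
  ∀ (G : Type u) [Group G] [Finite G] (K : Subgroup G) [Fintype ↥K] (Q : ℤ) (c : ℕ),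
    KleinPart K Q c → ∃ g : Fin 3 → ↥K → ℂ,
      (∀ i, Cfsg.classInner (g i) 1 = if i = 0 then 1 else 0) ∧
      (∀ lam : ↥K →* ℂˣ, lam ≠ 1 → ∀ i, Cfsg.classInner (g i) (fun k => (lam k : ℂ)) = 0) ∧
      ∀ lam : ↥K →* ℂˣ, IsProj K Q c fun i k => g i k * (lam k : ℂ)

/-- A character with a non-zero coefficient has only these coefficients at `t`. -/
def IsSep {G : Type u} [Group G] (t : G) (K : Subgroup G) [Fintype ↥K] (Q : ℤ)
    (g : Fin 3 → ↥K → ℂ) : Prop :=
  ∀ χ : Cfsg.IrrCharacter G, (∃ i, secCoeff t K (χ : G → ℂ) (g i) ≠ 0) →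
    (χ : G → ℂ) t = secCoeff t K (χ : G → ℂ) (g 0) + (((Q : ℂ) - 1) / 2) *
      (secCoeff t K (χ : G → ℂ) (g 1) + secCoeff t K (χ : G → ℂ) (g 2))

/-- The projective functions can be chosen separated on the section of `t`. -/
def PropSep : Prop :=
  ∀ (G : Type u) [Group G] [Finite G] (t : G) (K : Subgroup G) [Fintype ↥K] (Q : ℤ) (c : ℕ),
    Cent t K Q c → FixedOdd t → ∃ g : Fin 3 → ↥K → ℂ,
      (∀ i, Cfsg.classInner (g i) 1 = if i = 0 then 1 else 0) ∧
      (∀ lam : ↥K →* ℂˣ, lam ≠ 1 → ∀ i, Cfsg.classInner (g i) (fun k => (lam k : ℂ)) = 0) ∧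
      ∀ lam : ↥K →* ℂˣ, IsProj K Q c (fun i k => g i k * (lam k : ℂ)) ∧ IsSep t K Q fun i k => g i k * (lam k : ℂ)

/-- The coefficient table of one block; no distinguished row. -/
structure BTab (ι : Type*) [Fintype ι] where
  Q : ℤ
  m : ℤ
  hm : 2 * m = Q - 1
  hQ8 : Q % 8 = 3
  K : ℚ
  hK : K ≠ 0
  Nt : ℤ
  hNt : (Nt : ℚ) * K = (Q : ℚ) * ((Q : ℚ) ^ 2 - 1)
  d : ι → ℤ
  T : ι → ℤ
  a : ι → ℤ
  b : ι → ℤ
  c : ι → ℤ
  d_pos : ∀ i, 0 < d i
  T_le : ∀ i, |T i| ≤ d i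
  hT : ∀ i, a i ≠ 0 ∨ b i ≠ 0 ∨ c i ≠ 0 → T i = a i + m * (b i + c i)
  cong : ∀ i, (8 : ℤ) ∣ d i - T i
  omega : ∀ i, d i ∣ Nt * T i
  aa : ∑ i, a i * a i = 4
  bb : ∑ i, b i * b i = 4
  cc : ∑ i, c i * c i = 4
  ab : ∑ i, a i * b i = 2
  ac : ∑ i, a i * c i = 2
  bc : ∑ i, b i * c i = 2
  da : ∑ i, d i * a i = 0
  db : ∑ i, d i * b i = 0
  dc : ∑ i, d i * c i = 0
  eqA : ∑ i, (a i : ℚ) * (T i : ℚ) ^ 2 / d i = K * ((Q : ℚ) - 1)
  eqB : ∑ i, (b i : ℚ) * (T i : ℚ) ^ 2 / d i = K * (3 * (Q : ℚ) - 1) / ((Q : ℚ) + 1)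
  eqC : ∑ i, (c i : ℚ) * (T i : ℚ) ^ 2 / d i = K * (3 * (Q : ℚ) - 1) / ((Q : ℚ) + 1)

/-- `X` is the table of separated functions `g`. -/
structure IsTable {G : Type u} [Group G] [Fintype G] [Fintype (Cfsg.IrrCharacter G)] (t : G)
    (K : Subgroup G) [Fintype ↥K] (Q : ℤ) (g : Fin 3 → ↥K → ℂ)
    (X : BTab (Cfsg.IrrCharacter G)) : Prop where
  hQ : X.Q = Q
  hK : X.K = kConst t Q
  hd : ∀ χ, (X.d χ : ℂ) = (χ : G → ℂ) 1
  hT' : ∀ χ, (X.T χ : ℂ) = (χ : G → ℂ) t
  ha : ∀ χ, (X.a χ : ℂ) = secCoeff t K (χ : G → ℂ) (g 0)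
  hb : ∀ χ, (X.b χ : ℂ) = secCoeff t K (χ : G → ℂ) (g 1)
  hc : ∀ χ, (X.c χ : ℂ) = secCoeff t K (χ : G → ℂ) (g 2)

/-- Separated projective functions give a table. -/
def PropBlock : Prop :=
  ∀ (G : Type u) [Group G] [Fintype G] [Fintype (Cfsg.IrrCharacter G)] (t : G) (K : Subgroup G)
    [Fintype ↥K] (Q : ℤ) (c : ℕ) (g : Fin 3 → ↥K → ℂ),
    Cent t K Q c → IsProj K Q c g → IsSep t K Q g →
      ∃ X : BTab (Cfsg.IrrCharacter G), IsTable t K Q g X

end Cfsg.Agent.Lib.JankoThompson.GSide
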