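import Cfsg.Agent.Lib.JankoThompson.GSide.Interface
import Cfsg.Agent.Lib.KleinBlock.Formula
import Cfsg.Agent.S0948
import Cfsg.Agent.S4483

/-!
# Janko–Thompson: the principal 2-block of `K`

Four characters with signed degrees `1, -Q, (Q-1)/2, (Q-1)/2`.  The degrees come from the order
formula; for `Q < 0` this needs a real irreducible character of degree `-Q`.

Owner: helper68.
-/

set_option autoImplicit false
set_option linter.style.haveILetI false

universe u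

namespace Cfsg.Agent.Lib.JankoThompson.GSide

open Subgroup Cfsg.Agent.Lib.Characters.Basic Cfsg.Agent.Lib.Blocks

variable {X : Type u} [Group X] [Finite X]

/-- A real irreducible character of degree `-Q` when `Q < 0`. -/
def HasSteinberg (X : Type u) [Group X] (Q : ℤ) : Prop :=
  Q < 0 → ∃ χ : Cfsg.IrrCharacter X,
    (∀ x, ((χ : X → ℂ) x).im = 0) ∧ (Cfsg.charDegree (χ : X → ℂ) : ℤ) = -Q

/-- The signed degrees. -/
def quadDeg (Q : ℤ) : Fin 4 → ℤ := ![1, -Q, (Q - 1) / 2, (Q - 1) / 2]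

/-- The principal block. -/
structure Quad (M : Ideal Cfsg.AlgInt) (X : Type u) [Group X] (Q : ℤ) where
  θ : Fin 4 → Cfsg.IrrCharacter X
  e : Fin 4 → ℤ
  sign : ∀ i, e i = 1 ∨ e i = -1
  inj : Function.Injective θ
  θ_zero : θ 0 = oneChar X
  e_zero : e 0 = 1
  block : Cfsg.principalBlock M X = Set.range θ
  even : ∀ x : X, 2 ∣ orderOf x → ∀ i, (e i : ℂ) * (θ i : X → ℂ) x = 1
  rel : ∀ x : X, ¬ 2 ∣ orderOf x → ∑ i, (e i : ℂ) * (θ i : X → ℂ) x = 0
  deg : ∀ i, (e i : ℂ) * (θ i : X → ℂ) 1 = (quadDeg Q i : ℂ)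

theorem pos_case {Q x : ℤ} (hQ : 0 < Q) (hx : 0 < x) (hodd : 2 * ((Q - 1) / 2) = Q - 1)
    (h : 2 * (Q * (Q - 1)) * (x + 1) ^ 2 = (Q + 1) ^ 2 * (x * (2 * x + 1))) :
    x = (Q - 1) / 2 := by
  have h1 : (2 * x - (Q - 1)) * ((3 * Q + 1) * x + 2 * Q) = 0 := by linear_combination -h
  rcases mul_eq_zero.1 h1 with h2 | h2
  · omega
  · nlinarith

theorem neg_case {q B C : ℤ} (hq : 0 < q) (hs : B + C = q + 1)
    (h : q * (q + 1) * (q + 1) * ((B - 1) * (C - 1)) = (q - 1) ^ 2 * (q * (B * C))) :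
    2 * B = q + 1 ∧ 2 * C = q + 1 := by
  obtain rfl : C = q + 1 - B := by omega
  have h1 : q * (q * (2 * B - (q + 1)) ^ 2) = 0 := by linear_combination -h
  rcases mul_eq_zero.1 h1 with h2 | h2
  · omega
  rcases mul_eq_zero.1 h2 with h3 | h3
  · omega
  have := pow_eq_zero_iff (n := 2) (by norm_num) |>.1 h3
  omega

theorem mixed_false {Q A B C : ℤ} (hQ : 5 ≤ Q) (hB : 3 ≤ B) (hC : 3 ≤ C) (hs : 1 + A = B + C)
    (h : Q * (Q - 1) * ((A + 1) * (B - 1) * (C - 1)) = (Q + 1) ^ 2 * (A * B * C)) : False := by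
  have h1 : 0 < A - B + 1 := by omega
  have hA : 0 < A := by omega
  have h2 : (A + 1) * (B - 1) * (C - 1) < A * B * C := by
    have e : (A + 1) * (B - 1) < A * B := by nlinarith
    nlinarith [mul_lt_mul_of_pos_right e (show 0 < C - 1 by omega), mul_pos hA (show 0 < B by omega)]
  have h3 : Q * (Q - 1) < (Q + 1) ^ 2 := by nlinarith
  have h4 : 0 < A * B * C := by positivity
  nlinarith [mul_lt_mul_of_pos_right h3 h4, mul_le_mul_of_nonneg_left h2.le (show 0 ≤ Q * (Q - 1) by nlinarith)]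

/-- The principal block of a group with the orders of `PSL(2, q)` times `c`. -/
theorem exists_quad {G : Type u} [Group G] [Finite G] {K : Subgroup G} {Q : ℤ} {c : ℕ}
    (h : KleinPart K Q c) (hst : HasSteinberg ↥K Q) (M : Ideal Cfsg.AlgInt)
    (hM : Cfsg.IsPModular 2 M) : Nonempty (Quad M ↥K Q) := by
  classical
  haveI : Fact (Nat.Prime 2) := ⟨Nat.prime_two⟩
  haveI := hM.2.1
  obtain ⟨P⟩ : Nonempty (Sylow 2 ↥K) := inferInstance
  have hP := h.klein P
  have hidx : Odd (P : Subgroup ↥K).index :=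
    Nat.odd_iff.2 (Nat.two_dvd_ne_zero.1 P.not_dvd_index)
  have hcard : Nat.card ↥K = 4 * (P : Subgroup ↥K).index := by
    rw [← (P : Subgroup ↥K).card_mul_index, hP.card_four]
  -- an involution of `P`
  obtain ⟨J, hJ, hJ2⟩ : ∃ J ∈ (P : Subgroup ↥K), orderOf J = 2 := by
    have : 2 ∣ Nat.card ↥(P : Subgroup ↥K) := by rw [hP.card_four]; norm_num
    obtain ⟨J, hJ⟩ := exists_prime_orderOf_dvd_card' (G := ↥(P : Subgroup ↥K)) 2 this
    exact ⟨J, J.2, by rw [Subgroup.orderOf_coe]; exact hJ⟩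
  have hnc : ¬ ∃ N : Subgroup ↥K, N.Normal ∧ Nat.card N = (P : Subgroup ↥K).index := by
    rintro ⟨N, hN, hNc⟩
    haveI := hN
    haveI := hP.isMulCommutative
    have hodd : Odd (Nat.card N) := hNc ▸ hidx
    have hPN : ∀ a ∈ (P : Subgroup ↥K), orderOf a = 2 → a ∉ N := by
      intro a _ ha hm
      have := Subgroup.orderOf_dvd_natCard N hm
      rw [ha] at this
      exact (Nat.not_even_iff_odd.2 hodd) (even_iff_two_dvd.2 this)
    have hQ4 : N.index = 4 := by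
      have h1 := N.card_mul_index
      rw [hcard, hNc, mul_comm 4] at h1
      exact Nat.eq_of_mul_eq_mul_left (Nat.pos_of_ne_zero (by rintro e; rw [e] at hidx; simp at hidx)) h1
    have hcomm : ∀ a b : ↥K ⧸ N, a * b = b * a := by
      haveI : Fact (Nat.Prime 2) := ⟨Nat.prime_two⟩
      letI := IsPGroup.commGroupOfCardEqPrimeSq (p := 2) (G := ↥K ⧸ N)
        (by rw [← Subgroup.index_eq_card, hQ4]; norm_num)
      exact fun a b => mul_comm a b
    have hsame : ∀ a b : ↥K, orderOf a = 2 → orderOf b = 2 →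
        (QuotientGroup.mk a : ↥K ⧸ N) = QuotientGroup.mk b := by
      intro a b ha hb
      obtain ⟨v, hv⟩ := isConj_iff.1 (h.conjK a b ha hb)
      rw [← hv, QuotientGroup.mk_mul, QuotientGroup.mk_mul, QuotientGroup.mk_inv,
        hcomm (QuotientGroup.mk v), mul_inv_cancel_right]
    obtain ⟨b, hb, hb1, hbJ⟩ : ∃ b ∈ (P : Subgroup ↥K), b ≠ 1 ∧ b ≠ J := by
      by_contra hne
      push Not at hne
      have hle : (P : Subgroup ↥K) ≤ zpowers J := fun b hb => by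
        by_cases hb1 : b = 1
        · rw [hb1]; exact one_mem _
        · rw [hne b hb hb1]; exact mem_zpowers J
      have := Subgroup.card_le_of_le hle
      rw [hP.card_four, Nat.card_zpowers, hJ2] at this
      omega
    have hbo : orderOf b = 2 := Involutions.KleinSylow.orderOf_mem hP hb hb1
    have hJbo : orderOf (J * b) = 2 := Involutions.KleinSylow.orderOf_mem hP (mul_mem hJ hb) fun e => by
      apply hbJ
      have h2 : J * J = 1 := by rw [← pow_two, ← hJ2, pow_orderOf_eq_one]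
      exact mul_left_cancel (e.trans h2.symm)
    refine hPN J hJ hJ2 ((QuotientGroup.eq_one_iff J).1 ?_)
    have e := hsame (J * b) J hJbo hJ2
    rw [QuotientGroup.mk_mul, hsame b J hbo hJ2] at e
    exact mul_eq_right.1 e
  obtain ⟨ζ₂, ζ₃, ζ₄, ε, hε, hne2, hne3, h23, h24, h34, hB, hval, -, -, -, -⟩ :=
    Cfsg.Agent.S0948.result M hM P hP h.conjK
  obtain ⟨v2, v3, v4⟩ := hval J hJ2
  have hne4 : (ζ₄ : ↥K → ℂ) ≠ fun _ => 1 := fun e => by rw [e] at v4; norm_num at v4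
  obtain ⟨n, D⟩ := KleinBlock.exists_data M hM _ hidx hcard hnc P J hJ hJ2 ζ₂ ζ₃ ζ₄ 1 ε (-1)
    hB ⟨hne2, hne3, hne4, h23, h24, h34⟩ ⟨Or.inl rfl, hε, Or.inr rfl⟩
    ⟨by rw [v2]; norm_num, v3, by rw [v4]; norm_num⟩
  set x₂ := Cfsg.charDegree (ζ₂ : ↥K → ℂ) with hx2
  set x₃ := Cfsg.charDegree (ζ₃ : ↥K → ℂ) with hx3
  set x₄ := Cfsg.charDegree (ζ₄ : ↥K → ℂ) with hx4
  have p2 : 0 < x₂ := charDegree_pos ζ₂
  have p3 : 0 < x₃ := charDegree_pos ζ₃
  have p4 : 0 < x₄ := charDegree_pos ζ₄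
  have m2 : (4 : ℤ) ∣ (x₂ : ℤ) - 1 := D.four_dvd D.val₁
  have m3 : (4 : ℤ) ∣ (x₃ : ℤ) - ε := D.four_dvd D.val₂
  have m4 : (4 : ℤ) ∣ (x₄ : ℤ) - -1 := D.four_dvd D.val₃
  have hrel : (1 : ℤ) + x₂ + ε * x₃ - x₄ = 0 := by
    have hr := D.rel (g := 1) (by simp)
    simp only [char_one_eq_degree, ← hx2, ← hx3, ← hx4] at hr
    have : ((1 + x₂ + ε * x₃ - x₄ : ℤ) : ℂ) = ((0 : ℤ) : ℂ) := by
      push_cast at hr ⊢
      linear_combination hr
    exact Int.cast_inj.1 this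
  -- the order formula
  have hQ8 := h.Q_mod
  have hodd : 2 * ((Q - 1) / 2) = Q - 1 := by omega
  have hbig := h.Q_big
  have key : Q * (Q - 1) * (((x₂ : ℤ) + 1) * (x₃ + ε) * (x₄ - 1)) =
      (Q + 1) ^ 2 * ((x₂ : ℤ) * x₃ * x₄) := by
    have ho := D.order_eq
    have hC := h.cent J hJ2
    have hCP := h.centP P
    have hK := h.card
    have hc0 : (c : ℚ) ≠ 0 := by
      have := h.odd_c.pos
      exact_mod_cast this.ne'
    have hCq : (Nat.card ↥(centralizer ({J} : Set ↥K)) : ℚ) = c * |(Q : ℚ) + 1| := by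
      exact_mod_cast hC
    have hKq : (Nat.card ↥K : ℚ) = c * |(Q : ℚ) * ((Q : ℚ) ^ 2 - 1)| / 2 := by
      have : (2 * (Nat.card ↥K : ℤ) : ℚ) = ((c : ℤ) * |Q * (Q ^ 2 - 1)| : ℤ) := by exact_mod_cast hK
      push_cast at this
      linear_combination this / 2
    rw [hCq, hKq, hCP] at ho
    push_cast at ho
    have hs : |(Q : ℚ) * ((Q : ℚ) ^ 2 - 1)| = (Q : ℚ) * ((Q : ℚ) - 1) * |(Q : ℚ) + 1| := by
      rw [show (Q : ℚ) * ((Q : ℚ) ^ 2 - 1) = (Q : ℚ) * ((Q : ℚ) - 1) * ((Q : ℚ) + 1) by ring, abs_mul,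
        abs_of_nonneg]
      have : (0 : ℤ) ≤ Q * (Q - 1) := by
        rcases le_or_gt Q 0 with hq | hq <;> nlinarith
      exact_mod_cast this
    have hsq : |(Q : ℚ) + 1| ^ 2 = ((Q : ℚ) + 1) ^ 2 := sq_abs _
    rw [hs] at ho
    have hu : |(Q : ℚ) + 1| ≠ 0 := by
      rw [abs_ne_zero]
      have : Q + 1 ≠ 0 := by omega
      exact_mod_cast this
    have hred : (Q : ℚ) * ((Q : ℚ) - 1) *
        (1 + 1 / (x₂ : ℚ) + (ε : ℚ) / x₃ + -1 / x₄) = ((Q : ℚ) + 1) ^ 2 := by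
      refine mul_left_cancel₀ (mul_ne_zero (pow_ne_zero 3 hc0) hu) ?_
      linear_combination (1 / 8 : ℚ) * ho + (c : ℚ) ^ 3 * |(Q : ℚ) + 1| * hsq
    have q2 : (x₂ : ℚ) ≠ 0 := Nat.cast_ne_zero.2 p2.ne'
    have q3 : (x₃ : ℚ) ≠ 0 := Nat.cast_ne_zero.2 p3.ne'
    have q4 : (x₄ : ℚ) ≠ 0 := Nat.cast_ne_zero.2 p4.ne'
    have hr' : (1 : ℚ) + x₂ + ε * x₃ - x₄ = 0 := by exact_mod_cast hrel
    field_simp at hred
    have : (((Q * (Q - 1) * (((x₂ : ℤ) + 1) * (x₃ + ε) * (x₄ - 1))) : ℤ) : ℚ) =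
        (((Q + 1) ^ 2 * ((x₂ : ℤ) * x₃ * x₄) : ℤ) : ℚ) := by
      push_cast
      rcases hε with rfl | rfl <;> push_cast at hr' hred ⊢
      · linear_combination hred - (Q : ℚ) * ((Q : ℚ) - 1) * hr'
      · linear_combination hred + (Q : ℚ) * ((Q : ℚ) - 1) * hr'
    exact_mod_cast this
  have hneg : Q < 0 → (x₂ : ℤ) = -Q ∨ (ε = 1 ∧ (x₃ : ℤ) = -Q) := by
    intro hQ
    obtain ⟨χ, hreal, hdeg⟩ := hst hQ
    have hmem : χ ∈ Cfsg.principalBlock M ↥K := (Cfsg.Agent.S4483.result M hM).1 χ hreal (by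
      rw [Nat.odd_iff]; omega)
    rw [hB] at hmem
    rcases hmem with e | rfl | rfl | rfl
    · exfalso
      have : (Cfsg.charDegree (χ : ↥K → ℂ) : ℂ) = 1 := by rw [← char_one_eq_degree, e]
      have : (Cfsg.charDegree (χ : ↥K → ℂ) : ℤ) = 1 := by exact_mod_cast this
      omega
    · exact Or.inl hdeg
    · rcases hε with rfl | rfl
      · exact Or.inr ⟨rfl, hdeg⟩
      · omega
    · omega
  have hone : ∀ x : ↥K, (oneChar ↥K : ↥K → ℂ) x = 1 := fun x => oneChar_apply x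
  have heven : ∀ x : ↥K, 2 ∣ orderOf x →
      (ζ₂ : ↥K → ℂ) x = 1 ∧ (ζ₃ : ↥K → ℂ) x = ε ∧ (ζ₄ : ↥K → ℂ) x = -1 := by
    intro x hx
    obtain ⟨z, hz⟩ := exists_isPPart Nat.prime_two x
    have hz2 : orderOf z = 2 := by
      have h1 := KleinBlock.two_part_sq hP hz
      have hne : orderOf z ≠ 1 := by
        intro e1
        obtain ⟨y, hy, -, -, hyo⟩ := hz
        rw [orderOf_eq_one_iff] at e1
        rw [e1, one_mul] at hy
        exact hyo (hy ▸ hx)
      obtain ⟨y, -, -, ⟨j, hj⟩, -⟩ := hz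
      have hdvd : orderOf z ∣ 2 := orderOf_dvd_of_pow_eq_one (by rw [pow_two]; exact h1)
      rcases (Nat.dvd_prime Nat.prime_two).1 hdvd with e | e
      · exact absurd e hne
      · exact e
    have hv := fun χ hχ => D.value (χ := χ) hz2 hz hχ
    rw [hv ζ₂ (by rw [D.block]; simp), hv ζ₃ (by rw [D.block]; simp),
      hv ζ₄ (by rw [D.block]; simp)]
    exact ⟨v2, v3, v4⟩
  have hsgn : (ε : ℂ) * ε = 1 := by rcases hε with rfl | rfl <;> norm_num
  have hdeg : ∀ (χ : Cfsg.IrrCharacter ↥K) (e d : ℤ), e * (Cfsg.charDegree (χ : ↥K → ℂ) : ℤ) = d →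
      (e : ℂ) * (χ : ↥K → ℂ) 1 = (d : ℂ) := fun χ e d he => by
    rw [char_one_eq_degree, ← he]; push_cast; rfl
  rcases hε with rfl | rfl
  · -- `ε = 1`: then `Q > 0`
    have heq : x₂ = x₃ := D.degree_eq rfl rfl rfl
    have hx : (x₄ : ℤ) = 2 * x₂ + 1 := by omega
    have key' : 2 * (Q * (Q - 1)) * ((x₂ : ℤ) + 1) ^ 2 =
        (Q + 1) ^ 2 * ((x₂ : ℤ) * (2 * x₂ + 1)) := by
      rw [← heq, hx] at key
      have hx0 : (x₂ : ℤ) ≠ 0 := by omega
      refine mul_left_cancel₀ hx0 ?_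
      linear_combination key
    have hQpos : 0 < Q := by
      by_contra hle
      have hQ : Q < 0 := by omega
      have hx' : (x₂ : ℤ) = -Q := by
        rcases hneg hQ with e | ⟨-, e⟩
        · exact e
        · omega
      rw [hx'] at key'
      nlinarith [sq_nonneg (Q + 1), sq_nonneg Q]
    have hxQ := pos_case hQpos (by omega) hodd key'
    refine ⟨{ θ := ![oneChar ↥K, ζ₄, ζ₂, ζ₃], e := ![1, -1, 1, 1], sign := ?_, inj := ?_,
              θ_zero := rfl, e_zero := rfl, block := ?_, even := ?_, rel := ?_, deg := ?_ }⟩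
    · intro i; fin_cases i <;> simp
    · intro i j hij
      fin_cases i <;> fin_cases j <;> first
        | rfl
        | exfalso; revert hij; simp [D.ne₁, D.ne₂, D.ne₃, D.ne₁₂, D.ne₁₃, D.ne₂₃, D.ne₁.symm,
            D.ne₂.symm, D.ne₃.symm, D.ne₁₂.symm, D.ne₁₃.symm, D.ne₂₃.symm]
    · rw [D.block]; ext χ; simp [Set.mem_range, Fin.exists_fin_succ, eq_comm]; tauto
    · intro x hx i
      obtain ⟨a2, a3, a4⟩ := heven x hx
      fin_cases i <;> simp [hone, a2, a3, a4]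
    · intro x hx
      have := D.rel hx
      simp only [Fin.sum_univ_four]
      push_cast at this
      simp [hone] at this ⊢
      linear_combination this
    · intro i
      fin_cases i
      · simp [quadDeg, hone]
      · exact hdeg ζ₄ (-1) _ (show (-1 : ℤ) * (x₄ : ℤ) = -Q by omega)
      · exact hdeg ζ₂ 1 _ (show (1 : ℤ) * (x₂ : ℤ) = (Q - 1) / 2 by omega)
      · exact hdeg ζ₃ 1 _ (show (1 : ℤ) * (x₃ : ℤ) = (Q - 1) / 2 by omega)
  · -- `ε = -1`: then `Q < 0`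
    have hQ : Q < 0 := by
      by_contra hle
      exact mixed_false (Q := Q) (A := x₂) (B := x₃) (C := x₄) (by rw [abs_of_nonneg] at hbig <;> omega)
        (by omega) (by omega) (by omega) (by linear_combination key)
    have hx : (x₂ : ℤ) = -Q := by
      rcases hneg hQ with e | ⟨e, -⟩
      · exact e
      · norm_num at e
    have hBC := neg_case (q := -Q) (B := (x₃ : ℤ)) (C := (x₄ : ℤ)) (by omega) (by omega) (by
      rw [hx] at key
      linear_combination key)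
    refine ⟨{ θ := ![oneChar ↥K, ζ₂, ζ₃, ζ₄], e := ![1, 1, -1, -1], sign := ?_, inj := ?_,
              θ_zero := rfl, e_zero := rfl, block := ?_, even := ?_, rel := ?_, deg := ?_ }⟩
    · intro i; fin_cases i <;> simp
    · intro i j hij
      fin_cases i <;> fin_cases j <;> first
        | rfl
        | exfalso; revert hij; simp [D.ne₁, D.ne₂, D.ne₃, D.ne₁₂, D.ne₁₃, D.ne₂₃, D.ne₁.symm,
            D.ne₂.symm, D.ne₃.symm, D.ne₁₂.symm, D.ne₁₃.symm, D.ne₂₃.symm]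
    · rw [D.block]; ext χ; simp [Set.mem_range, Fin.exists_fin_succ, eq_comm]; tauto
    · intro x hx i
      obtain ⟨a2, a3, a4⟩ := heven x hx
      fin_cases i <;> simp [hone, a2, a3, a4]
    · intro x hx
      have := D.rel hx
      simp only [Fin.sum_univ_four]
      push_cast at this
      simp [hone] at this ⊢
      linear_combination this
    · intro i
      fin_cases i
      · simp [quadDeg, hone]
      · exact hdeg ζ₂ 1 _ (show (1 : ℤ) * (x₂ : ℤ) = -Q by omega)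
      · exact hdeg ζ₃ (-1) _ (show (-1 : ℤ) * (x₃ : ℤ) = (Q - 1) / 2 by omega)
      · exact hdeg ζ₄ (-1) _ (show (-1 : ℤ) * (x₄ : ℤ) = (Q - 1) / 2 by omega)

end Cfsg.Agent.Lib.JankoThompson.GSide
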