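import Cfsg.Agent.Lib.JankoThompson.GSide.Interface

/-!
# Janko–Thompson: the rows of the table of a block

As `JankoThompson/Rows.lean` (helper3), without a distinguished row: there always is one of pattern
`(1,0,0)`, the six other double rows being impossible modulo eight (helper37).
-/

set_option autoImplicit false
set_option linter.unusedSectionVars false

namespace Cfsg.Agent.Lib.JankoThompson.GSide

open Finset

namespace BTab

variable {ι : Type*} [Fintype ι] (X : BTab ι)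

/-- The common sign of the coordinates. -/
def sgn (i : ι) : ℤ := if X.a i ≠ 0 then X.a i else if X.b i ≠ 0 then X.b i else X.c i

/-- The signed degree. -/
def x (i : ι) : ℤ := X.sgn i * X.d i

/-- The signed value at the involution. -/
def τ (i : ι) : ℤ := X.sgn i * X.T i

/-- A row with a given pattern. -/
structure IsRow (i : ι) (p q r : ℤ) : Prop where
  sq : X.sgn i * X.sgn i = 1
  ha : X.a i = X.sgn i * p
  hb : X.b i = X.sgn i * q
  hc : X.c i = X.sgn i * r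

variable {X} {i : ι} {p q r : ℤ}

theorem IsRow.ne_zero (h : X.IsRow i p q r) (hp : p ≠ 0 ∨ q ≠ 0 ∨ r ≠ 0) :
    X.a i ≠ 0 ∨ X.b i ≠ 0 ∨ X.c i ≠ 0 := by
  have hs : X.sgn i ≠ 0 := fun e => by have := h.sq; rw [e] at this; norm_num at this
  rw [h.ha, h.hb, h.hc]
  rcases hp with h1 | h1 | h1
  · exact Or.inl (mul_ne_zero hs h1)
  · exact Or.inr (Or.inl (mul_ne_zero hs h1))
  · exact Or.inr (Or.inr (mul_ne_zero hs h1))

theorem IsRow.τ_eq (h : X.IsRow i p q r) (hp : p ≠ 0 ∨ q ≠ 0 ∨ r ≠ 0) : X.τ i = p + X.m * (q + r) := by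
  rw [τ, X.hT i (h.ne_zero hp), h.ha, h.hb, h.hc]
  linear_combination (p + X.m * (q + r)) * h.sq

theorem IsRow.x_ne (h : X.IsRow i p q r) : X.x i ≠ 0 := by
  have hs : X.sgn i ≠ 0 := fun e => by have := h.sq; rw [e] at this; norm_num at this
  exact mul_ne_zero hs (X.d_pos i).ne'

theorem IsRow.cong (h : X.IsRow i p q r) (hp : p ≠ 0 ∨ q ≠ 0 ∨ r ≠ 0) :
    (8 : ℤ) ∣ X.x i - (p + X.m * (q + r)) := by
  rw [← h.τ_eq hp, x, τ, ← mul_sub]
  exact (X.cong i).mul_left _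

theorem IsRow.abs_x (h : X.IsRow i p q r) : |X.x i| = X.d i := by
  have hs : |X.sgn i| = 1 := by
    rcases mul_self_eq_one_iff.1 h.sq with e | e <;> rw [e] <;> norm_num
  rw [x, abs_mul, hs, one_mul, abs_of_pos (X.d_pos i)]

/-- A weighted term in signed quantities. -/
theorem IsRow.term (h : X.IsRow i p q r) (c : ℤ) :
    (c : ℚ) * (X.T i : ℚ) ^ 2 / X.d i = ((X.sgn i * c : ℤ) : ℚ) * (X.τ i : ℚ) ^ 2 / X.x i := by
  have hd : (X.d i : ℚ) ≠ 0 := Int.cast_ne_zero.2 (X.d_pos i).ne'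
  have hs : (X.sgn i : ℚ) * X.sgn i = 1 := by exact_mod_cast h.sq
  have hs0 : (X.sgn i : ℚ) ≠ 0 := fun e => by rw [e] at hs; norm_num at hs
  simp only [x, τ]
  push_cast
  field_simp
  linear_combination (-(c : ℚ) * (X.T i : ℚ) ^ 2) * hs

/-- A weighted degree in signed quantities. -/
theorem IsRow.lin_term (h : X.IsRow i p q r) (c : ℤ) (y : ℤ) : c * y = X.sgn i * c * (X.sgn i * y) := by
  linear_combination (-(c * y)) * h.sq

variable (X)

theorem exists_zero_coords (i : ι) : 4 * (X.a i * X.a i + X.b i * X.b i + X.c i * X.c i) -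
    (X.a i + X.b i + X.c i) * (X.a i + X.b i + X.c i) < 8 := by
  classical
  set α := 3 * X.a i - X.b i - X.c i with hα
  set β := 3 * X.b i - X.a i - X.c i with hβ
  set γ := 3 * X.c i - X.a i - X.b i with hγ
  set f : ι → ℤ := fun j => α * X.a j + β * X.b j + γ * X.c j with hf
  have hfi : f i = 4 * (X.a i * X.a i + X.b i * X.b i + X.c i * X.c i) -
      (X.a i + X.b i + X.c i) * (X.a i + X.b i + X.c i) := by
    simp only [hf, hα, hβ, hγ]; ring
  have hsum : ∑ j, f j * f j = 8 * f i := by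
    have e : ∑ j, f j * f j = α * α * (∑ j, X.a j * X.a j) + β * β * (∑ j, X.b j * X.b j) +
        γ * γ * (∑ j, X.c j * X.c j) + 2 * α * β * (∑ j, X.a j * X.b j) +
        2 * α * γ * (∑ j, X.a j * X.c j) + 2 * β * γ * (∑ j, X.b j * X.c j) := by
      simp only [Finset.mul_sum, ← Finset.sum_add_distrib]
      exact Finset.sum_congr rfl fun j _ => by simp only [hf]; ring
    rw [e, X.aa, X.bb, X.cc, X.ab, X.ac, X.bc, hfi, hα, hβ, hγ]; ring
  rw [← hfi]
  have hle : f i * f i ≤ 8 * f i :=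
    hsum ▸ Finset.single_le_sum (f := fun j => f j * f j) (fun j _ => mul_self_nonneg (f j)) (Finset.mem_univ i)
  by_contra hge
  have h8 : f i = 8 := by nlinarith [not_lt.1 hge]
  have hz : ∀ j, j ≠ i → f j = 0 := by
    intro j hj
    have := Finset.sum_le_univ_sum_of_nonneg (s := {j, i}) fun k => mul_self_nonneg (f k)
    rw [Finset.sum_pair hj, hsum, h8] at this
    exact mul_self_eq_zero.1 (le_antisymm (by linarith) (mul_self_nonneg _))
  have hd : ∑ j, X.d j * f j = 0 := by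
    have e : ∑ j, X.d j * f j =
        α * (∑ j, X.d j * X.a j) + β * (∑ j, X.d j * X.b j) + γ * (∑ j, X.d j * X.c j) := by
      simp only [Finset.mul_sum, ← Finset.sum_add_distrib]
      exact Finset.sum_congr rfl fun j _ => by simp only [hf]; ring
    rw [e, X.da, X.db, X.dc]; ring
  rw [Finset.sum_eq_single i (fun j _ hj => by rw [hz j hj, mul_zero])
    (fun h => absurd (Finset.mem_univ i) h), h8] at hd
  have := X.d_pos i
  omega

/-- The seven patterns. -/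
theorem pattern (i : ι) :
    (X.a i = 0 ∧ X.b i = 0 ∧ X.c i = 0) ∨ X.IsRow i 1 0 0 ∨ X.IsRow i 0 1 0 ∨ X.IsRow i 0 0 1 ∨
      X.IsRow i 1 1 0 ∨ X.IsRow i 1 0 1 ∨ X.IsRow i 0 1 1 ∨ X.IsRow i 1 1 1 := by
  have h := X.exists_zero_coords i
  obtain ⟨a, ha⟩ : ∃ a, X.a i = a := ⟨_, rfl⟩
  obtain ⟨b, hb⟩ : ∃ b, X.b i = b := ⟨_, rfl⟩
  obtain ⟨c, hc⟩ : ∃ c, X.c i = c := ⟨_, rfl⟩
  rw [ha, hb, hc] at h
  have h1 : |a + b - c| ≤ 2 := by
    by_contra h'
    nlinarith [abs_mul_abs_self (a + b - c), mul_self_nonneg (a - b + c), mul_self_nonneg (-a + b + c)]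
  have h2 : |a - b + c| ≤ 2 := by
    by_contra h'
    nlinarith [abs_mul_abs_self (a - b + c), mul_self_nonneg (a + b - c), mul_self_nonneg (-a + b + c)]
  have h3 : |(-a + b + c)| ≤ 2 := by
    by_contra h'
    nlinarith [abs_mul_abs_self (-a + b + c), mul_self_nonneg (a + b - c), mul_self_nonneg (a - b + c)]
  rw [abs_le] at h1 h2 h3
  have hcases : (a = 0 ∧ b = 0 ∧ c = 0) ∨
      ∃ s : ℤ, (s = 1 ∨ s = -1) ∧
        ((a = s ∧ b = 0 ∧ c = 0) ∨ (a = 0 ∧ b = s ∧ c = 0) ∨ (a = 0 ∧ b = 0 ∧ c = s) ∨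
         (a = s ∧ b = s ∧ c = 0) ∨ (a = s ∧ b = 0 ∧ c = s) ∨ (a = 0 ∧ b = s ∧ c = s) ∨
         (a = s ∧ b = s ∧ c = s)) := by
    have : -2 ≤ a ∧ a ≤ 2 ∧ -2 ≤ b ∧ b ≤ 2 ∧ -2 ≤ c ∧ c ≤ 2 := by omega
    obtain ⟨_, _, _, _, _, _⟩ := this
    interval_cases a <;> interval_cases b <;> interval_cases c <;>
      first
        | omega
        | (norm_num at h; done)
        | (left; omega)
        | (right; refine ⟨1, Or.inl rfl, ?_⟩; omega)
        | (right; refine ⟨-1, Or.inr rfl, ?_⟩; omega)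
  rcases hcases with h0 | ⟨s, hs, h0⟩
  · exact Or.inl ⟨ha ▸ h0.1, hb ▸ h0.2.1, hc ▸ h0.2.2⟩
  · right
    have hne : s ≠ 0 := by omega
    have hsq : s * s = 1 := by rcases hs with rfl | rfl <;> norm_num
    have mk : ∀ p q r : ℤ, a = s * p → b = s * q → c = s * r → (p = 1 ∨ p = 0 ∧ (q = 1 ∨ q = 0 ∧ r = 1)) →
        X.IsRow i p q r := by
      intro p q r e1 e2 e3 hpq
      have hsg : X.sgn i = s := by
        rw [sgn, ha, hb, hc, e1, e2, e3]
        rcases hpq with rfl | ⟨rfl, rfl | ⟨rfl, rfl⟩⟩ <;> simp [hne]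
      exact ⟨by rw [hsg, hsq], by rw [hsg, ha, e1], by rw [hsg, hb, e2], by rw [hsg, hc, e3]⟩
    rcases h0 with ⟨e1, e2, e3⟩ | ⟨e1, e2, e3⟩ | ⟨e1, e2, e3⟩ | ⟨e1, e2, e3⟩ | ⟨e1, e2, e3⟩ | ⟨e1, e2, e3⟩ | ⟨e1, e2, e3⟩
    · exact Or.inl (mk _ _ _ (by simp [e1]) (by simp [e2]) (by simp [e3]) (by omega))
    · exact Or.inr (Or.inl (mk _ _ _ (by simp [e1]) (by simp [e2]) (by simp [e3]) (by omega)))
    · exact Or.inr (Or.inr (Or.inl (mk _ _ _ (by simp [e1]) (by simp [e2]) (by simp [e3]) (by omega))))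
    · exact Or.inr (Or.inr (Or.inr (Or.inl (mk _ _ _ (by simp [e1]) (by simp [e2]) (by simp [e3]) (by omega)))))
    · exact Or.inr (Or.inr (Or.inr (Or.inr (Or.inl (mk _ _ _ (by simp [e1]) (by simp [e2]) (by simp [e3]) (by omega))))))
    · exact Or.inr (Or.inr (Or.inr (Or.inr (Or.inr (Or.inl (mk _ _ _ (by simp [e1]) (by simp [e2]) (by simp [e3]) (by omega)))))))
    · exact Or.inr (Or.inr (Or.inr (Or.inr (Or.inr (Or.inr (mk _ _ _ (by simp [e1]) (by simp [e2]) (by simp [e3]) (by omega)))))))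

theorem IsRow.unique {X : BTab ι} {i : ι} {p q r p' q' r' : ℤ} (h : X.IsRow i p q r) (h' : X.IsRow i p' q' r') :
    p = p' ∧ q = q' ∧ r = r' := by
  have hs : X.sgn i ≠ 0 := fun e => by have := h.sq; rw [e] at this; norm_num at this
  exact ⟨mul_left_cancel₀ hs (h.ha.symm.trans h'.ha), mul_left_cancel₀ hs (h.hb.symm.trans h'.hb),
    mul_left_cancel₀ hs (h.hc.symm.trans h'.hc)⟩

/-- Eight rows. -/
structure Eight where
  A₀ : ι
  A : ι
  B₁ : ι
  B₂ : ι
  C₁ : ι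
  C₂ : ι
  D₁ : ι
  D₂ : ι
  nodup : [A₀, A, B₁, B₂, C₁, C₂, D₁, D₂].Nodup
  rA₀ : X.IsRow A₀ 1 0 0
  rA : X.IsRow A 1 0 0
  rB₁ : X.IsRow B₁ 0 1 0
  rB₂ : X.IsRow B₂ 0 1 0
  rC₁ : X.IsRow C₁ 0 0 1
  rC₂ : X.IsRow C₂ 0 0 1
  rD₁ : X.IsRow D₁ 1 1 1
  rD₂ : X.IsRow D₂ 1 1 1
  zero : ∀ i, i ∉ [A₀, A, B₁, B₂, C₁, C₂, D₁, D₂] → X.a i = 0 ∧ X.b i = 0 ∧ X.c i = 0

/-- Seven rows. -/
structure Seven where
  A₀ : ι
  U : ι
  U' : ι
  P₁ : ι
  P₂ : ι
  R : ι
  D : ι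
  nodup : [A₀, U, U', P₁, P₂, R, D].Nodup
  rA₀ : X.IsRow A₀ 1 0 0
  rU : X.IsRow U 0 1 0
  rU' : X.IsRow U' 0 0 1
  rP₁ : X.IsRow P₁ 1 1 0
  rP₂ : X.IsRow P₂ 1 0 1
  rR : X.IsRow R 0 1 1
  rD : X.IsRow D 1 1 1
  zero : ∀ i, i ∉ [A₀, U, U', P₁, P₂, R, D] → X.a i = 0 ∧ X.b i = 0 ∧ X.c i = 0

open scoped Classical in
/-- The rows of a pattern. -/
noncomputable def rowsOf (p q r : ℤ) : Finset ι := Finset.univ.filter fun i => X.IsRow i p q r

/-- The six patterns without a single row are impossible modulo eight. -/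
theorem six_false (h0 : (X.rowsOf 1 0 0).card = 0) (h1 : (X.rowsOf 0 1 0).card = 0)
    (h2 : (X.rowsOf 0 0 1).card = 0) (h3 : (X.rowsOf 1 1 1).card = 0)
    (h4 : (X.rowsOf 1 1 0).card = 2) (h5 : (X.rowsOf 1 0 1).card = 2)
    (h6 : (X.rowsOf 0 1 1).card = 2) : False := by
  classical
  have hsum : ∀ (f : ι → ℤ) (p q r : ℤ), (∀ i, X.IsRow i p q r → f i = X.x i) →
      (∀ i, ¬ X.IsRow i p q r → f i = 0) → ∑ i, f i = ∑ i ∈ X.rowsOf p q r, X.x i := by
    intro f p q r hf hf0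
    rw [rowsOf, Finset.sum_filter]
    refine Finset.sum_congr rfl fun i _ => ?_
    split_ifs with h
    exacts [hf i h, hf0 i h]
  have empty : ∀ p q r, (X.rowsOf p q r).card = 0 → ∀ i, ¬ X.IsRow i p q r := fun p q r h i hi => by
    have : i ∈ X.rowsOf p q r := by simpa [rowsOf] using hi
    rw [Finset.card_eq_zero.1 h] at this
    simp at this
  have hd : ∀ i, (X.a i + X.b i - X.c i) * X.d i =
      if X.IsRow i 1 1 0 then 2 * X.x i else 0 := by
    intro i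
    have key : ∀ p q r, X.IsRow i p q r → (X.a i + X.b i - X.c i) * X.d i = (p + q - r) * X.x i :=
      fun p q r h => by rw [h.ha, h.hb, h.hc, x]; ring
    rcases X.pattern i with ⟨e1, e2, e3⟩ | h | h | h | h | h | h | h
    · have hn : ¬ X.IsRow i 1 1 0 := fun hh => by
        rcases hh.ne_zero (by norm_num) with e | e | e
        exacts [e e1, e e2, e e3]
      rw [e1, e2, e3, if_neg hn]
      ring
    · exact absurd h (empty _ _ _ h0 i)
    · exact absurd h (empty _ _ _ h1 i)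
    · exact absurd h (empty _ _ _ h2 i)
    · rw [key _ _ _ h, if_pos h]; ring
    · rw [key _ _ _ h, if_neg fun hh => absurd (h.unique hh).2.1 (by norm_num)]; ring
    · rw [key _ _ _ h, if_neg fun hh => absurd (h.unique hh).1 (by norm_num)]; ring
    · exact absurd h (empty _ _ _ h3 i)
  have hz : ∑ i ∈ X.rowsOf 1 1 0, X.x i = 0 := by
    have e : ∑ i, (X.a i + X.b i - X.c i) * X.d i = 0 := by
      have e' : ∑ i, (X.a i + X.b i - X.c i) * X.d i =
          (∑ i, X.d i * X.a i) + (∑ i, X.d i * X.b i) - ∑ i, X.d i * X.c i := by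
        rw [← Finset.sum_add_distrib, ← Finset.sum_sub_distrib]
        exact Finset.sum_congr rfl fun i _ => by ring
      rw [e', X.da, X.db, X.dc]; ring
    rw [Finset.sum_congr rfl fun i _ => hd i] at e
    rw [rowsOf, Finset.sum_filter]
    have e2 : ∑ i, (if X.IsRow i 1 1 0 then 2 * X.x i else 0) =
        2 * ∑ i, if X.IsRow i 1 1 0 then X.x i else 0 := by
      rw [Finset.mul_sum]
      exact Finset.sum_congr rfl fun i _ => by split_ifs <;> ring
    omega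
  obtain ⟨i, j, hij, hS⟩ := Finset.card_eq_two.1 h4
  rw [hS, Finset.sum_pair hij] at hz
  have hi : X.IsRow i 1 1 0 := by
    have : i ∈ X.rowsOf 1 1 0 := hS ▸ Finset.mem_insert_self i {j}
    simpa [rowsOf] using this
  have hj : X.IsRow j 1 1 0 := by
    have : j ∈ X.rowsOf 1 1 0 := hS ▸ Finset.mem_insert_of_mem (Finset.mem_singleton_self j)
    simpa [rowsOf] using this
  obtain ⟨u, hu⟩ := hi.cong (by norm_num)
  obtain ⟨v, hv⟩ := hj.cong (by norm_num)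
  have := X.hm
  have := X.hQ8
  simp only [mul_one, add_zero] at hu hv
  omega

/-- The classification of the rows. -/
theorem rows : Nonempty X.Eight ∨ Nonempty X.Seven := by
  classical
  have key : ∀ (f : ι → ℤ) (g : ℤ → ℤ → ℤ → ℤ),
      (∀ i p q r, X.IsRow i p q r → f i = g p q r) →
      (∀ i, X.a i = 0 → X.b i = 0 → X.c i = 0 → f i = 0) →
      ∑ i, f i = g 1 0 0 * (X.rowsOf 1 0 0).card + g 0 1 0 * (X.rowsOf 0 1 0).card +
        g 0 0 1 * (X.rowsOf 0 0 1).card + g 1 1 0 * (X.rowsOf 1 1 0).card +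
        g 1 0 1 * (X.rowsOf 1 0 1).card + g 0 1 1 * (X.rowsOf 0 1 1).card +
        g 1 1 1 * (X.rowsOf 1 1 1).card := by
    intro f g hg h0
    simp only [rowsOf, Finset.card_filter, Nat.cast_sum, Nat.cast_ite, Nat.cast_one, Nat.cast_zero,
      Finset.mul_sum, ← Finset.sum_add_distrib]
    refine Finset.sum_congr rfl fun i _ => ?_
    have excl : ∀ p q r p' q' r', X.IsRow i p q r → (p, q, r) ≠ (p', q', r') → ¬ X.IsRow i p' q' r' :=
      fun p q r p' q' r' h hne h' => hne (by obtain ⟨rfl, rfl, rfl⟩ := h.unique h'; rfl)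
    rcases X.pattern i with ⟨e1, e2, e3⟩ | h | h | h | h | h | h | h
    · have : ∀ p q r : ℤ, (p ≠ 0 ∨ q ≠ 0 ∨ r ≠ 0) → ¬ X.IsRow i p q r := fun p q r hp hr => by
        rcases hr.ne_zero hp with h | h | h <;> exact h (by assumption)
      simp [h0 i e1 e2 e3, this]
    all_goals simp [hg i _ _ _ h, h, excl _ _ _ _ _ _ h]
  have haa := key (fun i => X.a i * X.a i) (fun p _ _ => p * p)
    (fun i p q r h => by simp only [h.ha]; linear_combination (p * p) * h.sq) (fun i e _ _ => by simp [e])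
  have hbb := key (fun i => X.b i * X.b i) (fun _ q _ => q * q)
    (fun i p q r h => by simp only [h.hb]; linear_combination (q * q) * h.sq) (fun i _ e _ => by simp [e])
  have hcc := key (fun i => X.c i * X.c i) (fun _ _ r => r * r)
    (fun i p q r h => by simp only [h.hc]; linear_combination (r * r) * h.sq) (fun i _ _ e => by simp [e])
  have hab := key (fun i => X.a i * X.b i) (fun p q _ => p * q)
    (fun i p q r h => by simp only [h.ha, h.hb]; linear_combination (p * q) * h.sq) (fun i e _ _ => by simp [e])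
  have hac := key (fun i => X.a i * X.c i) (fun p _ r => p * r)
    (fun i p q r h => by simp only [h.ha, h.hc]; linear_combination (p * r) * h.sq) (fun i e _ _ => by simp [e])
  have hbc := key (fun i => X.b i * X.c i) (fun _ q r => q * r)
    (fun i p q r h => by simp only [h.hb, h.hc]; linear_combination (q * r) * h.sq) (fun i _ e _ => by simp [e])
  rw [X.aa] at haa; rw [X.bb] at hbb; rw [X.cc] at hcc
  rw [X.ab] at hab; rw [X.ac] at hac; rw [X.bc] at hbc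
  simp only [mul_zero, zero_mul, one_mul, mul_one, add_zero, zero_add] at haa hbb hcc hab hac hbc
  have ho' : 0 < (X.rowsOf 1 0 0).card := by
    by_contra hz
    exact X.six_false (by omega) (by omega) (by omega) (by omega) (by omega) (by omega) (by omega)
  have mem : ∀ {i p q r}, i ∈ X.rowsOf p q r ↔ X.IsRow i p q r := by simp [rowsOf]
  have dist : ∀ {i j p q r p' q' r'}, X.IsRow i p q r → X.IsRow j p' q' r' →
      ((p, q, r) : ℤ × ℤ × ℤ) ≠ (p', q', r') → i ≠ j := by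
    intro i j p q r p' q' r' h h' hne e
    subst e
    obtain ⟨rfl, rfl, rfl⟩ := h.unique h'
    exact hne rfl
  by_cases hn : (X.rowsOf 1 0 0).card = 1
  · right
    obtain ⟨o', hea⟩ := Finset.card_eq_one.1 hn
    obtain ⟨U, hU⟩ := Finset.card_eq_one.1 (show (X.rowsOf 0 1 0).card = 1 by omega)
    obtain ⟨U', hU'⟩ := Finset.card_eq_one.1 (show (X.rowsOf 0 0 1).card = 1 by omega)
    obtain ⟨P₁, hP₁⟩ := Finset.card_eq_one.1 (show (X.rowsOf 1 1 0).card = 1 by omega)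
    obtain ⟨P₂, hP₂⟩ := Finset.card_eq_one.1 (show (X.rowsOf 1 0 1).card = 1 by omega)
    obtain ⟨R, hR⟩ := Finset.card_eq_one.1 (show (X.rowsOf 0 1 1).card = 1 by omega)
    obtain ⟨D, hD⟩ := Finset.card_eq_one.1 (show (X.rowsOf 1 1 1).card = 1 by omega)
    have rU := mem.1 (hU ▸ Finset.mem_singleton_self U)
    have rU' := mem.1 (hU' ▸ Finset.mem_singleton_self U')
    have rP₁ := mem.1 (hP₁ ▸ Finset.mem_singleton_self P₁)
    have rP₂ := mem.1 (hP₂ ▸ Finset.mem_singleton_self P₂)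
    have rR := mem.1 (hR ▸ Finset.mem_singleton_self R)
    have rD := mem.1 (hD ▸ Finset.mem_singleton_self D)
    have r0 := mem.1 (hea ▸ Finset.mem_singleton_self o')
    refine ⟨⟨o', U, U', P₁, P₂, R, D, ?_, r0, rU, rU', rP₁, rP₂, rR, rD, fun i hi => ?_⟩⟩
    · simp only [List.nodup_cons, List.mem_cons, List.not_mem_nil, or_false, not_or, List.nodup_nil,
        not_false_eq_true, and_true]
      repeat' constructor
      all_goals exact dist ‹_› ‹_› (by decide)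
    · simp only [List.mem_cons, List.not_mem_nil, or_false, not_or] at hi
      obtain ⟨h1, h2, h3, h4, h5, h6, h7⟩ := hi
      rcases X.pattern i with h | h | h | h | h | h | h | h
      · exact h
      · exact absurd (Finset.mem_singleton.1 (hea ▸ mem.2 h)) h1
      · exact absurd (Finset.mem_singleton.1 (hU ▸ mem.2 h)) h2
      · exact absurd (Finset.mem_singleton.1 (hU' ▸ mem.2 h)) h3
      · exact absurd (Finset.mem_singleton.1 (hP₁ ▸ mem.2 h)) h4
      · exact absurd (Finset.mem_singleton.1 (hP₂ ▸ mem.2 h)) h5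
      · exact absurd (Finset.mem_singleton.1 (hR ▸ mem.2 h)) h6
      · exact absurd (Finset.mem_singleton.1 (hD ▸ mem.2 h)) h7
  · left
    obtain ⟨o, A, hoA, hA'⟩ := Finset.card_eq_two.1 (show (X.rowsOf 1 0 0).card = 2 by omega)
    obtain ⟨B₁, B₂, hBne, hB⟩ := Finset.card_eq_two.1 (show (X.rowsOf 0 1 0).card = 2 by omega)
    obtain ⟨C₁, C₂, hCne, hC⟩ := Finset.card_eq_two.1 (show (X.rowsOf 0 0 1).card = 2 by omega)
    obtain ⟨D₁, D₂, hDne, hD⟩ := Finset.card_eq_two.1 (show (X.rowsOf 1 1 1).card = 2 by omega)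
    have h4 : (X.rowsOf 1 1 0).card = 0 := by omega
    have h5 : (X.rowsOf 1 0 1).card = 0 := by omega
    have h6 : (X.rowsOf 0 1 1).card = 0 := by omega
    have r0 := mem.1 (hA' ▸ Finset.mem_insert_self o {A})
    have rA := mem.1 (hA' ▸ Finset.mem_insert_of_mem (Finset.mem_singleton_self A))
    have rB₁ := mem.1 (hB ▸ Finset.mem_insert_self B₁ {B₂})
    have rB₂ := mem.1 (hB ▸ Finset.mem_insert_of_mem (Finset.mem_singleton_self B₂))
    have rC₁ := mem.1 (hC ▸ Finset.mem_insert_self C₁ {C₂})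
    have rC₂ := mem.1 (hC ▸ Finset.mem_insert_of_mem (Finset.mem_singleton_self C₂))
    have rD₁ := mem.1 (hD ▸ Finset.mem_insert_self D₁ {D₂})
    have rD₂ := mem.1 (hD ▸ Finset.mem_insert_of_mem (Finset.mem_singleton_self D₂))
    refine ⟨⟨o, A, B₁, B₂, C₁, C₂, D₁, D₂, ?_, r0, rA, rB₁, rB₂, rC₁, rC₂, rD₁, rD₂, fun i hi => ?_⟩⟩
    · simp only [List.nodup_cons, List.mem_cons, List.not_mem_nil, or_false, not_or, List.nodup_nil,
        not_false_eq_true, and_true]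
      repeat' constructor
      all_goals first
        | assumption
        | exact dist ‹_› ‹_› (by decide)
    · simp only [List.mem_cons, List.not_mem_nil, or_false, not_or] at hi
      obtain ⟨i0, i1, i2, i3, i4, i5, i6, i7⟩ := hi
      rcases X.pattern i with h | h | h | h | h | h | h | h
      · exact h
      · have := hA' ▸ mem.2 h; simp [i0, i1] at this
      · have := hB ▸ mem.2 h; simp [i2, i3] at this
      · have := hC ▸ mem.2 h; simp [i4, i5] at this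
      · exact absurd (mem.2 h) (by rw [Finset.card_eq_zero.1 h4]; simp)
      · exact absurd (mem.2 h) (by rw [Finset.card_eq_zero.1 h5]; simp)
      · exact absurd (mem.2 h) (by rw [Finset.card_eq_zero.1 h6]; simp)
      · have := hD ▸ mem.2 h; simp [i6, i7] at this

variable {X}

/-- A sum over eight rows. -/
theorem Eight.sum (E : X.Eight) {R : Type*} [AddCommMonoid R] (f : ι → R)
    (h : ∀ i, i ∉ [E.A₀, E.A, E.B₁, E.B₂, E.C₁, E.C₂, E.D₁, E.D₂] → f i = 0) :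
    ∑ i, f i = f E.A₀ + f E.A + f E.B₁ + f E.B₂ + f E.C₁ + f E.C₂ + f E.D₁ + f E.D₂ := by
  classical
  rw [← Finset.sum_subset (Finset.subset_univ [E.A₀, E.A, E.B₁, E.B₂, E.C₁, E.C₂, E.D₁, E.D₂].toFinset)
    (fun i _ hi => h i (by simpa using hi)), List.sum_toFinset _ E.nodup]
  simp [add_assoc]

/-- A sum over seven rows. -/
theorem Seven.sum (E : X.Seven) {R : Type*} [AddCommMonoid R] (f : ι → R)
    (h : ∀ i, i ∉ [E.A₀, E.U, E.U', E.P₁, E.P₂, E.R, E.D] → f i = 0) :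
    ∑ i, f i = f E.A₀ + f E.U + f E.U' + f E.P₁ + f E.P₂ + f E.R + f E.D := by
  classical
  rw [← Finset.sum_subset (Finset.subset_univ [E.A₀, E.U, E.U', E.P₁, E.P₂, E.R, E.D].toFinset)
    (fun i _ hi => h i (by simpa using hi)), List.sum_toFinset _ E.nodup]
  simp [add_assoc]

theorem d_mul_coord (h : X.IsRow i p q r) :
    X.d i * X.a i = p * X.x i ∧ X.d i * X.b i = q * X.x i ∧ X.d i * X.c i = r * X.x i := by
  rw [x, h.ha, h.hb, h.hc]; exact ⟨by ring, by ring, by ring⟩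

theorem coord_term (h : X.IsRow i p q r) :
    (X.a i : ℚ) * (X.T i : ℚ) ^ 2 / X.d i = (p : ℚ) * (X.τ i : ℚ) ^ 2 / X.x i ∧
    (X.b i : ℚ) * (X.T i : ℚ) ^ 2 / X.d i = (q : ℚ) * (X.τ i : ℚ) ^ 2 / X.x i ∧
    (X.c i : ℚ) * (X.T i : ℚ) ^ 2 / X.d i = (r : ℚ) * (X.τ i : ℚ) ^ 2 / X.x i := by
  have hp : ∀ p : ℤ, X.sgn i * (X.sgn i * p) = p := fun p => by linear_combination p * h.sq
  refine ⟨?_, ?_, ?_⟩
  · rw [h.term, h.ha, hp]
  · rw [h.term, h.hb, hp]
  · rw [h.term, h.hc, hp]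

/-- The degree relations of eight rows. -/
theorem Eight.deg (E : X.Eight) :
    X.x E.A₀ + X.x E.A + X.x E.D₁ + X.x E.D₂ = 0 ∧ X.x E.B₁ + X.x E.B₂ + X.x E.D₁ + X.x E.D₂ = 0 ∧
      X.x E.C₁ + X.x E.C₂ + X.x E.D₁ + X.x E.D₂ = 0 := by
  have ha := E.sum (fun i => X.d i * X.a i) (fun i hi => by simp [(E.zero i hi).1])
  have hb := E.sum (fun i => X.d i * X.b i) (fun i hi => by simp [(E.zero i hi).2.1])
  have hc := E.sum (fun i => X.d i * X.c i) (fun i hi => by simp [(E.zero i hi).2.2])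
  simp only [X.da, X.db, X.dc, d_mul_coord E.rA₀, d_mul_coord E.rA, d_mul_coord E.rB₁,
    d_mul_coord E.rB₂, d_mul_coord E.rC₁, d_mul_coord E.rC₂, d_mul_coord E.rD₁, d_mul_coord E.rD₂] at ha hb hc
  omega

/-- The degree relations of seven rows. -/
theorem Seven.deg (E : X.Seven) :
    X.x E.A₀ + X.x E.P₁ + X.x E.P₂ + X.x E.D = 0 ∧ X.x E.U + X.x E.P₁ + X.x E.R + X.x E.D = 0 ∧
      X.x E.U' + X.x E.P₂ + X.x E.R + X.x E.D = 0 := by
  have ha := E.sum (fun i => X.d i * X.a i) (fun i hi => by simp [(E.zero i hi).1])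
  have hb := E.sum (fun i => X.d i * X.b i) (fun i hi => by simp [(E.zero i hi).2.1])
  have hc := E.sum (fun i => X.d i * X.c i) (fun i hi => by simp [(E.zero i hi).2.2])
  simp only [X.da, X.db, X.dc, d_mul_coord E.rA₀, d_mul_coord E.rU, d_mul_coord E.rU',
    d_mul_coord E.rP₁, d_mul_coord E.rP₂, d_mul_coord E.rR, d_mul_coord E.rD] at ha hb hc
  omega

theorem τ_vals (h : X.IsRow i p q r) (hp : p ≠ 0 ∨ q ≠ 0 ∨ r ≠ 0) :
    (X.τ i : ℚ) = p + (((X.Q : ℚ) - 1) / 2) * (q + r) := by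
  have hm : (X.m : ℚ) = ((X.Q : ℚ) - 1) / 2 := by
    have : 2 * (X.m : ℚ) = X.Q - 1 := by exact_mod_cast X.hm
    linarith
  rw [h.τ_eq hp]; push_cast; rw [hm]

/-- The class equations of eight rows. -/
theorem Eight.eqs (E : X.Eight) :
    1 / (X.x E.A₀ : ℚ) + 1 / (X.x E.A : ℚ) + (X.Q : ℚ) ^ 2 * (1 / (X.x E.D₁ : ℚ) + 1 / (X.x E.D₂ : ℚ)) = X.K * ((X.Q : ℚ) - 1) ∧
    (((X.Q : ℚ) - 1) / 2) ^ 2 * (1 / (X.x E.B₁ : ℚ) + 1 / (X.x E.B₂ : ℚ)) +
      (X.Q : ℚ) ^ 2 * (1 / (X.x E.D₁ : ℚ) + 1 / (X.x E.D₂ : ℚ)) =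
        X.K * (3 * (X.Q : ℚ) - 1) / ((X.Q : ℚ) + 1) ∧
    (((X.Q : ℚ) - 1) / 2) ^ 2 * (1 / (X.x E.C₁ : ℚ) + 1 / (X.x E.C₂ : ℚ)) +
      (X.Q : ℚ) ^ 2 * (1 / (X.x E.D₁ : ℚ) + 1 / (X.x E.D₂ : ℚ)) =
        X.K * (3 * (X.Q : ℚ) - 1) / ((X.Q : ℚ) + 1) := by
  have ha := E.sum (fun i => (X.a i : ℚ) * (X.T i : ℚ) ^ 2 / X.d i) (fun i hi => by simp [(E.zero i hi).1])
  have hb := E.sum (fun i => (X.b i : ℚ) * (X.T i : ℚ) ^ 2 / X.d i) (fun i hi => by simp [(E.zero i hi).2.1])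
  have hc := E.sum (fun i => (X.c i : ℚ) * (X.T i : ℚ) ^ 2 / X.d i) (fun i hi => by simp [(E.zero i hi).2.2])
  simp only [X.eqA, X.eqB, X.eqC, coord_term E.rA₀, coord_term E.rA, coord_term E.rB₁,
    coord_term E.rB₂, coord_term E.rC₁, coord_term E.rC₂, coord_term E.rD₁, coord_term E.rD₂] at ha hb hc
  refine ⟨(Eq.trans ?_ ha.symm), (Eq.trans ?_ hb.symm), (Eq.trans ?_ hc.symm)⟩ <;>
  simp only [τ_vals E.rA₀ (by norm_num), τ_vals E.rA (by norm_num), τ_vals E.rB₁ (by norm_num),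
    τ_vals E.rB₂ (by norm_num), τ_vals E.rC₁ (by norm_num), τ_vals E.rC₂ (by norm_num),
    τ_vals E.rD₁ (by norm_num), τ_vals E.rD₂ (by norm_num)] <;>
  push_cast <;> ring

/-- The class equations of seven rows. -/
theorem Seven.eqs (E : X.Seven) :
    1 / (X.x E.A₀ : ℚ) + (((X.Q : ℚ) + 1) / 2) ^ 2 * (1 / (X.x E.P₁ : ℚ) + 1 / (X.x E.P₂ : ℚ)) + (X.Q : ℚ) ^ 2 / (X.x E.D : ℚ) =
        X.K * ((X.Q : ℚ) - 1) ∧
    (((X.Q : ℚ) - 1) / 2) ^ 2 / (X.x E.U : ℚ) + (((X.Q : ℚ) + 1) / 2) ^ 2 / (X.x E.P₁ : ℚ) +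
      ((X.Q : ℚ) - 1) ^ 2 / (X.x E.R : ℚ) + (X.Q : ℚ) ^ 2 / (X.x E.D : ℚ) =
        X.K * (3 * (X.Q : ℚ) - 1) / ((X.Q : ℚ) + 1) ∧
    (((X.Q : ℚ) - 1) / 2) ^ 2 / (X.x E.U' : ℚ) + (((X.Q : ℚ) + 1) / 2) ^ 2 / (X.x E.P₂ : ℚ) +
      ((X.Q : ℚ) - 1) ^ 2 / (X.x E.R : ℚ) + (X.Q : ℚ) ^ 2 / (X.x E.D : ℚ) =
        X.K * (3 * (X.Q : ℚ) - 1) / ((X.Q : ℚ) + 1) := by
  have ha := E.sum (fun i => (X.a i : ℚ) * (X.T i : ℚ) ^ 2 / X.d i) (fun i hi => by simp [(E.zero i hi).1])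
  have hb := E.sum (fun i => (X.b i : ℚ) * (X.T i : ℚ) ^ 2 / X.d i) (fun i hi => by simp [(E.zero i hi).2.1])
  have hc := E.sum (fun i => (X.c i : ℚ) * (X.T i : ℚ) ^ 2 / X.d i) (fun i hi => by simp [(E.zero i hi).2.2])
  simp only [X.eqA, X.eqB, X.eqC, coord_term E.rA₀, coord_term E.rU, coord_term E.rU',
    coord_term E.rP₁, coord_term E.rP₂, coord_term E.rR, coord_term E.rD] at ha hb hc
  refine ⟨(Eq.trans ?_ ha.symm), (Eq.trans ?_ hb.symm), (Eq.trans ?_ hc.symm)⟩ <;>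
  simp only [τ_vals E.rA₀ (by norm_num), τ_vals E.rU (by norm_num), τ_vals E.rU' (by norm_num),
    τ_vals E.rP₁ (by norm_num), τ_vals E.rP₂ (by norm_num), τ_vals E.rR (by norm_num),
    τ_vals E.rD (by norm_num)] <;>
  push_cast <;> ring

end BTab

end Cfsg.Agent.Lib.JankoThompson.GSide
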