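import Cfsg.Agent.Lib.Characters.Transitive
import Mathlib.LinearAlgebra.Projectivization.Action
import Mathlib.LinearAlgebra.Projectivization.Cardinality

/-!
# Janko–Thompson: the Steinberg character of a doubly transitive action

Supplies `KleinPart.st`: for a doubly transitive action on `1 - Q` points, in particular for a group
isomorphic to `PSL(2, q)` with `Q = -q`, there is a real irreducible character of degree `-Q`.

Owner: helper68.
-/

set_option autoImplicit false

universe u v w

namespace Cfsg.Agent.Lib.JankoThompson.GSide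

open MulAction Cfsg.Agent.Lib.Characters.Transitive
open scoped LinearAlgebra.Projectivization

/-- A doubly transitive action on `1 - Q` points gives a real irreducible character of degree `-Q`. -/
theorem exists_steinberg_of_action {H : Type u} [Group H] [Finite H] (X : Type v) [MulAction H X]
    [Finite X] [IsMultiplyPretransitive H X 2] {Q : ℤ} (hQ : Q < 0)
    (hX : (Nat.card X : ℤ) = 1 - Q) :
    ∃ χ : Cfsg.IrrCharacter H,
      (∀ h : H, ((χ : H → ℂ) h).im = 0) ∧ (χ : H → ℂ) 1 = -(Q : ℂ) := by
  haveI : IsPretransitive H X := isPretransitive_of_is_two_pretransitive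
  refine ⟨⟨fun g => permChar X g - 1, (isIrrCharacter_iff X (by omega)).2 inferInstance⟩,
    fun h => ?_, ?_⟩
  · simp [permChar]
  · show permChar X (1 : H) - 1 = -(Q : ℂ)
    have e : permChar X (1 : H) = (Nat.card X : ℂ) := by
      simp [permChar, MulAction.fixedBy]
    have h2 : ((Nat.card X : ℤ) : ℂ) = ((1 - Q : ℤ) : ℂ) := by rw [hX]
    push_cast at h2
    rw [e, h2]
    ring

/-- The case of a group isomorphic to `PSL(2, q)`, `Q = -q`. -/
theorem exists_steinberg_of_psl {H : Type u} [Group H] [Finite H] {F : Type w} [Field F] [Finite F]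
    (e : H ≃* Matrix.ProjectiveSpecialLinearGroup (Fin 2) F) {Q : ℤ}
    (hQ : Q = -(Nat.card F : ℤ)) :
    ∃ χ : Cfsg.IrrCharacter H,
      (∀ h : H, ((χ : H → ℂ) h).im = 0) ∧ (χ : H → ℂ) 1 = -(Q : ℂ) := by
  letI : MulAction H (ℙ F (Fin 2 → F)) := MulAction.compHom _ e.toMonoidHom
  haveI : IsMultiplyPretransitive H (ℙ F (Fin 2 → F)) 2 := by
    rw [is_two_pretransitive_iff]
    intro a b c d hab hcd
    obtain ⟨g, h1, h2⟩ := (is_two_pretransitive_iff.1 (inferInstance :
      IsMultiplyPretransitive (Matrix.SpecialLinearGroup (Fin 2) F) (ℙ F (Fin 2 → F)) 2)) hab hcd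
    refine ⟨e.symm g, ?_, ?_⟩
    · show e (e.symm g) • a = c
      rwa [MulEquiv.apply_symm_apply, Matrix.ProjectiveSpecialLinearGroup.smul_proj_mk]
    · show e (e.symm g) • b = d
      rwa [MulEquiv.apply_symm_apply, Matrix.ProjectiveSpecialLinearGroup.smul_proj_mk]
  haveI : Finite (ℙ F (Fin 2 → F)) := Quotient.finite _
  refine exists_steinberg_of_action (ℙ F (Fin 2 → F)) ?_ ?_
  · have := Nat.card_pos (α := F)
    omega
  · rw [Projectivization.card_of_finrank_two F _ (Module.finrank_fin_fun F), hQ]
    push_cast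
    ring

end Cfsg.Agent.Lib.JankoThompson.GSide
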