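import Cfsg.Agent.Lib.Walter.NoField.Section

/-!
# Janko–Thompson: the torus in the centraliser of the four group `⟨t, s⟩`

`TorusData t K`: `C(t, s) = (⟨t, s⟩ × U)⟨w⟩`, an element `r` of order three cycling `t, s, t s`, and
a subgroup `T₀` of the torus `T ≤ U` whose non-trivial elements have centraliser in
`N = N(⟨t, s⟩)`.  S0343: `U = T = T₀`; Walter's section Z: `U = T F`.  This file: the set
`support = {v x | some power of x is non-trivial in T₀}` is a TI set with normaliser `N`, the six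
cosets of `H₀ = ⟨t, s⟩ × U` in `N`, and the involution pairs with product in `support`.

Owner: helper66.
-/

set_option autoImplicit false
set_option linter.style.haveILetI false
set_option linter.unusedSectionVars false

universe u

namespace Cfsg.Agent.Lib.JankoThompson.GSide

open Subgroup

variable {G : Type u} [Group G]

/-- An element of a subgroup of odd order is a power of its square. -/
theorem mem_of_sq_mem {U T : Subgroup G} (hU : Odd (Nat.card ↥U)) {x : G} (hx : x ∈ U)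
    (h : x * x ∈ T) : x ∈ T := by
  obtain ⟨k, hk⟩ := hU
  have h1 : x ^ (2 * k + 1) = 1 := by
    have := congrArg (Subtype.val : ↥U → G) (pow_card_eq_one' (G := ↥U) (x := ⟨x, hx⟩))
    rw [SubmonoidClass.coe_pow, hk] at this
    exact this
  have : (x * x) ^ (k + 1) = x := by
    rw [← pow_two, ← pow_mul, show 2 * (k + 1) = 2 * k + 1 + 1 by ring, pow_succ, h1, one_mul]
  rw [← this]
  exact pow_mem h _

/-- The data of the torus. -/
structure TorusData (t : G) (K : Subgroup G) where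
  ord : orderOf t = 2
  split : Cfsg.IsInternalDirectProduct (zpowers t) K (centralizer ({t} : Set G))
  s : G
  w : G
  r : G
  U : Subgroup G
  T : Subgroup G
  T₀ : Subgroup G
  s_mem : s ∈ K
  s_ord : orderOf s = 2
  w_mem : w ∈ K
  w_ord : orderOf w = 2
  w_ne : w ≠ s
  sw : Commute s w
  U_le : U ≤ K
  U_odd : Odd (Nat.card ↥U)
  U_s : ∀ x ∈ U, Commute s x
  T_le : T ≤ U
  T₀_le : T₀ ≤ T
  T_conj : ∀ x ∈ U, ∀ a ∈ T, x * a * x⁻¹ ∈ T
  T₀_cent : ∀ x ∈ U, ∀ a ∈ T₀, Commute a x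
  w_inv : ∀ a ∈ T, w * a * w⁻¹ = a⁻¹
  w_mod : ∀ x ∈ U, x⁻¹ * (w * x * w⁻¹) ∈ T
  cent_ts : ∀ g : G, Commute g t → Commute g s →
    ∃ v : G, (v = 1 ∨ v = t ∨ v = s ∨ v = t * s) ∧ ∃ x ∈ U, g = v * x ∨ g = v * x * w
  r_cube : r ^ 3 = 1
  r_t : r * t * r⁻¹ = s
  r_s : r * s * r⁻¹ = t * s
  r_U : ∀ x ∈ U, r * x * r⁻¹ ∈ U
  r_T₀ : ∀ a ∈ T₀, r * a * r⁻¹ ∈ T₀
  cent_T₀ : ∀ a ∈ T₀, a ≠ 1 → ∀ g : G, Commute g a → ∀ v : G,
    (v = 1 ∨ v = t ∨ v = s ∨ v = t * s) → g * v * g⁻¹ = 1 ∨ g * v * g⁻¹ = t ∨ g * v * g⁻¹ = s ∨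
      g * v * g⁻¹ = t * s
  one_class : ∀ a : G, orderOf a = 2 → IsConj t a

namespace TorusData

variable {t : G} {K : Subgroup G} (d : TorusData t K)

include d

theorem t_sq : t * t = 1 := by rw [← pow_two, ← d.ord, pow_orderOf_eq_one]

theorem s_sq : d.s * d.s = 1 := by rw [← pow_two, ← d.s_ord, pow_orderOf_eq_one]

theorem w_sq : d.w * d.w = 1 := by rw [← pow_two, ← d.w_ord, pow_orderOf_eq_one]

theorem w_inv' : d.w⁻¹ = d.w := inv_eq_of_mul_eq_one_right d.w_sq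

theorem t_ne_one : t ≠ 1 := fun h => by simpa [h] using d.ord

theorem s_ne_one : d.s ≠ 1 := fun h => by simpa [h] using d.s_ord

theorem w_ne_one : d.w ≠ 1 := fun h => by simpa [h] using d.w_ord

theorem comm_t {k : G} (hk : k ∈ K) : Commute t k :=
  d.split.2.2.1 t (mem_zpowers t) k hk

theorem t_not_mem : t ∉ K := fun h => d.t_ne_one (by
  have : t ∈ zpowers t ⊓ K := ⟨mem_zpowers t, h⟩
  rwa [d.split.2.2.2.1, mem_bot] at this)

theorem ts_not_mem : t * d.s ∉ K := fun h =>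
  d.t_not_mem (by have := mul_mem h (inv_mem d.s_mem); rwa [mul_inv_cancel_right] at this)

theorem st_eq : d.s * t = t * d.s := (d.comm_t d.s_mem).eq.symm

/-- The four group `⟨t, s⟩`. -/
def V : Subgroup G where
  carrier := {v | v = 1 ∨ v = t ∨ v = d.s ∨ v = t * d.s}
  one_mem' := Or.inl rfl
  mul_mem' := by
    have h1 : d.s * (t * d.s) = t := by rw [← mul_assoc, d.st_eq, mul_assoc, d.s_sq, mul_one]
    have h2 : t * (t * d.s) = d.s := by rw [← mul_assoc, d.t_sq, one_mul]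
    have h3 : t * d.s * t = d.s := by rw [mul_assoc, d.st_eq, h2]
    have h4 : t * d.s * d.s = t := by rw [mul_assoc, d.s_sq, mul_one]
    have h5 : t * d.s * (t * d.s) = 1 := by rw [← mul_assoc, h3, d.s_sq]
    intro a b ha hb
    rcases ha with ea | ea | ea | ea <;> rcases hb with eb | eb | eb | eb <;>
      simp [ea, eb, d.t_sq, d.s_sq, d.st_eq, h1, h2, h3, h4, h5]
  inv_mem' := by
    intro a ha
    have ht : t⁻¹ = t := inv_eq_of_mul_eq_one_right d.t_sq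
    have hs : d.s⁻¹ = d.s := inv_eq_of_mul_eq_one_right d.s_sq
    rcases ha with ea | ea | ea | ea <;> simp [ea, ht, hs, d.st_eq]

theorem mem_V {v : G} : v ∈ d.V ↔ v = 1 ∨ v = t ∨ v = d.s ∨ v = t * d.s := Iff.rfl

theorem t_mem_V : t ∈ d.V := Or.inr (Or.inl rfl)

theorem s_mem_V : d.s ∈ d.V := Or.inr (Or.inr (Or.inl rfl))

theorem sq_V {v : G} (hv : v ∈ d.V) : v * v = 1 := by
  rcases hv with h | h | h | h <;> rw [h]
  · exact one_mul 1
  · exact d.t_sq
  · exact d.s_sq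
  · rw [mul_assoc, ← mul_assoc d.s, d.st_eq, mul_assoc, d.s_sq, mul_one, d.t_sq]

theorem inv_V {v : G} (hv : v ∈ d.V) : v⁻¹ = v := inv_eq_of_mul_eq_one_right (d.sq_V hv)

theorem V_comm_of {g : G} (h1 : Commute g t) (h2 : Commute g d.s) {v : G} (hv : v ∈ d.V) :
    Commute g v := by
  rcases hv with h | h | h | h <;> rw [h]
  · exact Commute.one_right g
  · exact h1
  · exact h2
  · exact h1.mul_right h2

theorem V_comm {v v' : G} (hv : v ∈ d.V) (hv' : v' ∈ d.V) : Commute v v' := by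
  show v * v' = v' * v
  calc v * v' = (v * v')⁻¹ := (d.inv_V (mul_mem hv hv')).symm
    _ = v'⁻¹ * v⁻¹ := mul_inv_rev _ _
    _ = v' * v := by rw [d.inv_V hv, d.inv_V hv']

theorem V_comm_w {v : G} (hv : v ∈ d.V) : Commute d.w v :=
  d.V_comm_of (d.comm_t d.w_mem).symm d.sw.symm hv

theorem V_comm_U {x : G} (hx : x ∈ d.U) {v : G} (hv : v ∈ d.V) : Commute x v :=
  d.V_comm_of (d.comm_t (d.U_le hx)).symm (d.U_s x hx).symm hv

theorem eq_one_of_sq {x : G} (hx : x ∈ d.U) (h : x * x = 1) : x = 1 := by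
  have h2 : orderOf x ∣ 2 := orderOf_dvd_of_pow_eq_one (by rw [pow_two, h])
  have ho : Odd (orderOf x) := d.U_odd.of_dvd_nat (by
    rw [← Subgroup.orderOf_mk x hx]; exact orderOf_dvd_natCard _)
  rcases (Nat.dvd_prime Nat.prime_two).1 h2 with h' | h'
  · exact orderOf_eq_one_iff.1 h'
  · rw [h'] at ho; exact absurd ho (by decide)

theorem disjoint_V_U {v : G} (hv : v ∈ d.V) (hv' : v ∈ d.U) : v = 1 :=
  d.eq_one_of_sq hv' (d.sq_V hv)

/-- The map `V × U → G`. -/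
def emb : ↥d.V × ↥d.U →* G :=
  MonoidHom.noncommCoprod d.V.subtype d.U.subtype fun v x => (d.V_comm_U x.2 v.2).symm

theorem emb_apply (p : ↥d.V × ↥d.U) : d.emb p = (p.1 : G) * p.2 := rfl

theorem emb_injective : Function.Injective d.emb := by
  rw [injective_iff_map_eq_one]
  rintro ⟨⟨v, hv⟩, ⟨x, hx⟩⟩ h
  change v * x = 1 at h
  have hvU : v ∈ d.U := by rw [eq_inv_of_mul_eq_one_left h]; exact inv_mem hx
  have hv1 := d.disjoint_V_U hv hvU
  subst hv1
  rw [one_mul] at h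
  subst h
  rfl

/-- `H₀ = ⟨t, s⟩ × U`. -/
def H₀ : Subgroup G := d.emb.range

theorem mem_H₀ {g : G} : g ∈ d.H₀ ↔ ∃ v ∈ d.V, ∃ x ∈ d.U, g = v * x := by
  constructor
  · rintro ⟨⟨⟨v, hv⟩, ⟨x, hx⟩⟩, rfl⟩
    exact ⟨v, hv, x, hx, rfl⟩
  · rintro ⟨v, hv, x, hx, rfl⟩
    exact ⟨(⟨v, hv⟩, ⟨x, hx⟩), rfl⟩

theorem V_le_H₀ : d.V ≤ d.H₀ := fun v hv => d.mem_H₀.2 ⟨v, hv, 1, one_mem _, (mul_one v).symm⟩

theorem U_le_H₀ : d.U ≤ d.H₀ := fun x hx => d.mem_H₀.2 ⟨1, one_mem _, x, hx, (one_mul x).symm⟩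

/-- `H₀ ≃ V × U`. -/
noncomputable def pair : ↥d.H₀ ≃* ↥d.V × ↥d.U := (MonoidHom.ofInjective d.emb_injective).symm

theorem coe_pair_symm (p : ↥d.V × ↥d.U) : ((d.pair.symm p : ↥d.H₀) : G) = (p.1 : G) * p.2 := rfl

theorem pair_eq {h : ↥d.H₀} {v : ↥d.V} {x : ↥d.U} (e : (h : G) = (v : G) * x) : d.pair h = (v, x) := by
  rw [← d.pair.apply_symm_apply (v, x)]
  exact congrArg d.pair (Subtype.ext (e.trans (d.coe_pair_symm (v, x)).symm))

theorem coe_H₀_eq (h : ↥d.H₀) : (h : G) = ((d.pair h).1 : G) * ((d.pair h).2 : G) := by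
  conv_lhs => rw [← d.pair.symm_apply_apply h]
  rfl

theorem card_V : Nat.card ↥d.V = 4 := by
  classical
  have h : (d.V : Set G) = ↑({1, t, d.s, t * d.s} : Finset G) := by
    ext v; simp only [SetLike.mem_coe, mem_V, Finset.coe_insert, Finset.coe_singleton,
      Set.mem_insert_iff, Set.mem_singleton_iff]
  have h4 : ({1, t, d.s, t * d.s} : Finset G).card = 4 := by
    have a1 : t ≠ d.s := fun e => d.t_not_mem (e ▸ d.s_mem)
    have a2 : t ≠ t * d.s := fun e => d.s_ne_one (by simpa using e)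
    have a3 : d.s ≠ t * d.s := fun e => d.t_ne_one (by simpa using e)
    have a4 : (1 : G) ≠ t * d.s := fun e => d.ts_not_mem (e ▸ one_mem K)
    rw [Finset.card_insert_of_notMem, Finset.card_insert_of_notMem, Finset.card_insert_of_notMem,
      Finset.card_singleton]
    · simpa using a3
    · simp [a1, a2]
    · simp [d.t_ne_one.symm, d.s_ne_one.symm, a4]
  rw [← SetLike.coe_sort_coe, Nat.card_coe_set_eq, h, Set.ncard_coe_finset, h4]

theorem card_H₀ : Nat.card ↥d.H₀ = 4 * Nat.card ↥d.U := by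
  rw [Nat.card_congr d.pair.toEquiv, Nat.card_prod, d.card_V]

theorem w_conj_U {x : G} (hx : x ∈ d.U) : d.w * x * d.w⁻¹ ∈ d.U := by
  have := mul_mem hx (d.T_le (d.w_mod x hx))
  rwa [mul_inv_cancel_left] at this

theorem pow_r_conj_U (i : ℕ) {x : G} (hx : x ∈ d.U) : d.r ^ i * x * (d.r ^ i)⁻¹ ∈ d.U := by
  induction i with
  | zero => simpa using hx
  | succ i ih =>
    have := d.r_U _ ih
    rwa [show d.r * (d.r ^ i * x * (d.r ^ i)⁻¹) * d.r⁻¹ = d.r ^ (i + 1) * x * (d.r ^ (i + 1))⁻¹ by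
      rw [pow_succ' d.r i, mul_inv_rev]; group] at this

theorem T_abelian {a b : G} (ha : a ∈ d.T) (hb : b ∈ d.T) : Commute a b := by
  have h : d.w * (a * b) * d.w⁻¹ = (a * b)⁻¹ := d.w_inv _ (mul_mem ha hb)
  rw [show d.w * (a * b) * d.w⁻¹ = (d.w * a * d.w⁻¹) * (d.w * b * d.w⁻¹) by group, d.w_inv a ha,
    d.w_inv b hb, ← mul_inv_rev, inv_inj] at h
  exact h.symm

/-- The part of `U` inverted by `w` is `T`. -/
theorem inverted_iff {x : G} (hx : x ∈ d.U) : d.w * x * d.w⁻¹ = x⁻¹ ↔ x ∈ d.T := by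
  refine ⟨fun h => ?_, fun h => d.w_inv x h⟩
  have h2 : x * x ∈ d.T := by
    have := d.w_mod x hx
    rw [h, ← mul_inv_rev] at this
    exact inv_mem_iff.1 this
  exact mem_of_sq_mem d.U_odd hx h2

/-- The normaliser of the four group. -/
def N : Subgroup G := normalizer (d.V : Set G)

theorem mem_N {g : G} : g ∈ d.N ↔ ∀ v ∈ d.V, g * v * g⁻¹ ∈ d.V := by
  refine ⟨fun h v hv => (mem_normalizer_iff.1 h v).1 hv, fun h => mem_normalizer_iff.2 fun v => ⟨h v, ?_⟩⟩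
  haveI : Finite ↥d.V := Nat.finite_of_card_ne_zero (by rw [d.card_V]; norm_num)
  let f : ↥d.V → ↥d.V := fun a => ⟨g * a * g⁻¹, h a a.2⟩
  have hf : Function.Surjective f := Finite.surjective_of_injective fun a b e => Subtype.ext (by
    simpa [f] using congrArg Subtype.val e)
  intro hv
  obtain ⟨a, ha⟩ := hf ⟨_, hv⟩
  have := congrArg Subtype.val ha
  simp only [f, mul_left_inj, mul_right_inj] at this
  rw [← this]
  exact a.2

theorem mem_N_of {g : G} (h1 : g * t * g⁻¹ ∈ d.V) (h2 : g * d.s * g⁻¹ ∈ d.V) : g ∈ d.N := by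
  refine d.mem_N.2 fun v hv => ?_
  rcases hv with h | h | h | h <;> rw [h]
  · simp
  · exact h1
  · exact h2
  · have := mul_mem h1 h2
    rwa [show g * t * g⁻¹ * (g * d.s * g⁻¹) = g * (t * d.s) * g⁻¹ by group] at this

theorem w_mem_N : d.w ∈ d.N := d.mem_N.2 fun v hv => by
  rwa [(d.V_comm_w hv).eq, mul_inv_cancel_right]

theorem r_mem_N : d.r ∈ d.N :=
  d.mem_N_of (by rw [d.r_t]; exact d.s_mem_V) (by rw [d.r_s]; exact Or.inr (Or.inr (Or.inr rfl)))

theorem H₀_le_N : d.H₀ ≤ d.N := by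
  intro g hg
  obtain ⟨a, ha, x, hx, rfl⟩ := d.mem_H₀.1 hg
  refine d.mem_N.2 fun v hv => ?_
  rw [show a * x * v * (a * x)⁻¹ = a * (x * v * x⁻¹) * a⁻¹ by group, (d.V_comm_U hx hv).eq,
    mul_inv_cancel_right]
  exact mul_mem (mul_mem ha hv) (inv_mem ha)

theorem r_inv : d.r⁻¹ = d.r ^ 2 :=
  inv_eq_of_mul_eq_one_right (by rw [← pow_succ', d.r_cube])

theorem r_ts : d.r * (t * d.s) * d.r⁻¹ = t := by
  rw [show d.r * (t * d.s) * d.r⁻¹ = (d.r * t * d.r⁻¹) * (d.r * d.s * d.r⁻¹) by group, d.r_t, d.r_s,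
    ← mul_assoc, d.st_eq, mul_assoc, d.s_sq, mul_one]

/-- The positions `r⁻ⁱ t rⁱ` of `t`. -/
def pos (i : Fin 3) : G := (d.r ^ (i : ℕ))⁻¹ * t * d.r ^ (i : ℕ)

theorem pos_zero : d.pos 0 = t := by simp [pos]

theorem pos_one : d.pos 1 = t * d.s := by
  have h := congrArg (fun g => d.r⁻¹ * g * d.r) d.r_ts
  simp only [pos, Fin.val_one, pow_one]
  rw [← h]
  group

theorem pos_two : d.pos 2 = d.s := by
  simp only [pos, Fin.val_two]
  rw [← d.r_inv, inv_inv, d.r_t]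

theorem pos_mem (i : Fin 3) : d.pos i ∈ d.V := by
  fin_cases i
  · simp only [Fin.zero_eta, pos_zero]; exact d.t_mem_V
  · simp only [Fin.mk_one, pos_one]; exact Or.inr (Or.inr (Or.inr rfl))
  · rw [show (⟨2, by omega⟩ : Fin 3) = 2 from rfl, pos_two]; exact d.s_mem_V

theorem pos_injective : Function.Injective d.pos := by
  have a1 : t ≠ d.s := fun e => d.t_not_mem (e ▸ d.s_mem)
  have a2 : t ≠ t * d.s := fun e => d.s_ne_one (by simpa using e)
  have a3 : d.s ≠ t * d.s := fun e => d.t_ne_one (by simpa using e)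
  intro i j h
  fin_cases i <;> fin_cases j <;> first | rfl | (exfalso; revert h; simp [pos_zero, pos_one, pos_two,
    show (⟨2, by omega⟩ : Fin 3) = 2 from rfl, a1, a1.symm, a2, a2.symm, a3, a3.symm])

theorem exists_pos {v : G} (hv : v ∈ d.V) (h1 : v ≠ 1) : ∃ i, v = d.pos i := by
  rcases hv with h | h | h | h <;> rw [h]
  · exact absurd h h1
  · exact ⟨0, d.pos_zero.symm⟩
  · exact ⟨2, d.pos_two.symm⟩
  · exact ⟨1, d.pos_one.symm⟩

/-- The representatives of the cosets of `H₀` in `N`. -/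
def rep (p : Bool × Fin 3) : G := (if p.1 then d.w else 1) * d.r ^ (p.2 : ℕ)

theorem rep_mem_N (p : Bool × Fin 3) : d.rep p ∈ d.N := by
  refine mul_mem ?_ (pow_mem d.r_mem_N _)
  split
  · exact d.w_mem_N
  · exact one_mem _

theorem comm_s_of {g : G} (h1 : Commute g t) (h2 : g * d.s * g⁻¹ ∈ d.V) : Commute g d.s := by
  have hK : g * d.s * g⁻¹ ∈ K := by
    obtain ⟨c, hc, hconj⟩ := Cfsg.Agent.Lib.Walter.NoField.sec_exists_conj d.split
      (mem_centralizer_singleton_iff.2 h1)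
    rw [hconj d.s d.s_mem]
    exact mul_mem (mul_mem hc d.s_mem) (inv_mem hc)
  rcases h2 with h | h | h | h
  · exact absurd (conj_eq_one_iff.1 h) d.s_ne_one
  · exact absurd (h ▸ hK) d.t_not_mem
  · exact mul_inv_eq_iff_eq_mul.1 h
  · exact absurd (h ▸ hK) d.ts_not_mem

/-- The elements of `N`. -/
theorem exists_rep {n : G} (hn : n ∈ d.N) : ∃ h ∈ d.H₀, ∃ p, n = h * d.rep p := by
  have h1 : n⁻¹ * t * n ∈ d.V := by
    have := d.mem_N.1 (inv_mem hn) t d.t_mem_V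
    rwa [inv_inv] at this
  have h2 : n⁻¹ * t * n ≠ 1 := fun e => d.t_ne_one (by
    have := congrArg (fun g => n * g * n⁻¹) e
    simpa [mul_assoc] using this)
  obtain ⟨i, hi⟩ := d.exists_pos h1 h2
  obtain ⟨m, hm⟩ : ∃ m, m = n * (d.r ^ (i : ℕ))⁻¹ := ⟨_, rfl⟩
  have hnm : n = m * d.r ^ (i : ℕ) := by rw [hm, inv_mul_cancel_right]
  have hmN : m ∈ d.N := hm ▸ mul_mem hn (inv_mem (pow_mem d.r_mem_N _))
  have hmt : Commute m t := by
    show m * t = t * m
    rw [hm, show n * (d.r ^ (i : ℕ))⁻¹ * t = n * d.pos i * (d.r ^ (i : ℕ))⁻¹ by rw [pos]; group, ← hi]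
    group
  obtain ⟨v, hv, x, hx, e | e⟩ := d.cent_ts m hmt (d.comm_s_of hmt (d.mem_N.1 hmN _ d.s_mem_V))
  · exact ⟨v * x, d.mem_H₀.2 ⟨v, hv, x, hx, rfl⟩, (false, i), by rw [hnm, e]; simp [rep]⟩
  · exact ⟨v * x, d.mem_H₀.2 ⟨v, hv, x, hx, rfl⟩, (true, i), by rw [hnm, e]; simp [rep, mul_assoc]⟩

theorem conj_H₀ {n : G} (hn : n ∈ d.N) {h : G} (hh : h ∈ d.H₀) : n * h * n⁻¹ ∈ d.H₀ := by
  have hU : ∀ p, ∀ x ∈ d.U, d.rep p * x * (d.rep p)⁻¹ ∈ d.U := by
    rintro ⟨b, i⟩ x hx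
    simp only [rep]
    split
    · rw [show d.w * d.r ^ (i : ℕ) * x * (d.w * d.r ^ (i : ℕ))⁻¹ =
        d.w * (d.r ^ (i : ℕ) * x * (d.r ^ (i : ℕ))⁻¹) * d.w⁻¹ by group]
      exact d.w_conj_U (d.pow_r_conj_U _ hx)
    · rw [one_mul]; exact d.pow_r_conj_U _ hx
  obtain ⟨a, ha, p, rfl⟩ := d.exists_rep hn
  obtain ⟨v, hv, x, hx, rfl⟩ := d.mem_H₀.1 hh
  have h3 : d.rep p * (v * x) * (d.rep p)⁻¹ ∈ d.H₀ := by
    rw [show d.rep p * (v * x) * (d.rep p)⁻¹ = d.rep p * v * (d.rep p)⁻¹ * (d.rep p * x * (d.rep p)⁻¹) by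
      group]
    exact mul_mem (d.V_le_H₀ (d.mem_N.1 (d.rep_mem_N p) v hv)) (d.U_le_H₀ (hU p x hx))
  rw [show a * d.rep p * (v * x) * (a * d.rep p)⁻¹ = a * (d.rep p * (v * x) * (d.rep p)⁻¹) * a⁻¹ by group]
  exact mul_mem (mul_mem ha h3) (inv_mem ha)

theorem w_not_mem_H₀ : d.w ∉ d.H₀ := by
  intro h
  obtain ⟨v, hv, x, hx, e⟩ := d.mem_H₀.1 h
  have hsq : x * x = 1 := by
    have h1 := d.w_sq
    rw [e, show v * x * (v * x) = v * (x * v) * x by group, (d.V_comm_U hx hv).eq,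
      ← mul_assoc v v, d.sq_V hv, one_mul] at h1
    exact h1
  rw [d.eq_one_of_sq hx hsq, mul_one] at e
  rcases (e ▸ hv : d.w ∈ d.V) with h' | h' | h' | h'
  · exact d.w_ne_one h'
  · exact d.t_not_mem (h' ▸ d.w_mem)
  · exact d.w_ne h'
  · exact d.ts_not_mem (h' ▸ d.w_mem)

theorem comm_t_H₀ {h : G} (hh : h ∈ d.H₀) : Commute h t := by
  obtain ⟨v, hv, x, hx, rfl⟩ := d.mem_H₀.1 hh
  exact (d.V_comm hv d.t_mem_V).mul_left (d.V_comm_U hx d.t_mem_V)

theorem comm_t_w : Commute d.w t := (d.comm_t d.w_mem).symm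

theorem conj_t_rep {h : G} (hh : h ∈ d.H₀) (p : Bool × Fin 3) :
    (h * d.rep p)⁻¹ * t * (h * d.rep p) = d.pos p.2 := by
  have hc : Commute (h * (if p.1 then d.w else 1)) t := by
    refine (d.comm_t_H₀ hh).mul_left ?_
    split
    · exact d.comm_t_w
    · exact Commute.one_left t
  obtain ⟨m, hm⟩ : ∃ m, m = h * (if p.1 then d.w else 1) := ⟨_, rfl⟩
  rw [← hm] at hc
  rw [show h * d.rep p = m * d.r ^ (p.2 : ℕ) by rw [hm, rep, mul_assoc], pos,
    show (m * d.r ^ (p.2 : ℕ))⁻¹ * t * (m * d.r ^ (p.2 : ℕ)) =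
    (d.r ^ (p.2 : ℕ))⁻¹ * (m⁻¹ * t * m) * d.r ^ (p.2 : ℕ) by group, hc.inv_left.eq,
    mul_assoc t, inv_mul_cancel, mul_one]

theorem rep_injective {h h' : G} (hh : h ∈ d.H₀) (hh' : h' ∈ d.H₀) {p p' : Bool × Fin 3}
    (e : h * d.rep p = h' * d.rep p') : h = h' ∧ p = p' := by
  have hi : p.2 = p'.2 := d.pos_injective (by rw [← d.conj_t_rep hh p, e, d.conj_t_rep hh' p'])
  obtain ⟨b, i⟩ := p
  obtain ⟨b', i'⟩ := p'
  obtain rfl : i = i' := hi
  have hb : h * (if b then d.w else 1) = h' * (if b' then d.w else 1) :=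
    mul_right_cancel (by simpa [rep, mul_assoc] using e)
  have hbb : b = b' := by
    cases b <;> cases b'
    · rfl
    · exfalso; apply d.w_not_mem_H₀
      simp only [if_true, Bool.false_eq_true, if_false, mul_one] at hb
      rw [← show h'⁻¹ * h = d.w by rw [hb, inv_mul_cancel_left]]
      exact mul_mem (inv_mem hh') hh
    · exfalso; apply d.w_not_mem_H₀
      simp only [if_true, Bool.false_eq_true, if_false, mul_one] at hb
      rw [← show h⁻¹ * h' = d.w by rw [← hb, inv_mul_cancel_left]]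
      exact mul_mem (inv_mem hh) hh'
    · rfl
  subst hbb
  exact ⟨mul_right_cancel hb, rfl⟩

/-- `N` as the union of the six cosets. -/
noncomputable def repEquiv : ↥d.H₀ × (Bool × Fin 3) ≃ ↥d.N :=
  Equiv.ofBijective (fun q => ⟨(q.1 : G) * d.rep q.2, mul_mem (d.H₀_le_N q.1.2) (d.rep_mem_N q.2)⟩)
    ⟨fun a b e => by
      obtain ⟨h1, h2⟩ := d.rep_injective a.1.2 b.1.2 (congrArg Subtype.val e)
      exact Prod.ext (Subtype.ext h1) h2,
    fun n => by
      obtain ⟨h, hh, p, hp⟩ := d.exists_rep n.2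
      exact ⟨(⟨h, hh⟩, p), Subtype.ext hp.symm⟩⟩

theorem card_N [Finite G] : Nat.card ↥d.N = 6 * Nat.card ↥d.H₀ := by
  rw [← Nat.card_congr d.repEquiv, Nat.card_prod, show Nat.card (Bool × Fin 3) = 6 by simp, mul_comm]

theorem sum_N {R : Type*} [AddCommMonoid R] [Fintype ↥d.N] [Fintype ↥d.H₀] (F : G → R) :
    ∑ n : ↥d.N, F n = ∑ h : ↥d.H₀, ∑ p : Bool × Fin 3, F ((h : G) * d.rep p) := by
  rw [← Fintype.sum_prod_type']
  exact (Fintype.sum_equiv d.repEquiv _ (fun n : ↥d.N => F n) fun q => rfl).symm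

/-- An involution of `N` centralises the four group. -/
theorem comm_V_of_sq {u : G} (hu : u ∈ d.N) (h : u * u = 1) :
    ∃ v ∈ d.V, ∃ x ∈ d.U, u = v * x ∨ u = v * x * d.w := by
  obtain ⟨a, ha, ⟨b, i⟩, rfl⟩ := d.exists_rep hu
  have hut : ∀ j : Fin 3, (a * d.rep (b, i))⁻¹ * d.pos j * (a * d.rep (b, i)) = d.pos (j + i) := by
    intro j
    have hcm : Commute (a * (if b then d.w else 1)) (d.pos j) := by
      refine Commute.mul_left ?_ ?_
      · obtain ⟨v, hv, x, hx, rfl⟩ := d.mem_H₀.1 ha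
        exact (d.V_comm hv (d.pos_mem j)).mul_left (d.V_comm_U hx (d.pos_mem j))
      · split
        · exact d.V_comm_w (d.pos_mem j)
        · exact Commute.one_left _
    obtain ⟨m, hm⟩ : ∃ m, m = a * (if b then d.w else 1) := ⟨_, rfl⟩
    rw [← hm] at hcm
    have hp : d.r ^ ((j + i : Fin 3) : ℕ) = d.r ^ (j : ℕ) * d.r ^ (i : ℕ) := by
      rw [← pow_add, Fin.val_add]
      conv_rhs => rw [← Nat.mod_add_div ((j : ℕ) + i) 3, pow_add, pow_mul, d.r_cube, one_pow, mul_one]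
    rw [show a * d.rep (b, i) = m * d.r ^ (i : ℕ) by rw [hm, rep, mul_assoc],
      show (m * d.r ^ (i : ℕ))⁻¹ * d.pos j * (m * d.r ^ (i : ℕ)) =
      (d.r ^ (i : ℕ))⁻¹ * (m⁻¹ * d.pos j * m) * d.r ^ (i : ℕ) by group, hcm.inv_left.eq,
      mul_assoc (d.pos j), inv_mul_cancel, mul_one, pos, pos, hp, mul_inv_rev]
    group
  have h2 : d.pos (i + i) = t := by
    have e1 := hut 0
    have e2 := hut i
    rw [zero_add] at e1
    have hinv : (a * d.rep (b, i))⁻¹ = a * d.rep (b, i) := inv_eq_of_mul_eq_one_right h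
    rw [← e1, hinv, show a * d.rep (b, i) * (a * d.rep (b, i) * d.pos 0 * (a * d.rep (b, i))) *
      (a * d.rep (b, i)) = (a * d.rep (b, i) * (a * d.rep (b, i))) * d.pos 0 *
        (a * d.rep (b, i) * (a * d.rep (b, i))) by group, h, one_mul, mul_one] at e2
    rw [← e2, d.pos_zero]
  have hi : i = 0 := by
    have := d.pos_injective (h2.trans d.pos_zero.symm)
    revert this
    fin_cases i <;> simp
  subst hi
  obtain ⟨v, hv, x, hx, rfl⟩ := d.mem_H₀.1 ha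
  refine ⟨v, hv, x, hx, ?_⟩
  cases b <;> simp [rep]

/-- An involution of `N` centralising a non-trivial element of `T₀` lies in the four group. -/
theorem mem_V_of_comm {u : G} (hu : u ∈ d.N) (h : u * u = 1) {a : G} (ha : a ∈ d.T₀) (ha1 : a ≠ 1)
    (hc : Commute u a) : u ∈ d.V := by
  obtain ⟨v, hv, x, hx, e | e⟩ := d.comm_V_of_sq hu h
  · have hsq : x * x = 1 := by
      rw [e, show v * x * (v * x) = v * (x * v) * x by group, (d.V_comm_U hx hv).eq,
        ← mul_assoc v v, d.sq_V hv, one_mul] at h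
      exact h
    rwa [e, d.eq_one_of_sq hx hsq, mul_one]
  · exfalso
    have hcv : Commute (v * x) a :=
      ((d.V_comm_U (d.T_le (d.T₀_le ha)) hv).symm).mul_left (d.T₀_cent x hx a ha).symm
    have hw : Commute d.w a := by
      have := hcv.inv_left.mul_left hc
      rwa [e, inv_mul_cancel_left] at this
    have hinv := d.w_inv a (d.T₀_le ha)
    rw [hw.eq, mul_inv_cancel_right] at hinv
    exact ha1 (d.eq_one_of_sq (d.T_le (d.T₀_le ha)) (mul_eq_one_iff_eq_inv.2 hinv))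

/-- The elements `v x` with a non-trivial power of `x` in `T₀`. -/
def support : Set G :=
  {g | ∃ v ∈ d.V, ∃ x ∈ d.U, g = v * x ∧ ∃ k : ℕ, x ^ k ∈ d.T₀ ∧ x ^ k ≠ 1}

theorem support_subset : d.support ⊆ d.H₀ := by
  rintro g ⟨v, hv, x, hx, rfl, -⟩
  exact d.mem_H₀.2 ⟨v, hv, x, hx, rfl⟩

theorem sq_pow_eq {v x : G} (hv : v ∈ d.V) (hx : x ∈ d.U) (k : ℕ) : (v * x) ^ (2 * k) = (x ^ k) ^ 2 := by
  rw [(d.V_comm_U hx hv).symm.mul_pow, pow_mul, pow_two v, d.sq_V hv, one_pow, one_mul, ← pow_mul,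
    mul_comm]

/-- An element of the support has a non-trivial power in `T₀`. -/
theorem exists_pow {g : G} (hg : g ∈ d.support) : ∃ k : ℕ, g ^ k ∈ d.T₀ ∧ g ^ k ≠ 1 := by
  obtain ⟨v, hv, x, hx, rfl, k, hk, hk1⟩ := hg
  refine ⟨2 * k, ?_, ?_⟩ <;> rw [d.sq_pow_eq hv hx]
  · exact pow_mem hk 2
  · exact fun e => hk1 (d.eq_one_of_sq (pow_mem hx k) (by rwa [← pow_two]))

theorem one_not_mem_support : (1 : G) ∉ d.support := fun h => by
  obtain ⟨k, -, hk⟩ := d.exists_pow h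
  exact hk (one_pow k)

theorem conj_T₀ {n : G} (hn : n ∈ d.N) {a : G} (ha : a ∈ d.T₀) : n * a * n⁻¹ ∈ d.T₀ := by
  obtain ⟨h, hh, ⟨b, i⟩, rfl⟩ := d.exists_rep hn
  obtain ⟨v, hv, x, hx, rfl⟩ := d.mem_H₀.1 hh
  have h1 : ∀ j : ℕ, d.r ^ j * a * (d.r ^ j)⁻¹ ∈ d.T₀ := by
    intro j
    induction j with
    | zero => simpa using ha
    | succ j ih =>
      have := d.r_T₀ _ ih
      rwa [show d.r * (d.r ^ j * a * (d.r ^ j)⁻¹) * d.r⁻¹ = d.r ^ (j + 1) * a * (d.r ^ (j + 1))⁻¹ by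
        rw [pow_succ' d.r j, mul_inv_rev]; group] at this
  obtain ⟨a', ha'e⟩ : ∃ a', a' = d.r ^ (i : ℕ) * a * (d.r ^ (i : ℕ))⁻¹ := ⟨_, rfl⟩
  have ha' : a' ∈ d.T₀ := ha'e ▸ h1 _
  obtain ⟨c, hce⟩ : ∃ c, c = (if b then d.w else 1) * a' * (if b then d.w else 1)⁻¹ := ⟨_, rfl⟩
  have hc : c ∈ d.T₀ := by
    rw [hce]
    split
    · rw [d.w_inv a' (d.T₀_le ha')]; exact inv_mem ha'
    · simpa using ha'
  rw [show v * x * d.rep (b, i) * a * (v * x * d.rep (b, i))⁻¹ = v * x * c * (v * x)⁻¹ by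
    rw [hce, ha'e, rep]; group,
    ((d.V_comm_U (d.T_le (d.T₀_le hc)) hv).symm.mul_left (d.T₀_cent x hx c hc).symm).eq,
    mul_inv_cancel_right]
  exact hc

theorem conj_support {n : G} (hn : n ∈ d.N) {g : G} (hg : g ∈ d.support) : n * g * n⁻¹ ∈ d.support := by
  obtain ⟨v, hv, x, hx, rfl, k, hk, hk1⟩ := hg
  obtain ⟨v', hv', x', hx', e⟩ := d.mem_H₀.1 (d.conj_H₀ hn (d.U_le_H₀ hx))
  have hv'1 : v' = 1 := by
    obtain ⟨j, hj⟩ : Odd (Nat.card ↥d.U) := d.U_odd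
    have h1 : ∀ z ∈ d.U, z ^ (2 * j + 1) = 1 := fun z hz => by
      have := congrArg (Subtype.val : ↥d.U → G) (pow_card_eq_one' (G := ↥d.U) (x := ⟨z, hz⟩))
      rw [SubmonoidClass.coe_pow, hj] at this
      exact this
    have h2 := congrArg (fun z => z ^ (2 * j + 1)) e
    rw [conj_pow, h1 x hx, mul_one, mul_inv_cancel, (d.V_comm_U hx' hv').symm.mul_pow, h1 x' hx',
      mul_one, pow_succ v', pow_mul, pow_two, d.sq_V hv', one_pow, one_mul] at h2
    exact h2.symm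
  rw [hv'1, one_mul] at e
  refine ⟨n * v * n⁻¹, d.mem_N.1 hn v hv, x', hx', by rw [← e]; group, k, ?_⟩
  rw [← e, conj_pow]
  exact ⟨d.conj_T₀ hn hk, fun e' => hk1 (conj_eq_one_iff.1 e')⟩

/-- Fusion in the support is controlled by `N`. -/
theorem fusion {g a : G} (ha : a ∈ d.support) (hga : g * a * g⁻¹ ∈ d.support) : g ∈ d.N := by
  obtain ⟨k, hk, hk1⟩ := d.exists_pow ha
  obtain ⟨y, hy⟩ : ∃ y, y = a ^ k := ⟨_, rfl⟩
  rw [← hy] at hk hk1
  have hyH : g * y * g⁻¹ ∈ d.H₀ := by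
    rw [hy, ← conj_pow]; exact pow_mem (d.support_subset hga) k
  have key : ∀ v ∈ d.V, g⁻¹ * v * g ∈ d.V := by
    intro v hv
    have hcv : Commute v (g * y * g⁻¹) := by
      obtain ⟨v', hv', x', hx', e⟩ := d.mem_H₀.1 hyH
      rw [e]
      exact (d.V_comm hv hv').mul_right (d.V_comm_U hx' hv).symm
    have hc : Commute (g⁻¹ * v * g) y := by
      show g⁻¹ * v * g * y = y * (g⁻¹ * v * g)
      calc g⁻¹ * v * g * y = g⁻¹ * (v * (g * y * g⁻¹)) * g := by group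
        _ = g⁻¹ * (g * y * g⁻¹ * v) * g := by rw [hcv.eq]
        _ = y * (g⁻¹ * v * g) := by group
    refine d.mem_V_of_comm (d.mem_N.2 fun z hz => d.cent_T₀ y hk hk1 _ hc z hz) ?_ hk hk1 hc
    calc g⁻¹ * v * g * (g⁻¹ * v * g) = g⁻¹ * (v * v) * g := by group
      _ = 1 := by rw [d.sq_V hv, mul_one, inv_mul_cancel]
  have hmem : g⁻¹ ∈ d.N := d.mem_N.2 fun v hv => by rw [inv_inv]; exact key v hv
  exact inv_mem_iff.1 hmem

/-- Involution pairs with product `g`. -/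
noncomputable def invPairs (g : G) : ℕ := Nat.card {a : G // orderOf a = 2 ∧ orderOf (a * g) = 2}

/-- The involution pairs with product in the support. -/
theorem invPairs_support [Finite G] {v x : G} (hv : v ∈ d.V) (hx : x ∈ d.U)
    (hs : v * x ∈ d.support) :
    (x ∈ d.T → invPairs (v * x) = 4 * Nat.card ↥d.T) ∧ (x ∉ d.T → invPairs (v * x) = 0) := by
  have ord2 : ∀ a : G, orderOf a = 2 ↔ a * a = 1 ∧ a ≠ 1 := fun a => by
    rw [orderOf_eq_prime_iff (p := 2), pow_two]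
  obtain ⟨g, hg⟩ : ∃ g, g = v * x := ⟨_, rfl⟩
  rw [← hg] at hs ⊢
  obtain ⟨k, hk, hk1⟩ := d.exists_pow hs
  -- an inverting involution
  have shape : ∀ a : G, orderOf a = 2 ∧ orderOf (a * g) = 2 →
      ∃ v' ∈ d.V, ∃ x' ∈ d.T, a = v' * x' * d.w ∧ x ∈ d.T := by
    rintro a ⟨ha, hag⟩
    obtain ⟨ha2, ha1⟩ := (ord2 a).1 ha
    obtain ⟨hag2, -⟩ := (ord2 _).1 hag
    have hainv : a⁻¹ = a := inv_eq_of_mul_eq_one_right ha2
    have hi : a * g * a⁻¹ = g⁻¹ := by
      rw [hainv]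
      exact eq_inv_of_mul_eq_one_left (by rw [mul_assoc]; exact hag2)
    obtain ⟨y, hy⟩ : ∃ y, y = g ^ k := ⟨_, rfl⟩
    rw [← hy] at hk hk1
    have hay : a * y * a⁻¹ = y⁻¹ := by rw [hy, ← conj_pow, hi, inv_pow]
    have key : ∀ z ∈ d.V, a * z * a⁻¹ ∈ d.V := by
      intro z hz
      have hcz : Commute z y := (d.V_comm_U (d.T_le (d.T₀_le hk)) hz).symm
      have hay' : a⁻¹ * y * a = y⁻¹ := by rw [← hay, hainv]
      have hc : Commute (a * z * a⁻¹) y := by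
        have h' := congrArg (fun q => a * q * a⁻¹) hcz.inv_right.eq
        simp only [← hay'] at h'
        show a * z * a⁻¹ * y = y * (a * z * a⁻¹)
        calc a * z * a⁻¹ * y = a * (z * (a⁻¹ * y * a)) * a⁻¹ := by group
          _ = a * ((a⁻¹ * y * a) * z) * a⁻¹ := h'
          _ = y * (a * z * a⁻¹) := by group
      refine d.mem_V_of_comm (d.mem_N.2 fun u hu => d.cent_T₀ y hk hk1 _ hc u hu) ?_ hk hk1 hc
      calc a * z * a⁻¹ * (a * z * a⁻¹) = a * (z * z) * a⁻¹ := by group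
        _ = 1 := by rw [d.sq_V hz, mul_one, mul_inv_cancel]
    obtain ⟨v', hv', x', hx', e | e⟩ := d.comm_V_of_sq (d.mem_N.2 key) ha2
    · exfalso
      have hc : Commute a y := e ▸ (d.V_comm_U (d.T_le (d.T₀_le hk)) hv').symm.mul_left
        (d.T₀_cent x' hx' y hk).symm
      rw [hc.eq, mul_inv_cancel_right] at hay
      exact hk1 (d.eq_one_of_sq (d.T_le (d.T₀_le hk)) (mul_eq_one_iff_eq_inv.2 hay))
    · have hwU := d.w_conj_U hx'
      have hsq : x' * (d.w * x' * d.w⁻¹) = 1 := by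
        have h1 : v' * x' * d.w * (v' * x' * d.w) = x' * (d.w * x' * d.w⁻¹) := by
          calc v' * x' * d.w * (v' * x' * d.w) = v' * x' * (d.w * v') * x' * d.w := by group
            _ = v' * (x' * v') * d.w * x' * d.w := by rw [(d.V_comm_w hv').eq]; group
            _ = v' * (v' * x') * d.w * x' * d.w := by rw [(d.V_comm_U hx' hv').eq]
            _ = (v' * v') * (x' * (d.w * x' * d.w)) := by group
            _ = _ := by rw [d.sq_V hv', one_mul, d.w_inv']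
        rw [← h1, ← e, ha2]
      have hx'T : x' ∈ d.T :=
        (d.inverted_iff hx').1 (eq_inv_of_mul_eq_one_right hsq)
      refine ⟨v', hv', x', hx'T, e, ?_⟩
      have hconj : x' * (d.w * x * d.w⁻¹) * x'⁻¹ = x⁻¹ := by
        have h3 : a * (v * x) * a⁻¹ = v * (x' * (d.w * x * d.w⁻¹) * x'⁻¹) := by
          rw [e, show v' * x' * d.w * (v * x) * (v' * x' * d.w)⁻¹ =
            v' * (x' * (d.w * v) * x * d.w⁻¹ * x'⁻¹) * v'⁻¹ by group, (d.V_comm_w hv).eq,
            show x' * (v * d.w) * x * d.w⁻¹ * x'⁻¹ = (x' * v) * (d.w * x * d.w⁻¹) * x'⁻¹ by group,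
            (d.V_comm_U hx' hv).eq, mul_assoc v x' _, mul_assoc v (x' * _) x'⁻¹]
          have hm : v * (x' * (d.w * x * d.w⁻¹) * x'⁻¹) ∈ d.H₀ :=
            d.mem_H₀.2 ⟨v, hv, _, mul_mem (mul_mem hx' (d.w_conj_U hx)) (inv_mem hx'), rfl⟩
          have hcm : Commute v' (v * (x' * (d.w * x * d.w⁻¹) * x'⁻¹)) := by
            exact (d.V_comm hv' hv).mul_right
              (d.V_comm_U (mul_mem (mul_mem hx' (d.w_conj_U hx)) (inv_mem hx')) hv').symm
          rw [hcm.eq, mul_inv_cancel_right]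
        rw [← hg, hi, hg, mul_inv_rev, d.inv_V hv, ((d.V_comm_U (inv_mem hx) hv)).eq] at h3
        exact (mul_left_cancel h3).symm
      have h4 : x * x ∈ d.T := by
        have ha0 := d.w_mod x hx
        obtain ⟨c, hc⟩ : ∃ c, c = x⁻¹ * (d.w * x * d.w⁻¹) := ⟨_, rfl⟩
        rw [← hc] at ha0
        have hc' : d.w * x * d.w⁻¹ = x * c := by rw [hc, mul_inv_cancel_left]
        rw [hc'] at hconj
        have : x * x = (x * x'⁻¹ * x⁻¹) * x' * c⁻¹ := by
          have h5 : x * c = x'⁻¹ * x⁻¹ * x' := by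
            rw [← hconj]; group
          calc x * x = x * (x * c) * c⁻¹ := by group
            _ = x * (x'⁻¹ * x⁻¹ * x') * c⁻¹ := by rw [h5]
            _ = _ := by group
        rw [this]
        exact mul_mem (mul_mem (d.T_conj x hx _ (inv_mem hx'T)) hx'T) (inv_mem ha0)
      exact mem_of_sq_mem d.U_odd hx h4
  constructor
  · intro hxT
    have hmap : ∀ v' ∈ d.V, ∀ x' ∈ d.T,
        orderOf (v' * x' * d.w) = 2 ∧ orderOf (v' * x' * d.w * g) = 2 := by
      have hne : ∀ v' ∈ d.V, ∀ x' ∈ d.T, orderOf (v' * x' * d.w) = 2 := by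
        intro v' hv' x' hx'
        refine (ord2 _).2 ⟨?_, fun e => d.w_not_mem_H₀ ?_⟩
        · calc v' * x' * d.w * (v' * x' * d.w) = v' * x' * (d.w * v') * x' * d.w := by group
            _ = v' * (x' * v') * d.w * x' * d.w := by rw [(d.V_comm_w hv').eq]; group
            _ = v' * (v' * x') * d.w * x' * d.w := by rw [(d.V_comm_U (d.T_le hx') hv').eq]
            _ = (v' * v') * (x' * (d.w * x' * d.w⁻¹)) := by rw [d.w_inv']; group
            _ = 1 := by rw [d.sq_V hv', one_mul, d.w_inv x' hx', mul_inv_cancel]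
        · rw [← inv_eq_of_mul_eq_one_right e]
          exact inv_mem (d.mem_H₀.2 ⟨v', hv', x', d.T_le hx', rfl⟩)
      intro v' hv' x' hx'
      refine ⟨hne v' hv' x' hx', ?_⟩
      have e : v' * x' * d.w * g = (v' * v) * (x' * x⁻¹) * d.w := by
        rw [hg]
        calc v' * x' * d.w * (v * x) = v' * (x' * (d.w * v)) * x := by group
          _ = v' * ((x' * v) * d.w) * x := by rw [(d.V_comm_w hv).eq]; group
          _ = v' * v * x' * (d.w * x * d.w⁻¹) * d.w := by rw [(d.V_comm_U (d.T_le hx') hv).eq]; group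
          _ = _ := by rw [d.w_inv x hxT]; group
      rw [e]
      exact hne _ (mul_mem hv' hv) _ (mul_mem hx' (inv_mem hxT))
    let f : ↥d.V × ↥d.T → {a : G // orderOf a = 2 ∧ orderOf (a * g) = 2} :=
      fun p => ⟨(p.1 : G) * p.2 * d.w, hmap _ p.1.2 _ p.2.2⟩
    have hf : Function.Bijective f := by
      constructor
      · rintro ⟨a, b⟩ ⟨a', b'⟩ e
        have e' : (a : G) * b = a' * b' := mul_right_cancel (congrArg Subtype.val e)
        have := d.emb_injective (a₁ := (a, ⟨b, d.T_le b.2⟩)) (a₂ := (a', ⟨b', d.T_le b'.2⟩)) e'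
        obtain ⟨r1, r2⟩ := Prod.ext_iff.1 this
        exact Prod.ext r1 (Subtype.ext (congrArg (fun z : ↥d.U => (z : G)) r2))
      · rintro ⟨a, ha⟩
        obtain ⟨v', hv', x', hx', e, -⟩ := shape a ha
        exact ⟨(⟨v', hv'⟩, ⟨x', hx'⟩), Subtype.ext e.symm⟩
    rw [invPairs, ← Nat.card_congr (Equiv.ofBijective f hf), Nat.card_prod, d.card_V]
  · intro hxT
    haveI : IsEmpty {a : G // orderOf a = 2 ∧ orderOf (a * g) = 2} :=
      ⟨fun a => hxT (by obtain ⟨_, _, _, _, _, h⟩ := shape a a.2; exact h)⟩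
    rw [invPairs, Nat.card_of_isEmpty]

end TorusData

end Cfsg.Agent.Lib.JankoThompson.GSide
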