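import Cfsg.Agent.Lib.JankoThompson.GSide.TorusInd
import Cfsg.Agent.Lib.JankoThompson.GSide.Interface
import Cfsg.Agent.Lib.Isometry.Clifford

/-!
# Janko–Thompson: the functions `Ind (ρ μ (1 - θ))` of the torus

`ρ` a linear character of `⟨t, s⟩` (trivial, or `rho` with kernel `⟨t⟩`), `μ` a linear character of
`U` trivial on `T` and fixed by `r`, `θ` one inverted by `w` and supported on the sections of `T₀`.
`tiFun ρ μ θ` are generalised characters vanishing at `1` and `t`; norms `7` and `3`, coefficients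
on the section of `t`, class equation, and for `U = T₀` the congruences of constant coefficients.

Owner: helper66.
-/

set_option autoImplicit false
set_option linter.style.haveILetI false
set_option linter.unusedSectionVars false

universe u

namespace Cfsg.Agent.Lib.JankoThompson.GSide.TorusData

open Subgroup Cfsg.Agent.Lib.Induced.Basic Cfsg.Agent.Lib.Walter.NoField
  Cfsg.Agent.Lib.Characters.Linear
open scoped ComplexConjugate Classical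

variable {G : Type u} [Group G] {t : G} {K : Subgroup G} (d : TorusData t K)

include d

theorem inv_pow_r_conj_U (i : ℕ) {x : G} (hx : x ∈ d.U) : (d.r ^ i)⁻¹ * x * d.r ^ i ∈ d.U := by
  have h : (d.r ^ i)⁻¹ = d.r ^ (2 * i) := inv_eq_of_mul_eq_one_right (by
    rw [← pow_add, show i + 2 * i = 3 * i by ring, pow_mul, d.r_cube, one_pow])
  have := d.pow_r_conj_U (2 * i) hx
  rwa [← h, inv_inv] at this

/-- Conjugation by a power of `r` on `U`. -/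
def actU (i : Fin 3) : ↥d.U →* ↥d.U where
  toFun x := ⟨(d.r ^ (i : ℕ))⁻¹ * x * d.r ^ (i : ℕ), d.inv_pow_r_conj_U i x.2⟩
  map_one' := Subtype.ext (by simp)
  map_mul' x y := Subtype.ext (by simp only [Subgroup.coe_mul]; group)

/-- Conjugation by a power of `r` on `⟨t, s⟩`. -/
def actV (i : Fin 3) : ↥d.V →* ↥d.V where
  toFun v := ⟨(d.r ^ (i : ℕ))⁻¹ * v * d.r ^ (i : ℕ), by
    have := d.mem_N.1 (inv_mem (pow_mem d.r_mem_N (i : ℕ))) v v.2
    rwa [inv_inv] at this⟩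
  map_one' := Subtype.ext (by simp)
  map_mul' x y := Subtype.ext (by simp only [Subgroup.coe_mul]; group)

/-- Conjugation by `w` on `U`. -/
def wU : ↥d.U →* ↥d.U where
  toFun x := ⟨d.w * x * d.w⁻¹, d.w_conj_U x.2⟩
  map_one' := Subtype.ext (by simp)
  map_mul' x y := Subtype.ext (by simp only [Subgroup.coe_mul]; group)

theorem coe_actU (i : Fin 3) (x : ↥d.U) :
    (d.actU i x : G) = (d.r ^ (i : ℕ))⁻¹ * x * d.r ^ (i : ℕ) := rfl

theorem coe_actV (i : Fin 3) (v : ↥d.V) :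
    (d.actV i v : G) = (d.r ^ (i : ℕ))⁻¹ * v * d.r ^ (i : ℕ) := rfl

theorem coe_wU (x : ↥d.U) : (d.wU x : G) = d.w * x * d.w⁻¹ := rfl

theorem actU_zero : d.actU 0 = MonoidHom.id _ :=
  MonoidHom.ext fun x => Subtype.ext (by simp [coe_actU])

theorem actV_zero : d.actV 0 = MonoidHom.id _ :=
  MonoidHom.ext fun x => Subtype.ext (by simp [coe_actV])

theorem actU_actU (i j : Fin 3) (x : ↥d.U) : d.actU i (d.actU j x) = d.actU (j + i) x := by
  refine Subtype.ext ?_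
  have hp : d.r ^ ((j + i : Fin 3) : ℕ) = d.r ^ (j : ℕ) * d.r ^ (i : ℕ) := by
    rw [← pow_add, Fin.val_add]
    conv_rhs => rw [← Nat.mod_add_div ((j : ℕ) + i) 3, pow_add, pow_mul, d.r_cube, one_pow, mul_one]
  simp only [coe_actU, hp, mul_inv_rev]
  group

/-- The character of `⟨t, s⟩` with kernel `⟨t⟩`. -/
noncomputable def rho : ↥d.V →* ℂˣ where
  toFun v := if (v : G) = 1 ∨ (v : G) = t then 1 else -1
  map_one' := by simp
  map_mul' := by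
    rintro ⟨a, ha⟩ ⟨b, hb⟩
    have h1 : d.s * (t * d.s) = t := by rw [← mul_assoc, d.st_eq, mul_assoc, d.s_sq, mul_one]
    have h2 : t * (t * d.s) = d.s := by rw [← mul_assoc, d.t_sq, one_mul]
    have h3 : t * d.s * t = d.s := by rw [mul_assoc, d.st_eq, h2]
    have h4 : t * d.s * d.s = t := by rw [mul_assoc, d.s_sq, mul_one]
    have h5 : t * d.s * (t * d.s) = 1 := by rw [← mul_assoc, h3, d.s_sq]
    have a1 : d.s ≠ t := fun e => d.t_not_mem (e ▸ d.s_mem)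
    have a2 : t * d.s ≠ t := fun e => d.s_ne_one (by simpa using e)
    have a3 : t * d.s ≠ 1 := fun e => d.ts_not_mem (e ▸ one_mem K)
    rcases ha with ea | ea | ea | ea <;> rcases hb with eb | eb | eb | eb <;>
      simp [ea, eb, d.t_sq, d.s_sq, d.st_eq, h1, h2, h3, h4, h5, a1, a2, a3, d.s_ne_one, d.t_ne_one]

theorem rho_apply (v : ↥d.V) : d.rho v = if (v : G) = 1 ∨ (v : G) = t then 1 else -1 := rfl

/-- The position `r⁻ⁱ t rⁱ` in `⟨t, s⟩`. -/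
def posV (i : Fin 3) : ↥d.V := ⟨d.pos i, d.pos_mem i⟩

theorem rho_pos_zero : d.rho (d.posV 0) = 1 := by simp [rho_apply, posV, pos_zero]

theorem rho_pos_ne {i : Fin 3} (hi : i ≠ 0) : d.rho (d.posV i) = -1 := by
  rw [rho_apply, if_neg]
  rintro (h | h)
  · simp only [posV, pos] at h
    refine d.t_ne_one ?_
    calc t = d.r ^ (i : ℕ) * ((d.r ^ (i : ℕ))⁻¹ * t * d.r ^ (i : ℕ)) * (d.r ^ (i : ℕ))⁻¹ := by group
      _ = 1 := by rw [h, mul_one, mul_inv_cancel]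
  · exact hi (d.pos_injective (h.trans d.pos_zero.symm))

theorem rho_ne_one : d.rho ≠ 1 := fun h => by
  have := DFunLike.congr_fun h (d.posV 1)
  rw [d.rho_pos_ne (by decide), MonoidHom.one_apply] at this
  have h2 := congrArg (fun z : ℂˣ => (z : ℂ)) this
  norm_num at h2

theorem actV_posV (i : Fin 3) : d.actV i (d.posV 0) = d.posV i :=
  Subtype.ext (by simp [coe_actV, posV, pos])

theorem rho_comp_actV {i : Fin 3} : d.rho.comp (d.actV i) = d.rho ↔ i = 0 := by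
  refine ⟨fun h => ?_, fun h => by rw [h, actV_zero, MonoidHom.comp_id]⟩
  by_contra hi
  have := DFunLike.congr_fun h (d.posV 0)
  rw [MonoidHom.comp_apply, d.actV_posV, d.rho_pos_ne hi, d.rho_pos_zero] at this
  have h2 := congrArg (fun z : ℂˣ => (z : ℂ)) this
  norm_num at h2

/-- A linear character of `H₀ = ⟨t, s⟩ × U`. -/
noncomputable def lin (ρ : ↥d.V →* ℂˣ) (μ : ↥d.U →* ℂˣ) : ↥d.H₀ →* ℂˣ :=
  (ρ.coprod μ).comp d.pair.toMonoidHom

theorem lin_apply (ρ : ↥d.V →* ℂˣ) (μ : ↥d.U →* ℂˣ) {h : ↥d.H₀} {v : ↥d.V} {x : ↥d.U}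
    (e : (h : G) = (v : G) * x) : d.lin ρ μ h = ρ v * μ x := by
  simp [lin, d.pair_eq e]

theorem lin_inj {ρ ρ' : ↥d.V →* ℂˣ} {μ μ' : ↥d.U →* ℂˣ} :
    d.lin ρ μ = d.lin ρ' μ' ↔ ρ = ρ' ∧ μ = μ' := by
  refine ⟨fun h => ⟨MonoidHom.ext fun v => ?_, MonoidHom.ext fun x => ?_⟩, fun ⟨h, h'⟩ => h ▸ h' ▸ rfl⟩
  · have := DFunLike.congr_fun h (d.pair.symm (v, 1))
    rwa [d.lin_apply ρ μ (d.coe_pair_symm _), d.lin_apply ρ' μ' (d.coe_pair_symm _), map_one, map_one,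
      mul_one, mul_one] at this
  · have := DFunLike.congr_fun h (d.pair.symm (1, x))
    rwa [d.lin_apply ρ μ (d.coe_pair_symm _), d.lin_apply ρ' μ' (d.coe_pair_symm _), map_one, map_one,
      one_mul, one_mul] at this

/-- A linear character of `U` trivial on `T` and fixed by `r`. -/
structure IsTwist (μ : ↥d.U →* ℂˣ) : Prop where
  T_eq : ∀ x : ↥d.U, (x : G) ∈ d.T → μ x = 1
  r_eq : ∀ x : ↥d.U, μ ⟨d.r * x * d.r⁻¹, d.r_U x x.2⟩ = μ x

/-- A linear character of `U` inverted by `w`, supported on the sections of `T₀`. -/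
structure IsTheta (θ : ↥d.U →* ℂˣ) : Prop where
  ne_one : θ ≠ 1
  inv : ∀ x : ↥d.U, θ (d.wU x) = (θ x)⁻¹
  supp : ∀ x : ↥d.U, θ x ≠ 1 → ∃ k : ℕ, (x : G) ^ k ∈ d.T₀ ∧ (x : G) ^ k ≠ 1

/-- `r` moves `θ`. -/
def IsFree (θ : ↥d.U →* ℂˣ) : Prop := ∃ x : ↥d.U, θ ⟨d.r * x * d.r⁻¹, d.r_U x x.2⟩ ≠ θ x

theorem isTwist_one : d.IsTwist 1 := ⟨fun _ _ => rfl, fun _ => rfl⟩

variable {d}

theorem IsTwist.comp_actU {μ : ↥d.U →* ℂˣ} (hμ : d.IsTwist μ) (i : Fin 3) (x : ↥d.U) :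
    μ (d.actU i x) = μ x := by
  have key : ∀ (j : ℕ) (y : ↥d.U), μ ⟨d.r ^ j * y * (d.r ^ j)⁻¹, d.pow_r_conj_U j y.2⟩ = μ y := by
    intro j
    induction j with
    | zero => intro y; congr 1; exact Subtype.ext (by simp)
    | succ j ih =>
      intro y
      rw [← ih y, ← hμ.r_eq ⟨_, d.pow_r_conj_U j y.2⟩]
      congr 1
      exact Subtype.ext (by simp only [pow_succ', mul_inv_rev]; group)
  rw [← key i (d.actU i x)]
  congr 1
  exact Subtype.ext (by simp only [coe_actU]; group)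

theorem IsTwist.comp_wU {μ : ↥d.U →* ℂˣ} (hμ : d.IsTwist μ) (x : ↥d.U) : μ (d.wU x) = μ x := by
  have h : d.wU x = x * ⟨(x : G)⁻¹ * (d.w * x * d.w⁻¹), d.T_le (d.w_mod x x.2)⟩ :=
    Subtype.ext (by simp [coe_wU])
  rw [h, map_mul, hμ.T_eq ⟨_, d.T_le (d.w_mod x x.2)⟩ (d.w_mod x x.2), mul_one]

theorem IsTheta.inv' {θ : ↥d.U →* ℂˣ} (hθ : d.IsTheta θ) : d.IsTheta θ⁻¹ where
  ne_one := fun h => hθ.ne_one (MonoidHom.ext fun x => inv_eq_one.1 (DFunLike.congr_fun h x))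
  inv x := by rw [MonoidHom.inv_apply, MonoidHom.inv_apply, hθ.inv]
  supp x h := hθ.supp x fun e => h (by rw [MonoidHom.inv_apply, e, inv_one])

theorem mem_T₀_of_conj {i : ℕ} {g : G} (h : (d.r ^ i)⁻¹ * g * d.r ^ i ∈ d.T₀) : g ∈ d.T₀ := by
  have := d.conj_T₀ (pow_mem d.r_mem_N i) h
  rwa [show d.r ^ i * ((d.r ^ i)⁻¹ * g * d.r ^ i) * (d.r ^ i)⁻¹ = g by group] at this

theorem IsTheta.comp_actU {θ : ↥d.U →* ℂˣ} (hθ : d.IsTheta θ) (i : Fin 3) :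
    d.IsTheta (θ.comp (d.actU i)) where
  ne_one := fun h => hθ.ne_one (MonoidHom.ext fun x => by
    have := DFunLike.congr_fun h ⟨d.r ^ (i : ℕ) * x * (d.r ^ (i : ℕ))⁻¹, d.pow_r_conj_U i x.2⟩
    rwa [MonoidHom.comp_apply, show d.actU i ⟨d.r ^ (i : ℕ) * x * (d.r ^ (i : ℕ))⁻¹,
      d.pow_r_conj_U i x.2⟩ = x from Subtype.ext (by simp only [coe_actU]; group)] at this)
  inv x := by
    simp only [MonoidHom.comp_apply]
    obtain ⟨u, hu⟩ : ∃ u, u = (d.r ^ (i : ℕ))⁻¹ * d.w * d.r ^ (i : ℕ) := ⟨_, rfl⟩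
    have hu2 : u * u = 1 := by
      rw [hu]
      calc (d.r ^ (i : ℕ))⁻¹ * d.w * d.r ^ (i : ℕ) * ((d.r ^ (i : ℕ))⁻¹ * d.w * d.r ^ (i : ℕ))
          = (d.r ^ (i : ℕ))⁻¹ * (d.w * d.w) * d.r ^ (i : ℕ) := by group
        _ = 1 := by rw [d.w_sq, mul_one, inv_mul_cancel]
    have huN : u ∈ d.N :=
      hu ▸ mul_mem (mul_mem (inv_mem (pow_mem d.r_mem_N _)) d.w_mem_N) (pow_mem d.r_mem_N _)
    obtain ⟨v, hv, z, hz, e | e⟩ := d.comm_V_of_sq huN hu2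
    · exfalso
      refine d.w_not_mem_H₀ ?_
      have := d.conj_H₀ (pow_mem d.r_mem_N (i : ℕ)) (d.mem_H₀.2 ⟨v, hv, z, hz, e⟩)
      rwa [hu, show d.r ^ (i : ℕ) * ((d.r ^ (i : ℕ))⁻¹ * d.w * d.r ^ (i : ℕ)) * (d.r ^ (i : ℕ))⁻¹ = d.w by
        group] at this
    · obtain ⟨y, hy⟩ : ∃ y, y = d.actU i x := ⟨_, rfl⟩
      have h1 : d.actU i (d.wU x) = ⟨z, hz⟩ * d.wU y * (⟨z, hz⟩ : ↥d.U)⁻¹ := by
        refine Subtype.ext ?_
        have hzy : z * (d.w * (y : G) * d.w⁻¹) * z⁻¹ ∈ d.U :=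
          mul_mem (mul_mem hz (d.w_conj_U y.2)) (inv_mem hz)
        simp only [Subgroup.coe_mul, Subgroup.coe_inv, coe_wU, coe_actU]
        calc (d.r ^ (i : ℕ))⁻¹ * (d.w * (x : G) * d.w⁻¹) * d.r ^ (i : ℕ)
            = u * (y : G) * u⁻¹ := by rw [hu, hy, coe_actU]; group
          _ = v * (z * (d.w * (y : G) * d.w⁻¹) * z⁻¹) * v⁻¹ := by rw [e]; group
          _ = _ := by rw [(d.V_comm_U hzy hv).symm.eq, mul_inv_cancel_right]
      rw [h1, map_mul, map_mul, map_inv, hθ.inv, hy, mul_comm (θ ⟨z, hz⟩), mul_inv_cancel_right]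
  supp x h := by
    obtain ⟨k, hk, hk1⟩ := hθ.supp _ h
    have e : (d.actU i x : G) ^ k = (d.r ^ (i : ℕ))⁻¹ * (x : G) ^ k * d.r ^ (i : ℕ) := by
      rw [coe_actU]
      conv_rhs => rw [show (d.r ^ (i : ℕ))⁻¹ * (x : G) ^ k * d.r ^ (i : ℕ) =
        (d.r ^ (i : ℕ))⁻¹ * (x : G) ^ k * (d.r ^ (i : ℕ))⁻¹⁻¹ by rw [inv_inv], ← conj_pow, inv_inv]
    rw [e] at hk hk1
    exact ⟨k, mem_T₀_of_conj hk, fun e' => hk1 (by rw [e', mul_one, inv_mul_cancel])⟩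

theorem IsTheta.eq_one_of_inv_eq {θ : ↥d.U →* ℂˣ} (h : θ = θ⁻¹) : θ = 1 := by
  refine MonoidHom.ext fun x => ?_
  have h2 : θ x * θ x = 1 := by
    conv_lhs => arg 2; rw [h]
    rw [MonoidHom.inv_apply, mul_inv_cancel]
  obtain ⟨k, hk⟩ := d.U_odd
  have h1 : θ x ^ (2 * k + 1) = 1 := by rw [← map_pow, ← hk, pow_card_eq_one', map_one]
  rw [pow_succ, pow_mul, pow_two, h2, one_pow, one_mul] at h1
  exact h1

theorem IsFree.ne {θ : ↥d.U →* ℂˣ} (_hθ : d.IsTheta θ) (hf : d.IsFree θ) {i : Fin 3} (hi : i ≠ 0) :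
    θ ≠ θ.comp (d.actU i) ∧ θ ≠ (θ.comp (d.actU i))⁻¹ := by
  obtain ⟨x, hx⟩ := hf
  have h0 : d.actU 0 = MonoidHom.id _ := d.actU_zero
  have h1 : ∀ j : Fin 3, j ≠ 0 → θ ≠ θ.comp (d.actU j) := by
    intro j hj h
    have hh : ∀ y, θ (d.actU j y) = θ y := fun y => (DFunLike.congr_fun h y).symm
    have h2 : ∀ y, θ (d.actU (j + j) y) = θ y := fun y => by rw [← d.actU_actU, hh, hh]
    have key : ∀ y, θ (d.actU 2 y) = θ y := by
      fin_cases j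
      · exact absurd rfl hj
      · exact h2
      · exact hh
    refine hx ?_
    rw [← key x]
    congr 1
    refine Subtype.ext ?_
    rw [coe_actU, Fin.val_two, show d.r ^ 2 = d.r⁻¹ from d.r_inv.symm, inv_inv]
  refine ⟨h1 i hi, fun h => ?_⟩
  have hh : ∀ y, θ (d.actU i y) = (θ y)⁻¹ := fun y => by
    have := DFunLike.congr_fun h y
    rw [MonoidHom.inv_apply, MonoidHom.comp_apply] at this
    rw [this, inv_inv]
  have hii : ∀ j : Fin 3, j ≠ 0 → j + j ≠ 0 := by decide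
  refine h1 (i + i) (hii i hi) (MonoidHom.ext fun y => ?_)
  rw [MonoidHom.comp_apply, ← d.actU_actU, hh, hh, inv_inv]

variable (d)

/-- Conjugation by a coset representative on `H₀`. -/
def conjRep (p : Bool × Fin 3) : ↥d.H₀ →* ↥d.H₀ where
  toFun h := ⟨(d.rep p)⁻¹ * h * d.rep p, by
    have := d.conj_H₀ (inv_mem (d.rep_mem_N p)) h.2
    rwa [inv_inv] at this⟩
  map_one' := Subtype.ext (by simp)
  map_mul' x y := Subtype.ext (by simp only [Subgroup.coe_mul]; group)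

theorem lin_comp_conjRep (ρ : ↥d.V →* ℂˣ) (μ : ↥d.U →* ℂˣ) (b : Bool) (i : Fin 3) :
    (d.lin ρ μ).comp (d.conjRep (b, i)) =
      d.lin (ρ.comp (d.actV i)) (if b then μ.comp ((d.actU i).comp d.wU) else μ.comp (d.actU i)) := by
  refine MonoidHom.ext fun h => ?_
  obtain ⟨⟨v, x⟩, hp⟩ : ∃ q, q = d.pair h := ⟨_, rfl⟩
  have he : (h : G) = (v : G) * x := by rw [d.coe_H₀_eq h, ← hp]
  have e2 : ((d.conjRep (b, i) h : ↥d.H₀) : G) =
      (d.actV i v : G) * ((if b then d.actU i (d.wU x) else d.actU i x : ↥d.U) : G) := by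
    show (d.rep (b, i))⁻¹ * (h : G) * d.rep (b, i) = _
    rw [he]
    cases b
    · simp only [rep, coe_actV, coe_actU, Bool.false_eq_true, if_false, one_mul]; group
    · simp only [rep, coe_actV, coe_actU, coe_wU, if_true]
      rw [show (d.w * d.r ^ (i : ℕ))⁻¹ * ((v : G) * x) * (d.w * d.r ^ (i : ℕ)) =
        (d.r ^ (i : ℕ))⁻¹ * ((d.w⁻¹ * v * d.w) * (d.w⁻¹ * x * d.w)) * d.r ^ (i : ℕ) by group,
        (d.V_comm_w v.2).inv_left.eq, inv_mul_cancel_right, d.w_inv']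
      group
  rw [MonoidHom.comp_apply, d.lin_apply ρ μ e2, d.lin_apply _ _ he]
  cases b <;> simp

/-- The function `ρ μ (1 - θ)` on `H₀`. -/
noncomputable def psi (ρ : ↥d.V →* ℂˣ) (μ θ : ↥d.U →* ℂˣ) : ↥d.H₀ → ℂ :=
  (fun h => (d.lin ρ μ h : ℂ)) - fun h => (d.lin ρ (μ * θ) h : ℂ)

theorem psi_apply (ρ : ↥d.V →* ℂˣ) (μ θ : ↥d.U →* ℂˣ) {h : ↥d.H₀} {v : ↥d.V} {x : ↥d.U}
    (e : (h : G) = (v : G) * x) : d.psi ρ μ θ h = (ρ v : ℂ) * (μ x : ℂ) * (1 - (θ x : ℂ)) := by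
  simp only [psi, Pi.sub_apply, d.lin_apply _ _ e, MonoidHom.mul_apply, Units.val_mul]
  ring

variable {d}

theorem IsTheta.support_of_ne {θ : ↥d.U →* ℂˣ} (hθ : d.IsTheta θ) (ρ : ↥d.V →* ℂˣ) (μ : ↥d.U →* ℂˣ) :
    ∀ h : ↥d.H₀, d.psi ρ μ θ h ≠ 0 → (h : G) ∈ d.support := by
  intro h hne
  rw [d.psi_apply ρ μ θ (d.coe_H₀_eq h)] at hne
  obtain ⟨k, hk⟩ := hθ.supp (d.pair h).2 fun e => hne (by simp [e])
  exact ⟨_, (d.pair h).1.2, _, (d.pair h).2.2, d.coe_H₀_eq h, k, hk⟩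

variable (d)

variable [Fintype G]

/-- `Ind (ρ μ (1 - θ))`. -/
noncomputable def tiFun (ρ : ↥d.V →* ℂˣ) (μ θ : ↥d.U →* ℂˣ) : G → ℂ :=
  Cfsg.indFun d.H₀ (d.psi ρ μ θ)

theorem isGen_tiFun (ρ : ↥d.V →* ℂˣ) (μ θ : ↥d.U →* ℂˣ) :
    Cfsg.IsGeneralizedCharacter G (d.tiFun ρ μ θ) :=
  Induced.Character.isGeneralizedCharacter_indFun d.H₀
    (Induced.Generalized.isGen_sub (Induced.Generalized.of_irr (linChar (d.lin ρ μ)))
      (Induced.Generalized.of_irr (linChar (d.lin ρ (μ * θ)))))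

/-- The coefficients are integers. -/
theorem exists_coeff_int (ρ : ↥d.V →* ℂˣ) (μ θ : ↥d.U →* ℂˣ) (χ : Cfsg.IrrCharacter G) :
    ∃ z : ℤ, Cfsg.classInner (d.tiFun ρ μ θ) χ = z :=
  Induced.Generalized.exists_classInner_int (d.isGen_tiFun ρ μ θ) (Induced.Generalized.of_irr χ)

/-- The values are sums of the coefficients times character values. -/
theorem sum_coeff_mul [Fintype (Cfsg.IrrCharacter G)] (ρ : ↥d.V →* ℂˣ) (μ θ : ↥d.U →* ℂˣ) (g : G) :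
    ∑ χ : Cfsg.IrrCharacter G, Cfsg.classInner (d.tiFun ρ μ θ) χ * (χ : G → ℂ) g =
      d.tiFun ρ μ θ g := by
  conv_rhs => rw [Induced.Generalized.eq_sum_irr (d.isGen_tiFun ρ μ θ)]
  simp only [Finset.sum_apply, Pi.smul_apply, smul_eq_mul]

/-- The section coefficients are sums of the coefficients times those of the characters. -/
theorem sum_coeff_secCoeff [Fintype (Cfsg.IrrCharacter G)] [Fintype ↥K] (ρ : ↥d.V →* ℂˣ)
    (μ θ : ↥d.U →* ℂˣ) (φ : ↥K → ℂ) :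
    ∑ χ : Cfsg.IrrCharacter G, Cfsg.classInner (d.tiFun ρ μ θ) χ * secCoeff t K (χ : G → ℂ) φ =
      secCoeff t K (d.tiFun ρ μ θ) φ := by
  simp only [secCoeff, Cfsg.classInner, Finset.mul_sum]
  rw [Finset.sum_comm]
  refine Finset.sum_congr rfl fun k _ => ?_
  rw [← d.sum_coeff_mul ρ μ θ, Finset.sum_mul, Finset.mul_sum]
  refine Finset.sum_congr rfl fun χ _ => ?_
  simp only [Cfsg.classInner, Finset.mul_sum, Finset.sum_mul]
  exact Finset.sum_congr rfl fun g _ => by ring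

theorem classInner_lin [Fintype ↥d.H₀] (A B : ↥d.H₀ →* ℂˣ) :
    Cfsg.classInner (fun h => (A h : ℂ)) (fun h => (B h : ℂ)) = if A = B then 1 else 0 := by
  have := Characters.Basic.classInner_irr (linChar A) (linChar B)
  simp only [linChar_injective.eq_iff] at this
  exact this

theorem classInner_tiFun [Fintype ↥d.H₀] {ρ ρ' : ↥d.V →* ℂˣ} {μ μ' θ θ' : ↥d.U →* ℂˣ}
    (hθ : d.IsTheta θ) (hθ' : d.IsTheta θ') :
    Cfsg.classInner (d.tiFun ρ μ θ) (d.tiFun ρ' μ' θ') = ∑ p : Bool × Fin 3,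
      Cfsg.classInner (d.psi ρ μ θ) (fun h => d.psi ρ' μ' θ' (d.conjRep p h)) := by
  letI := Fintype.ofFinite ↥d.N
  rw [tiFun, tiFun, d.classInner_indFun (hθ.support_of_ne ρ μ) (hθ'.support_of_ne ρ' μ')]
  have key : ∀ (a : ↥d.H₀) (p : Bool × Fin 3) (h : ↥d.H₀), Cfsg.extendByZero d.H₀ (d.psi ρ' μ' θ')
      (((a : G) * d.rep p)⁻¹ * h * ((a : G) * d.rep p)) = d.psi ρ' μ' θ' (d.conjRep p h) := by
    intro a p h
    rw [show ((a : G) * d.rep p)⁻¹ * h * ((a : G) * d.rep p) =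
      ((d.conjRep p (a⁻¹ * h * a) : ↥d.H₀) : G) by
        show _ = (d.rep p)⁻¹ * _ * d.rep p
        simp only [Subgroup.coe_mul, Subgroup.coe_inv]; group,
      extendByZero_coe]
    have e : ∀ A : ↥d.H₀ →* ℂˣ, A (d.conjRep p (a⁻¹ * h * a)) = A (d.conjRep p h) := fun A => by
      rw [map_mul, map_mul, map_mul, map_mul, map_inv, map_inv,
        mul_comm ((A (d.conjRep p a))⁻¹), inv_mul_cancel_right]
    simp only [psi, Pi.sub_apply, e]
  have hsum : ∀ h : ↥d.H₀, (∑ n : ↥d.N, d.psi ρ μ θ h *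
      conj (Cfsg.extendByZero d.H₀ (d.psi ρ' μ' θ') ((n : G)⁻¹ * h * n))) =
      (Nat.card ↥d.H₀ : ℂ) *
        ∑ p : Bool × Fin 3, d.psi ρ μ θ h * conj (d.psi ρ' μ' θ' (d.conjRep p h)) := by
    intro h
    rw [d.sum_N (fun n => d.psi ρ μ θ h *
      conj (Cfsg.extendByZero d.H₀ (d.psi ρ' μ' θ') (n⁻¹ * h * n)))]
    simp only [key, Finset.sum_const, Finset.card_univ, nsmul_eq_mul, Nat.card_eq_fintype_card]
  simp only [hsum, Cfsg.classInner, Finset.mul_sum]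
  rw [Finset.sum_comm]
  refine Finset.sum_congr rfl fun p _ => Finset.sum_congr rfl fun h _ => ?_
  have hN : (Nat.card ↥d.H₀ : ℂ) ≠ 0 := subgroup_card_ne_zero d.H₀
  field_simp

theorem classInner_psi_conj [Fintype ↥d.H₀] {ρ ρ' : ↥d.V →* ℂˣ} {μ θ θ' : ↥d.U →* ℂˣ}
    (hμ : d.IsTwist μ) (hθ : d.IsTheta θ) (hθ' : d.IsTheta θ') (b : Bool) (i : Fin 3) :
    Cfsg.classInner (d.psi ρ μ θ) (fun h => d.psi ρ' μ θ' (d.conjRep (b, i) h)) =
      if ρ = ρ'.comp (d.actV i) then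
        1 + (if θ = (if b then (θ'.comp (d.actU i))⁻¹ else θ'.comp (d.actU i)) then 1 else 0)
      else 0 := by
  obtain ⟨θ'', hθ''⟩ : ∃ θ'', θ'' = if b then (θ'.comp (d.actU i))⁻¹ else θ'.comp (d.actU i) :=
    ⟨_, rfl⟩
  rw [← hθ'']
  have hne : θ'' ≠ 1 := by
    rw [hθ'']
    cases b
    · simpa using (hθ'.comp_actU i).ne_one
    · simpa using (hθ'.comp_actU i).inv'.ne_one
  have e1 : (d.lin ρ' μ).comp (d.conjRep (b, i)) = d.lin (ρ'.comp (d.actV i)) μ := by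
    rw [d.lin_comp_conjRep]
    congr 1
    cases b
    · exact MonoidHom.ext fun x => hμ.comp_actU i x
    · exact MonoidHom.ext fun x => (hμ.comp_actU i (d.wU x)).trans (hμ.comp_wU x)
  have e2 : (d.lin ρ' (μ * θ')).comp (d.conjRep (b, i)) = d.lin (ρ'.comp (d.actV i)) (μ * θ'') := by
    rw [d.lin_comp_conjRep, hθ'']
    congr 1
    cases b
    · exact MonoidHom.ext fun x => by simp [hμ.comp_actU i x]
    · refine MonoidHom.ext fun x => ?_
      simp only [if_true, MonoidHom.comp_apply, MonoidHom.mul_apply, MonoidHom.inv_apply,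
        hμ.comp_actU i (d.wU x), hμ.comp_wU x]
      congr 1
      exact (hθ'.comp_actU i).inv x
  have hfun : (fun h => d.psi ρ' μ θ' (d.conjRep (b, i) h)) =
      (fun h => (d.lin (ρ'.comp (d.actV i)) μ h : ℂ)) -
        fun h => (d.lin (ρ'.comp (d.actV i)) (μ * θ'') h : ℂ) := by
    funext h
    simp only [psi, Pi.sub_apply, ← DFunLike.congr_fun e1 h, ← DFunLike.congr_fun e2 h,
      MonoidHom.comp_apply]
  rw [hfun, psi, classInner_sub_left, classInner_sub_right, classInner_sub_right]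
  simp only [d.classInner_lin, d.lin_inj]
  have h1 : μ ≠ μ * θ'' := fun h => hne (MonoidHom.ext fun x =>
    mul_eq_left.1 (DFunLike.congr_fun h x).symm)
  have h2 : μ * θ ≠ μ := fun h => hθ.ne_one (MonoidHom.ext fun x =>
    mul_eq_left.1 (DFunLike.congr_fun h x))
  by_cases hρ : ρ = ρ'.comp (d.actV i)
  · simp [hρ, h1, h2]
  · simp [hρ]

/-- The inner products. -/
theorem inner_tiFun [Fintype ↥d.H₀] {ρ ρ' : ↥d.V →* ℂˣ} {μ θ θ' : ↥d.U →* ℂˣ}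
    (hμ : d.IsTwist μ) (hθ : d.IsTheta θ) (hθ' : d.IsTheta θ') :
    Cfsg.classInner (d.tiFun ρ μ θ) (d.tiFun ρ' μ θ') = ∑ i : Fin 3,
      if ρ = ρ'.comp (d.actV i) then
        2 + (if θ = θ'.comp (d.actU i) then 1 else 0) +
          (if θ = (θ'.comp (d.actU i))⁻¹ then 1 else 0)
      else 0 := by
  rw [d.classInner_tiFun hθ hθ', Fintype.sum_prod_type, Fintype.sum_bool, ← Finset.sum_add_distrib]
  refine Finset.sum_congr rfl fun i _ => ?_
  rw [d.classInner_psi_conj hμ hθ hθ', d.classInner_psi_conj hμ hθ hθ']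
  simp only [if_true, Bool.false_eq_true, if_false]
  split_ifs <;> norm_num

theorem one_comp_actV (i : Fin 3) : (1 : ↥d.V →* ℂˣ).comp (d.actV i) = 1 :=
  MonoidHom.one_comp _

theorem inner_rho [Fintype ↥d.H₀] {μ θ θ' : ↥d.U →* ℂˣ} (hμ : d.IsTwist μ) (hθ : d.IsTheta θ)
    (hθ' : d.IsTheta θ') :
    Cfsg.classInner (d.tiFun d.rho μ θ) (d.tiFun d.rho μ θ') =
      2 + (if θ = θ' then 1 else 0) + (if θ = θ'⁻¹ then 1 else 0) := by
  rw [d.inner_tiFun hμ hθ hθ', Finset.sum_eq_single (0 : Fin 3)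
    (fun i _ hi => if_neg fun h => hi (d.rho_comp_actV.1 h.symm))
    (fun h => absurd (Finset.mem_univ _) h), if_pos (d.rho_comp_actV.2 rfl).symm]
  simp [d.actU_zero]

/-- Norm three. -/
theorem norm_rho [Fintype ↥d.H₀] {μ θ : ↥d.U →* ℂˣ} (hμ : d.IsTwist μ) (hθ : d.IsTheta θ) :
    Cfsg.classInner (d.tiFun d.rho μ θ) (d.tiFun d.rho μ θ) = 3 := by
  rw [d.inner_rho hμ hθ hθ, if_pos rfl, if_neg fun h => hθ.ne_one (IsTheta.eq_one_of_inv_eq h)]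
  norm_num

theorem inner_rho_of_ne [Fintype ↥d.H₀] {μ θ θ' : ↥d.U →* ℂˣ} (hμ : d.IsTwist μ) (hθ : d.IsTheta θ)
    (hθ' : d.IsTheta θ') (h1 : θ ≠ θ') (h2 : θ ≠ θ'⁻¹) :
    Cfsg.classInner (d.tiFun d.rho μ θ) (d.tiFun d.rho μ θ') = 2 := by
  rw [d.inner_rho hμ hθ hθ', if_neg h1, if_neg h2]
  norm_num

theorem inner_rho_one [Fintype ↥d.H₀] {μ θ θ' : ↥d.U →* ℂˣ} (hμ : d.IsTwist μ) (hθ : d.IsTheta θ)
    (hθ' : d.IsTheta θ') : Cfsg.classInner (d.tiFun d.rho μ θ) (d.tiFun 1 μ θ') = 0 := by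
  rw [d.inner_tiFun hμ hθ hθ']
  exact Finset.sum_eq_zero fun i _ => if_neg fun h => d.rho_ne_one (h.trans (d.one_comp_actV i))

/-- Norm seven. -/
theorem norm_one [Fintype ↥d.H₀] {μ θ : ↥d.U →* ℂˣ} (hμ : d.IsTwist μ) (hθ : d.IsTheta θ)
    (hf : d.IsFree θ) : Cfsg.classInner (d.tiFun 1 μ θ) (d.tiFun 1 μ θ) = 7 := by
  rw [d.inner_tiFun hμ hθ hθ, Fin.sum_univ_three]
  simp only [d.one_comp_actV, if_true, d.actU_zero, MonoidHom.comp_id,
    if_neg (hf.ne hθ (show (1 : Fin 3) ≠ 0 by decide)).1,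
    if_neg (hf.ne hθ (show (1 : Fin 3) ≠ 0 by decide)).2,
    if_neg (hf.ne hθ (show (2 : Fin 3) ≠ 0 by decide)).1,
    if_neg (hf.ne hθ (show (2 : Fin 3) ≠ 0 by decide)).2,
    if_neg fun h => hθ.ne_one (IsTheta.eq_one_of_inv_eq h)]
  norm_num

/-- `θ` and `θ⁻¹` give the same function. -/
theorem tiFun_inv {μ θ : ↥d.U →* ℂˣ} (hμ : d.IsTwist μ) (hθ : d.IsTheta θ) (ρ : ↥d.V →* ℂˣ) :
    d.tiFun ρ μ θ⁻¹ = d.tiFun ρ μ θ := by
  have key : ∀ z : G, Cfsg.extendByZero d.H₀ (d.psi ρ μ θ⁻¹) z =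
      Cfsg.extendByZero d.H₀ (d.psi ρ μ θ) (d.w * z * d.w⁻¹) := by
    intro z
    by_cases hz : z ∈ d.H₀
    · obtain ⟨h, rfl⟩ : ∃ h : ↥d.H₀, (h : G) = z := ⟨⟨z, hz⟩, rfl⟩
      have hwz := d.conj_H₀ d.w_mem_N hz
      rw [extendByZero_of_mem _ _ hz, extendByZero_of_mem _ _ hwz]
      have e := d.coe_H₀_eq h
      have e' : ((⟨_, hwz⟩ : ↥d.H₀) : G) = ((d.pair h).1 : G) * (d.wU (d.pair h).2 : G) := by
        show d.w * (h : G) * d.w⁻¹ = _
        rw [e, coe_wU, show d.w * (((d.pair h).1 : G) * ((d.pair h).2 : G)) * d.w⁻¹ =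
          d.w * ((d.pair h).1 : G) * ((d.pair h).2 : G) * d.w⁻¹ by group,
          (d.V_comm_w (d.pair h).1.2).eq]
        group
      rw [d.psi_apply ρ μ θ⁻¹ (h := ⟨_, hz⟩) e, d.psi_apply ρ μ θ e', hμ.comp_wU, hθ.inv,
        MonoidHom.inv_apply]
    · rw [extendByZero_of_not_mem _ _ hz, extendByZero_of_not_mem]
      intro hw
      refine hz ?_
      have := d.conj_H₀ (inv_mem d.w_mem_N) hw
      rwa [show d.w⁻¹ * (d.w * z * d.w⁻¹) * d.w⁻¹⁻¹ = z by group] at this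
  funext g
  simp only [tiFun, Cfsg.indFun, key]
  congr 1
  refine Fintype.sum_equiv (Equiv.mulRight d.w⁻¹) _ _ fun y => ?_
  congr 1
  simp only [Equiv.coe_mulRight, mul_inv_rev, inv_inv]
  group

/-- The coefficient of the trivial character. -/
theorem classInner_const [Fintype ↥d.H₀] {ρ : ↥d.V →* ℂˣ} {μ θ : ↥d.U →* ℂˣ} (hμ : d.IsTwist μ)
    (hθ : d.IsTheta θ) :
    Cfsg.classInner (d.tiFun ρ μ θ) (fun _ => 1) = if ρ = 1 ∧ μ = 1 then 1 else 0 := by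
  have h1 : (1 : ↥d.H₀ →* ℂˣ) = d.lin 1 1 := MonoidHom.ext fun h => by
    rw [d.lin_apply 1 1 (d.coe_H₀_eq h)]; simp
  rw [tiFun, frobenius_reciprocity d.H₀ _ (fun _ _ => rfl),
    show (fun _ : ↥d.H₀ => (1 : ℂ)) = fun h => (((1 : ↥d.H₀ →* ℂˣ) h : ℂˣ) : ℂ) by funext h; simp,
    h1, psi, classInner_sub_left]
  simp only [d.classInner_lin, d.lin_inj]
  have h2 : μ * θ ≠ 1 := fun h => hθ.ne_one (IsTheta.eq_one_of_inv_eq (MonoidHom.ext fun x => by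
    have hA : ∀ y, μ y = (θ y)⁻¹ := fun y => eq_inv_of_mul_eq_one_left (DFunLike.congr_fun h y)
    have := hμ.comp_wU x
    rw [hA, hA, hθ.inv, inv_inv] at this
    exact this))
  simp [h2]

omit d in
theorem sum_hom_eq_zero {M : Type*} [Group M] [Fintype M] {χ : M →* ℂˣ} (h : χ ≠ 1) :
    ∑ x : M, (χ x : ℂ) = 0 := by
  obtain ⟨a, ha⟩ : ∃ a, χ a ≠ 1 := by
    by_contra hh
    push Not at hh
    exact h (MonoidHom.ext hh)
  have e : (χ a : ℂ) * ∑ x : M, (χ x : ℂ) = ∑ x : M, (χ x : ℂ) := by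
    rw [Finset.mul_sum]
    exact Fintype.sum_equiv (Equiv.mulLeft a) _ _ fun x => by simp
  refine (mul_eq_zero.1 (show ((χ a : ℂ) - 1) * _ = 0 by linear_combination e)).resolve_left ?_
  exact fun h1 => ha (Units.ext (sub_eq_zero.1 h1))

omit d in
theorem mul_conj_hom {M : Type*} [Group M] [Finite M] (χ : M →* ℂˣ) (x : M) :
    (χ x : ℂ) * conj (χ x : ℂ) = 1 := by
  rw [← linChar_apply χ x, ← Characters.Basic.apply_inv (Characters.Basic.isCharacter_irr _),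
    linChar_apply, linChar_apply, ← Units.val_mul, ← map_mul, mul_inv_cancel, map_one, Units.val_one]

/-- The coefficients on the section, from the sums over `U`. -/
theorem secCoeff_tiFun_of_sum [Fintype ↥K] [Fintype ↥d.U] {ρ : ↥d.V →* ℂˣ} {μ θ : ↥d.U →* ℂˣ}
    (hμ : d.IsTwist μ) (hθ : d.IsTheta θ) {φ : ↥K → ℂ} (hφ : Cfsg.IsClassFunction ↥K φ)
    (hφ0 : OddSupport φ) {κ : ℂ}
    (hκ : ∀ η : ↥d.U →* ℂˣ, d.IsTheta η →
      ∑ x : ↥d.U, (μ x : ℂ) * (1 - (η x : ℂ)) * conj (φ ⟨x, d.U_le x.2⟩) =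
        κ * Nat.card ↥d.U) :
    secCoeff t K (d.tiFun ρ μ θ) φ = κ / 2 * ∑ i : Fin 3, (ρ (d.posV i) : ℂ) := by
  rw [tiFun, d.secCoeff_indFun (hθ.support_of_ne ρ μ) hφ hφ0]
  have hterm : ∀ (i : Fin 3) (x : ↥d.U), Cfsg.extendByZero d.H₀ (d.psi ρ μ θ)
      (d.pos i * ((d.r ^ (i : ℕ))⁻¹ * x * d.r ^ (i : ℕ))) * conj (φ ⟨x, d.U_le x.2⟩) =
      (ρ (d.posV i) : ℂ) * ((μ x : ℂ) * (1 - (θ.comp (d.actU i) x : ℂ)) *
        conj (φ ⟨x, d.U_le x.2⟩)) := by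
    intro i x
    obtain ⟨h, hh⟩ : ∃ h : ↥d.H₀, (h : G) = (d.posV i : G) * (d.actU i x : G) :=
      ⟨d.pair.symm (_, _), d.coe_pair_symm _⟩
    rw [show d.pos i * ((d.r ^ (i : ℕ))⁻¹ * x * d.r ^ (i : ℕ)) = (h : G) from hh.symm,
      extendByZero_coe, d.psi_apply ρ μ θ hh, hμ.comp_actU, MonoidHom.comp_apply]
    ring
  simp only [hterm, ← Finset.mul_sum, hκ _ (hθ.comp_actU _), d.card_H₀]
  rw [← Finset.sum_mul]
  have hU : (Nat.card ↥d.U : ℂ) ≠ 0 := subgroup_card_ne_zero d.U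
  push_cast
  field_simp
  ring

/-- The coefficients on the section, for `φ = κ μ` on the sections of `T₀`. -/
theorem secCoeff_tiFun [Fintype ↥K] {ρ : ↥d.V →* ℂˣ} {μ θ : ↥d.U →* ℂˣ} (hμ : d.IsTwist μ)
    (hθ : d.IsTheta θ) {φ : ↥K → ℂ} (hφ : Cfsg.IsClassFunction ↥K φ) (hφ0 : OddSupport φ) {κ : ℂ}
    (hκ : ∀ x : ↥d.U, (∃ k : ℕ, (x : G) ^ k ∈ d.T₀ ∧ (x : G) ^ k ≠ 1) →
      φ ⟨x, d.U_le x.2⟩ = κ * μ x) :
    secCoeff t K (d.tiFun ρ μ θ) φ = conj κ / 2 * ∑ i : Fin 3, (ρ (d.posV i) : ℂ) := by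
  letI := Fintype.ofFinite ↥d.U
  refine d.secCoeff_tiFun_of_sum hμ hθ hφ hφ0 fun η hη => ?_
  have hterm : ∀ x : ↥d.U, (μ x : ℂ) * (1 - (η x : ℂ)) * conj (φ ⟨x, d.U_le x.2⟩) =
      conj κ * (1 - (η x : ℂ)) := by
    intro x
    by_cases hx : η x = 1
    · simp [hx]
    · rw [hκ x (hη.supp x hx), map_mul]
      linear_combination (conj κ * (1 - (η x : ℂ))) * mul_conj_hom μ x
  simp only [hterm, ← Finset.mul_sum, Finset.sum_sub_distrib, sum_hom_eq_zero hη.ne_one, sub_zero,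
    Finset.sum_const, Finset.card_univ, nsmul_eq_mul, mul_one, ← Nat.card_eq_fintype_card]

theorem sum_rho_pos : ∑ i : Fin 3, (d.rho (d.posV i) : ℂ) = -1 := by
  rw [Fin.sum_univ_three, d.rho_pos_zero, d.rho_pos_ne (by decide), d.rho_pos_ne (by decide)]
  norm_num

theorem sum_rho [Fintype ↥d.V] : ∑ v : ↥d.V, (d.rho v : ℂ) = 0 := sum_hom_eq_zero d.rho_ne_one

theorem IsTheta.restrict_T_ne_one {θ : ↥d.U →* ℂˣ} (hθ : d.IsTheta θ) :
    θ.comp (Subgroup.inclusion d.T_le) ≠ 1 := by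
  refine fun h => hθ.ne_one (IsTheta.eq_one_of_inv_eq (MonoidHom.ext fun x => ?_))
  have h1 := DFunLike.congr_fun h ⟨_, d.w_mod x x.2⟩
  have h2 : θ (d.wU x) = θ x := by
    rw [show d.wU x = x * Subgroup.inclusion d.T_le ⟨_, d.w_mod x x.2⟩ from
      Subtype.ext (by simp [coe_wU]), map_mul]
    rw [MonoidHom.comp_apply, MonoidHom.one_apply] at h1
    rw [h1, mul_one]
  rw [MonoidHom.inv_apply, ← hθ.inv, h2]

/-- The class equation. -/
theorem sum_sq_tiFun [Fintype ↥d.V] [Fintype (Cfsg.IrrCharacter G)] {ρ : ↥d.V →* ℂˣ}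
    {μ θ : ↥d.U →* ℂˣ} (hμ : d.IsTwist μ) (hθ : d.IsTheta θ) :
    ∑ χ : Cfsg.IrrCharacter G,
        Cfsg.classInner (d.tiFun ρ μ θ) χ * (χ : G → ℂ) t ^ 2 / (χ : G → ℂ) 1 =
      (Nat.card ↥(centralizer ({t} : Set G)) : ℂ) ^ 2 / (Nat.card G : ℂ) *
        ((Nat.card ↥d.T : ℂ) ^ 2 / Nat.card ↥d.U) * ∑ v : ↥d.V, (ρ v : ℂ) := by
  letI := Fintype.ofFinite ↥d.H₀
  letI := Fintype.ofFinite ↥d.U
  letI := Fintype.ofFinite ↥d.T
  rw [tiFun, d.sum_classInner_sq (hθ.support_of_ne ρ μ)]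
  have hterm : ∀ (v : ↥d.V) (x : ↥d.U),
      d.psi ρ μ θ (d.pair.symm (v, x)) * invPairs (d.pair.symm (v, x) : G) =
        (ρ v : ℂ) * (if (x : G) ∈ d.T then 4 * (Nat.card ↥d.T : ℂ) * (1 - (θ x : ℂ)) else 0) := by
    intro v x
    rw [d.psi_apply ρ μ θ (d.coe_pair_symm (v, x))]
    by_cases hx : θ x = 1
    · simp [hx]
    obtain ⟨k, hk⟩ := hθ.supp x hx
    obtain ⟨hT, hT'⟩ := d.invPairs_support v.2 x.2 ⟨_, v.2, _, x.2, rfl, k, hk⟩
    rw [d.coe_pair_symm (v, x)]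
    split_ifs with h
    · rw [hT h, hμ.T_eq x h]; push_cast; ring
    · rw [hT' h]; simp
  rw [← Fintype.sum_equiv d.pair.symm.toEquiv
    (fun q => (ρ q.1 : ℂ) * (if (q.2 : G) ∈ d.T then 4 * (Nat.card ↥d.T : ℂ) * (1 - (θ q.2 : ℂ)) else 0))
    _ (fun q => (hterm q.1 q.2).symm), Fintype.sum_prod_type]
  simp only [← Finset.mul_sum, ← Finset.sum_mul]
  have hsum : ∑ x : ↥d.U, (if (x : G) ∈ d.T then 4 * (Nat.card ↥d.T : ℂ) * (1 - (θ x : ℂ)) else 0) =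
      4 * (Nat.card ↥d.T : ℂ) ^ 2 := by
    rw [← Finset.sum_filter, ← Finset.mul_sum,
      show (Finset.univ.filter fun x : ↥d.U => (x : G) ∈ d.T) =
        Finset.univ.image (Subgroup.inclusion d.T_le) from ?_,
      Finset.sum_image (Subgroup.inclusion_injective d.T_le).injOn, Finset.sum_sub_distrib,
      Finset.sum_const, Finset.card_univ, nsmul_eq_mul, mul_one, ← Nat.card_eq_fintype_card]
    · have := sum_hom_eq_zero (χ := θ.comp (Subgroup.inclusion d.T_le)) hθ.restrict_T_ne_one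
      simp only [MonoidHom.comp_apply] at this
      rw [this, sub_zero]
      ring
    · ext x
      simp only [Finset.mem_filter, Finset.mem_univ, true_and, Finset.mem_image]
      exact ⟨fun h => ⟨⟨x, h⟩, rfl⟩, fun ⟨y, hy⟩ => hy ▸ y.2⟩
  rw [hsum, d.card_H₀]
  have hU : (Nat.card ↥d.U : ℂ) ≠ 0 := subgroup_card_ne_zero d.U
  push_cast
  field_simp

/-- The class equation of the norm-seven function, in terms of `kConst`. -/
theorem sum_sq_one [Fintype (Cfsg.IrrCharacter G)] {μ θ : ↥d.U →* ℂˣ} (hμ : d.IsTwist μ)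
    (hθ : d.IsTheta θ) {Q : ℤ} {c : ℕ} (hK : 2 * (Nat.card ↥K : ℤ) = c * |Q * (Q ^ 2 - 1)|)
    (hT : 4 * (Nat.card ↥d.T : ℤ) = |Q + 1|) (hU : Nat.card ↥d.U = c * Nat.card ↥d.T) :
    ∑ χ : Cfsg.IrrCharacter G,
        Cfsg.classInner (d.tiFun 1 μ θ) χ * (χ : G → ℂ) t ^ 2 / (χ : G → ℂ) 1 =
      ((kConst t Q : ℚ) : ℂ) * ((Q : ℂ) + 1) := by
  letI := Fintype.ofFinite ↥d.V
  rw [d.sum_sq_tiFun hμ hθ]
  have hV : ∑ v : ↥d.V, (((1 : ↥d.V →* ℂˣ) v : ℂˣ) : ℂ) = 4 := by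
    simp [← Nat.card_eq_fintype_card, d.card_V]
  rw [hV]
  set Cn := centralizer ({t} : Set G) with hCn
  have hC : (Nat.card ↥Cn : ℤ) = c * |Q * (Q ^ 2 - 1)| := by
    rw [hCn, sec_card d.split d.ord]; push_cast; exact hK
  have habs : |Q * (Q ^ 2 - 1)| * |Q + 1| = Q * (Q ^ 2 - 1) * (Q + 1) := by
    rw [← abs_mul, abs_of_nonneg]
    rw [show Q * (Q ^ 2 - 1) * (Q + 1) = (Q * (Q - 1)) * ((Q + 1) * (Q + 1)) by ring]
    refine mul_nonneg ?_ (mul_self_nonneg _)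
    rcases le_or_gt Q 0 with h | h <;> nlinarith
  have hidx : (Nat.card ↥Cn : ℂ) * (Cn.index : ℂ) = Nat.card G := by
    exact_mod_cast Cn.card_mul_index
  have hmain : (Nat.card ↥Cn : ℤ) * (4 * Nat.card ↥d.T) = c * (Q * (Q ^ 2 - 1) * (Q + 1)) := by
    rw [hC, hT, ← habs, mul_assoc]
  have hmainC : (Nat.card ↥Cn : ℂ) * (4 * (Nat.card ↥d.T : ℂ)) =
      (c : ℂ) * ((Q : ℂ) * ((Q : ℂ) ^ 2 - 1) * ((Q : ℂ) + 1)) := by exact_mod_cast hmain
  have hUC : (Nat.card ↥d.U : ℂ) = c * Nat.card ↥d.T := by exact_mod_cast hU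
  have hc : (c : ℂ) ≠ 0 := fun h => by
    rw [h, zero_mul] at hUC; exact subgroup_card_ne_zero d.U hUC
  have hT0 : (Nat.card ↥d.T : ℂ) ≠ 0 := subgroup_card_ne_zero d.T
  have hi0 : (Cn.index : ℂ) ≠ 0 := Nat.cast_ne_zero.2 Cn.index_ne_zero_of_finite
  have hC0 : (Nat.card ↥Cn : ℂ) ≠ 0 := subgroup_card_ne_zero Cn
  rw [kConst, ← hCn, hUC, ← hidx]
  push_cast
  field_simp
  linear_combination hmainC

/-- For `U = T₀` every non-trivial linear character qualifies. -/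
theorem isTheta_of_eq (hU : d.T₀ = d.U) {θ : ↥d.U →* ℂˣ} (h : θ ≠ 1) : d.IsTheta θ where
  ne_one := h
  inv x := by
    rw [← map_inv]
    congr 1
    exact Subtype.ext (d.w_inv x (d.T₀_le (by rw [hU]; exact x.2)))
  supp x hx := ⟨1, by rw [pow_one, hU]; exact x.2, fun e => hx (by
    rw [pow_one] at e; rw [show x = 1 from Subtype.ext e, map_one])⟩

/-- `U = T₀`: constant coefficients give a congruence modulo `4 |U|`. -/
theorem exists_congr [Fintype ↥d.V] (hU : d.T₀ = d.U) (ρ : ↥d.V →* ℂˣ) (χ : Cfsg.IrrCharacter G)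
    {α : ℤ} (hα : ∀ θ : ↥d.U →* ℂˣ, θ ≠ 1 → Cfsg.classInner (d.tiFun ρ 1 θ) χ = α) :
    ∃ n : ℤ, ∑ v : ↥d.V, (ρ v : ℂ) * conj ((χ : G → ℂ) v) - 4 * (α : ℂ) =
      4 * (Nat.card ↥d.U : ℂ) * n := by
  letI := Fintype.ofFinite ↥d.H₀
  letI := Fintype.ofFinite ↥d.U
  letI : CommGroup ↥d.U :=
    { (inferInstance : Group ↥d.U) with
      mul_comm := fun a b => Subtype.ext
        (d.T_abelian (d.T₀_le (by rw [hU]; exact a.2)) (d.T₀_le (by rw [hU]; exact b.2))).eq }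
  haveI := Isometry.Clifford.finite_dual (Q := ↥d.U)
  letI := Fintype.ofFinite (↥d.U →* ℂˣ)
  have hχ := Characters.Basic.isClassFunction_irr χ
  set nn : (↥d.U →* ℂˣ) → ℂ := fun ν =>
    Cfsg.classInner (fun h => (d.lin ρ ν h : ℂ)) (fun h : ↥d.H₀ => (χ : G → ℂ) h) with hnn
  have h1 : ∀ ν, ν ≠ 1 → nn 1 - nn ν = α := by
    intro ν hν
    rw [← hα ν hν, tiFun, frobenius_reciprocity d.H₀ _ hχ, psi, classInner_sub_left]
    simp only [hnn]
    rw [show (1 : ↥d.U →* ℂˣ) * ν = ν from MonoidHom.ext fun x => one_mul _]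
  obtain ⟨n, hn⟩ : ∃ n : ℤ, nn 1 = n :=
    Induced.Generalized.exists_classInner_int (Induced.Generalized.of_irr (linChar (d.lin ρ 1)))
      (Induced.Generalized.of_isCharacter (Characters.Basic.isCharacter_comp d.H₀.subtype
        (Characters.Basic.isCharacter_irr χ)))
  have hsum : ∑ ν : ↥d.U →* ℂˣ, nn ν = (1 / 4 : ℂ) * ∑ v : ↥d.V, (ρ v : ℂ) * conj ((χ : G → ℂ) v) := by
    have e : ∀ h : ↥d.H₀, ∑ ν : ↥d.U →* ℂˣ, (d.lin ρ ν h : ℂ) * conj ((χ : G → ℂ) h) =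
        if (d.pair h).2 = 1 then
          (Nat.card ↥d.U : ℂ) * ((ρ (d.pair h).1 : ℂ) * conj ((χ : G → ℂ) h)) else 0 := by
      intro h
      simp only [d.lin_apply ρ _ (d.coe_H₀_eq h), Units.val_mul, mul_assoc, ← Finset.mul_sum]
      rw [← Finset.sum_mul, Isometry.Clifford.sum_dual]
      split_ifs <;> ring
    simp only [hnn, Cfsg.classInner, ← Finset.mul_sum]
    rw [Finset.sum_comm]
    simp only [e]
    rw [← Finset.sum_filter,
      show (Finset.univ.filter fun h : ↥d.H₀ => (d.pair h).2 = 1) =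
        Finset.univ.image fun v : ↥d.V => d.pair.symm (v, 1) from ?_,
      Finset.sum_image fun a _ b _ hab => (Prod.ext_iff.1 (d.pair.symm.injective hab)).1,
      ← Finset.mul_sum, d.card_H₀, Finset.mul_sum, Finset.mul_sum, Finset.mul_sum]
    · refine Finset.sum_congr rfl fun v _ => ?_
      rw [d.coe_pair_symm, MulEquiv.apply_symm_apply, Subgroup.coe_one, mul_one]
      have hU0 : (Nat.card ↥d.U : ℂ) ≠ 0 := subgroup_card_ne_zero d.U
      push_cast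
      field_simp
    · ext h
      simp only [Finset.mem_filter, Finset.mem_univ, true_and, Finset.mem_image]
      refine ⟨fun hh => ⟨(d.pair h).1, ?_⟩, fun ⟨v, hv⟩ => by rw [← hv, MulEquiv.apply_symm_apply]⟩
      rw [← hh, Prod.mk.eta, MulEquiv.symm_apply_apply]
  have hsum' : ∑ ν : ↥d.U →* ℂˣ, nn ν =
      (Nat.card ↥d.U : ℂ) * nn 1 - ((Nat.card ↥d.U : ℂ) - 1) * α := by
    have hcard : (Fintype.card (↥d.U →* ℂˣ) : ℂ) = Nat.card ↥d.U := by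
      rw [← Nat.card_eq_fintype_card, CommGroup.card_monoidHom_of_hasEnoughRootsOfUnity ↥d.U ℂ]
    rw [Finset.sum_congr rfl fun ν _ => show nn ν = (nn 1 - α) + if ν = 1 then (α : ℂ) else 0 by
      split_ifs with h
      · rw [h]; ring
      · linear_combination -(h1 ν h), Finset.sum_add_distrib, Finset.sum_ite_eq' Finset.univ (1 : ↥d.U →* ℂˣ) fun _ => (α : ℂ),
      if_pos (Finset.mem_univ _), Finset.sum_const, Finset.card_univ, nsmul_eq_mul, hcard]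
    ring
  refine ⟨n - α, ?_⟩
  rw [hsum] at hsum'
  rw [hn] at hsum'
  push_cast
  linear_combination 4 * hsum'


theorem sum_V {R : Type*} [AddCommMonoid R] [Fintype ↥d.V] (F : ↥d.V → R) :
    ∑ v : ↥d.V, F v = F 1 + ∑ i : Fin 3, F (d.posV i) := by
  rw [← Finset.add_sum_erase Finset.univ F (Finset.mem_univ 1)]
  congr 1
  refine (Finset.sum_bij (fun i _ => d.posV i) (fun i _ => Finset.mem_erase.2 ⟨fun h => ?_, Finset.mem_univ _⟩)
    (fun i _ j _ h => d.pos_injective (congrArg Subtype.val h)) (fun v hv => ?_) (fun _ _ => rfl)).symm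
  · have h1 : d.pos i = 1 := congrArg Subtype.val h
    refine d.t_ne_one ?_
    calc t = d.r ^ (i : ℕ) * d.pos i * (d.r ^ (i : ℕ))⁻¹ := by rw [pos]; group
      _ = 1 := by rw [h1, mul_one, mul_inv_cancel]
  · obtain ⟨i, hi⟩ := d.exists_pos v.2 fun e => (Finset.mem_erase.1 hv).1 (Subtype.ext e)
    exact ⟨i, Finset.mem_univ _, Subtype.ext hi.symm⟩

theorem apply_pos (χ : Cfsg.IrrCharacter G) (i : Fin 3) : (χ : G → ℂ) (d.pos i) = (χ : G → ℂ) t := by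
  have := Characters.Basic.isClassFunction_irr χ t ((d.r ^ (i : ℕ))⁻¹)
  rwa [inv_inv] at this

/-- The congruences for constant coefficients, `U = T₀`. -/
theorem congr_one (hU : d.T₀ = d.U) (χ : Cfsg.IrrCharacter G) {D T α : ℤ}
    (hD : (χ : G → ℂ) 1 = D) (hT : (χ : G → ℂ) t = T)
    (hα : ∀ θ : ↥d.U →* ℂˣ, θ ≠ 1 → Cfsg.classInner (d.tiFun 1 1 θ) χ = α) :
    (4 * Nat.card ↥d.U : ℤ) ∣ D + 3 * T - 4 * α := by
  letI := Fintype.ofFinite ↥d.V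
  obtain ⟨n, hn⟩ := d.exists_congr hU 1 χ hα
  refine ⟨n, ?_⟩
  simp only [d.sum_V, MonoidHom.one_apply, Units.val_one, one_mul, posV, Subgroup.coe_one, d.apply_pos,
    hD, hT, map_intCast, Fin.sum_univ_three] at hn
  have : ((D + 3 * T - 4 * α : ℤ) : ℂ) = ((4 * Nat.card ↥d.U * n : ℤ) : ℂ) := by
    push_cast; linear_combination hn
  exact_mod_cast this

theorem congr_rho (hU : d.T₀ = d.U) (χ : Cfsg.IrrCharacter G) {D T α : ℤ}
    (hD : (χ : G → ℂ) 1 = D) (hT : (χ : G → ℂ) t = T)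
    (hα : ∀ θ : ↥d.U →* ℂˣ, θ ≠ 1 → Cfsg.classInner (d.tiFun d.rho 1 θ) χ = α) :
    (4 * Nat.card ↥d.U : ℤ) ∣ D - T - 4 * α := by
  letI := Fintype.ofFinite ↥d.V
  obtain ⟨n, hn⟩ := d.exists_congr hU d.rho χ hα
  refine ⟨n, ?_⟩
  have hpos : ∀ i : Fin 3, ((d.posV i : ↥d.V) : G) = d.pos i := fun i => rfl
  simp only [d.sum_V, map_one, Units.val_one, one_mul, hpos, Subgroup.coe_one, d.apply_pos,
    hD, hT, map_intCast, ← Finset.sum_mul, d.sum_rho_pos] at hn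
  have : ((D - T - 4 * α : ℤ) : ℂ) = ((4 * Nat.card ↥d.U * n : ℤ) : ℂ) := by
    push_cast; linear_combination hn
  exact_mod_cast this


end Cfsg.Agent.Lib.JankoThompson.GSide.TorusData
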