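import Cfsg.Agent.Lib.JankoThompson.GSide.Torus
import Cfsg.Agent.Lib.Induced.Character
import Cfsg.Agent.Lib.Induced.Generalized

/-!
# Janko–Thompson: induced functions supported on the TI set of the torus

For `ψ` on a subgroup `H` vanishing outside `support`: the values of `Ind ψ` at `1`, `t` and in the
support, inner products, the coefficients on the section of `t`, and the class equation.

Owner: helper66.
-/

set_option autoImplicit false
set_option linter.style.haveILetI false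
set_option linter.unusedSectionVars false

universe u

namespace Cfsg.Agent.Lib.JankoThompson.GSide.TorusData

open Subgroup Cfsg.Agent.Lib.Induced.Basic Cfsg.Agent.Lib.Walter.NoField
open scoped ComplexConjugate

variable {G : Type u} [Group G] [Fintype G] {t : G} {K : Subgroup G} (d : TorusData t K)

include d

variable {H : Subgroup G} {ψ : ↥H → ℂ} (hψ : ∀ h : ↥H, ψ h ≠ 0 → (h : G) ∈ d.support)

include hψ

theorem mem_support_of_ne {g : G} (h : Cfsg.extendByZero H ψ g ≠ 0) : g ∈ d.support := by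
  by_cases hg : g ∈ H
  · rw [extendByZero_of_mem H ψ hg] at h
    exact hψ _ h
  · exact absurd (extendByZero_of_not_mem H ψ hg) h

theorem indFun_eq_zero {g : G} (hg : ∀ x : G, x⁻¹ * g * x ∉ d.support) : Cfsg.indFun H ψ g = 0 := by
  simp only [Cfsg.indFun]
  rw [Finset.sum_eq_zero, mul_zero]
  intro x _
  by_contra h
  exact hg x (d.mem_support_of_ne hψ h)

theorem indFun_one_eq : Cfsg.indFun H ψ 1 = 0 :=
  d.indFun_eq_zero hψ fun x => by rw [mul_one, inv_mul_cancel]; exact d.one_not_mem_support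

theorem indFun_t_eq : Cfsg.indFun H ψ t = 0 := by
  refine d.indFun_eq_zero hψ fun x hx => ?_
  obtain ⟨k, hk, hk1⟩ := d.exists_pow hx
  refine hk1 (d.eq_one_of_sq (d.T_le (d.T₀_le hk)) ?_)
  rw [← pow_two, ← pow_mul, mul_comm, pow_mul, show (x⁻¹ * t * x) ^ 2 = 1 by
    rw [pow_two]; calc x⁻¹ * t * x * (x⁻¹ * t * x) = x⁻¹ * (t * t) * x := by group
      _ = 1 := by rw [d.t_sq, mul_one, inv_mul_cancel], one_pow]

/-- The value on the support. -/
theorem indFun_support [Fintype ↥d.N] {h : G} (hh : h ∈ d.support) :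
    Cfsg.indFun H ψ h =
      (Nat.card ↥H : ℂ)⁻¹ * ∑ n : ↥d.N, Cfsg.extendByZero H ψ ((n : G)⁻¹ * h * n) := by
  classical
  simp only [Cfsg.indFun]
  congr 1
  rw [← Finset.sum_subtype (Finset.univ.filter (· ∈ d.N)) (fun x => by simp)
    (fun x => Cfsg.extendByZero H ψ (x⁻¹ * h * x)), Finset.sum_filter_of_ne]
  intro x _ hne
  refine inv_mem_iff.1 (d.fusion hh ?_)
  rw [inv_inv]
  exact d.mem_support_of_ne hψ hne

/-- Inner products are computed in `N`. -/
theorem classInner_indFun [Fintype ↥H] [Fintype ↥d.N] {H' : Subgroup G} {ψ' : ↥H' → ℂ}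
    (hψ' : ∀ h : ↥H', ψ' h ≠ 0 → (h : G) ∈ d.support) :
    Cfsg.classInner (Cfsg.indFun H ψ) (Cfsg.indFun H' ψ') =
      (Nat.card ↥H : ℂ)⁻¹ * (Nat.card ↥H' : ℂ)⁻¹ * ∑ h : ↥H, ∑ n : ↥d.N,
        ψ h * conj (Cfsg.extendByZero H' ψ' ((n : G)⁻¹ * h * n)) := by
  rw [frobenius_reciprocity H ψ (isClassFunction_indFun _ ψ'), Cfsg.classInner, mul_assoc]
  congr 1
  rw [Finset.mul_sum]
  refine Finset.sum_congr rfl fun h _ => ?_
  by_cases h0 : ψ h = 0
  · simp [h0]
  · rw [d.indFun_support hψ' (hψ h h0), map_mul, map_inv₀, map_natCast, map_sum, ← mul_assoc,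
      mul_comm (ψ h), mul_assoc, Finset.mul_sum]

/-- The coefficients on the section of `t`. -/
theorem secCoeff_indFun [Fintype ↥K] [Fintype ↥d.U] {φ : ↥K → ℂ} (hφ : Cfsg.IsClassFunction ↥K φ)
    (hφ0 : OddSupport φ) :
    secCoeff t K (Cfsg.indFun H ψ) φ = 2 * (Nat.card ↥H : ℂ)⁻¹ * ∑ i : Fin 3, ∑ x : ↥d.U,
      Cfsg.extendByZero H ψ (d.pos i * ((d.r ^ (i : ℕ))⁻¹ * x * d.r ^ (i : ℕ))) *
        conj (φ ⟨x, d.U_le x.2⟩) := by
  classical
  set C := centralizer ({t} : Set G) with hC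
  letI := Fintype.ofFinite ↥C
  set F : G → ℂ := Cfsg.extendByZero H ψ with hF
  -- the sum over `G` runs over `C(t) rⁱ`
  have hG : ∀ k : ↥K, φ k ≠ 0 → ∑ y : G, F (y⁻¹ * (t * (k : G)) * y) =
      ∑ i : Fin 3, ∑ c : ↥C,
        F ((d.r ^ (i : ℕ))⁻¹ * ((c : G)⁻¹ * (t * (k : G)) * c) * d.r ^ (i : ℕ)) := by
    intro k hk
    have hodd : Odd (orderOf (k : G)) :=
      Nat.not_even_iff_odd.1 fun h => hk (hφ0 k (even_iff_two_dvd.1 h))
    rw [← Fintype.sum_prod_type']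
    have hinj : Function.Injective fun q : Fin 3 × ↥C => (q.2 : G) * d.r ^ (q.1 : ℕ) := by
      rintro ⟨i, c⟩ ⟨j, c'⟩ e
      simp only at e
      have hp : ∀ (i : Fin 3) (c : ↥C),
          ((c : G) * d.r ^ (i : ℕ))⁻¹ * t * ((c : G) * d.r ^ (i : ℕ)) = d.pos i := fun i c => by
        have hc : (c : G) * t = t * c := mem_centralizer_singleton_iff.1 c.2
        rw [pos, show ((c : G) * d.r ^ (i : ℕ))⁻¹ * t * ((c : G) * d.r ^ (i : ℕ)) =
          (d.r ^ (i : ℕ))⁻¹ * ((c : G)⁻¹ * (t * c)) * d.r ^ (i : ℕ) by group, ← hc, inv_mul_cancel_left]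
      obtain rfl : i = j := d.pos_injective (by rw [← hp i c, e, hp j c'])
      exact Prod.ext rfl (Subtype.ext (mul_right_cancel e))
    rw [show (∑ q : Fin 3 × ↥C,
        F ((d.r ^ (q.1 : ℕ))⁻¹ * ((q.2 : G)⁻¹ * (t * (k : G)) * q.2) * d.r ^ (q.1 : ℕ))) =
        ∑ y ∈ Finset.univ.image (fun q : Fin 3 × ↥C => (q.2 : G) * d.r ^ (q.1 : ℕ)),
          F (y⁻¹ * (t * (k : G)) * y) by
      rw [Finset.sum_image hinj.injOn]
      exact Finset.sum_congr rfl fun q _ => by congr 1; group]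
    refine (Finset.sum_subset (Finset.subset_univ _) fun y _ hy => ?_).symm
    by_contra hne
    obtain ⟨v, hv, x, hx, e, -⟩ := d.mem_support_of_ne hψ hne
    obtain ⟨j, hj⟩ := hodd
    obtain ⟨m, hm⟩ : ∃ m, m = orderOf (k : G) := ⟨_, rfl⟩
    have hpow := congrArg (fun g => g ^ m) e
    have hv' : ∀ z : G, z * z = 1 → z ^ m = z := fun z hz => by
      rw [hm, hj, pow_succ, pow_mul, pow_two, hz, one_pow, one_mul]
    rw [show y⁻¹ * (t * (k : G)) * y = y⁻¹ * (t * (k : G)) * y⁻¹⁻¹ by rw [inv_inv], conj_pow,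
      (d.comm_t k.2).mul_pow, hv' t d.t_sq, hm, pow_orderOf_eq_one, mul_one, inv_inv, ← hm,
      (d.V_comm_U hx hv).symm.mul_pow, hv' v (d.sq_V hv)] at hpow
    have hxm : x ^ m = 1 := by
      refine d.eq_one_of_sq (pow_mem hx m) ?_
      have h2 : y⁻¹ * t * y * (y⁻¹ * t * y) = 1 := by
        calc y⁻¹ * t * y * (y⁻¹ * t * y) = y⁻¹ * (t * t) * y := by group
          _ = 1 := by rw [d.t_sq, mul_one, inv_mul_cancel]
      rw [hpow, show v * x ^ m * (v * x ^ m) = v * (x ^ m * v) * x ^ m by group,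
        (d.V_comm_U (pow_mem hx m) hv).eq, ← mul_assoc v v, d.sq_V hv, one_mul] at h2
      exact h2
    rw [hxm, mul_one] at hpow
    obtain ⟨i, hi⟩ := d.exists_pos hv fun h1 => d.t_ne_one (by
      have := congrArg (fun g => y * g * y⁻¹) hpow
      simpa [h1, mul_assoc] using this)
    refine hy (Finset.mem_image.2 ⟨(i, ⟨y * (d.r ^ (i : ℕ))⁻¹, mem_centralizer_singleton_iff.2 ?_⟩),
      Finset.mem_univ _, inv_mul_cancel_right _ _⟩)
    rw [hi, pos] at hpow
    calc y * (d.r ^ (i : ℕ))⁻¹ * t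
        = y * ((d.r ^ (i : ℕ))⁻¹ * t * d.r ^ (i : ℕ)) * (d.r ^ (i : ℕ))⁻¹ := by group
      _ = y * (y⁻¹ * t * y) * (d.r ^ (i : ℕ))⁻¹ := by rw [hpow]
      _ = t * (y * (d.r ^ (i : ℕ))⁻¹) := by group
  -- `C(t)` acts on `K` by inner automorphisms
  have hK : ∀ (i : Fin 3) (c : ↥C),
      ∑ k : ↥K, F ((d.r ^ (i : ℕ))⁻¹ * ((c : G)⁻¹ * (t * (k : G)) * c) * d.r ^ (i : ℕ)) * conj (φ k) =
      ∑ k : ↥K, F ((d.r ^ (i : ℕ))⁻¹ * (t * (k : G)) * d.r ^ (i : ℕ)) * conj (φ k) := by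
    intro i c
    obtain ⟨u, hu, hconj⟩ := sec_exists_conj d.split c.2
    symm
    refine Fintype.sum_equiv (MulAut.conj (⟨u, hu⟩ : ↥K)).toEquiv _ _ fun k => ?_
    simp only [MulEquiv.toEquiv_eq_coe, EquivLike.coe_coe, MulAut.conj_apply, hφ k ⟨u, hu⟩]
    congr 2
    have hct : (c : G)⁻¹ * t = t * (c : G)⁻¹ :=
      ((show Commute (c : G) t from mem_centralizer_singleton_iff.1 c.2).inv_left).eq
    simp only [Subgroup.coe_mul, Subgroup.coe_inv]
    rw [← hconj k k.2, show (c : G)⁻¹ * (t * ((c : G) * k * (c : G)⁻¹)) * c = (c : G)⁻¹ * t * c * k by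
      group, hct, inv_mul_cancel_right]
  -- the elements `t k` in the support
  have hU : ∀ i : Fin 3,
      ∑ k : ↥K, F ((d.r ^ (i : ℕ))⁻¹ * (t * (k : G)) * d.r ^ (i : ℕ)) * conj (φ k) =
      ∑ x : ↥d.U, F (d.pos i * ((d.r ^ (i : ℕ))⁻¹ * x * d.r ^ (i : ℕ))) * conj (φ ⟨x, d.U_le x.2⟩) := by
    intro i
    have hinj : Function.Injective fun x : ↥d.U => (⟨x, d.U_le x.2⟩ : ↥K) := fun a b e =>
      Subtype.ext (congrArg (fun z : ↥K => (z : G)) e)
    rw [← Finset.sum_subset (Finset.subset_univ (Finset.univ.image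
      fun x : ↥d.U => (⟨x, d.U_le x.2⟩ : ↥K))) fun k _ hk => ?_, Finset.sum_image hinj.injOn]
    · exact Finset.sum_congr rfl fun x _ => by rw [pos]; congr 2; group
    by_contra hne
    obtain ⟨hF0, hφk⟩ := mul_ne_zero_iff.1 hne
    have hs := d.conj_support (pow_mem d.r_mem_N (i : ℕ)) (d.mem_support_of_ne hψ hF0)
    rw [show d.r ^ (i : ℕ) * ((d.r ^ (i : ℕ))⁻¹ * (t * (k : G)) * d.r ^ (i : ℕ)) * (d.r ^ (i : ℕ))⁻¹ =
      t * k by group] at hs
    obtain ⟨v, hv, x, hx, e, -⟩ := hs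
    have htv : t * v ∈ K := by
      have h1 : t * v = (k : G) * x⁻¹ := by
        calc t * v = t * (v * x) * x⁻¹ := by group
          _ = t * (t * k) * x⁻¹ := by rw [e]
          _ = (t * t) * k * x⁻¹ := by group
          _ = _ := by rw [d.t_sq, one_mul]
      rw [h1]
      exact mul_mem k.2 (inv_mem (d.U_le hx))
    rcases hv with h | h | h | h
    · exact d.t_not_mem (by rwa [h, mul_one] at htv)
    · rw [h] at e
      exact hk (Finset.mem_image.2 ⟨⟨x, hx⟩, Finset.mem_univ _,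
        Subtype.ext (mul_left_cancel e).symm⟩)
    · exact d.ts_not_mem (by rwa [h] at htv)
    · rw [h, mul_assoc] at e
      have hkx := mul_left_cancel e
      refine hφk ?_
      rw [hφ0 k ?_, map_zero]
      rw [hkx, ← Nat.even_iff.trans (Nat.dvd_iff_mod_eq_zero).symm]
      by_contra hev
      obtain ⟨j, hj⟩ := Nat.not_even_iff_odd.1 hev
      have h1 := pow_orderOf_eq_one (d.s * x)
      rw [(d.U_s x hx).mul_pow] at h1
      have h2 : d.s ^ orderOf (d.s * x) = d.s := by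
        rw [hj, pow_succ, pow_mul, pow_two, d.s_sq, one_pow, one_mul]
      rw [h2] at h1
      exact d.s_ne_one (d.disjoint_V_U d.s_mem_V (by
        rw [eq_inv_of_mul_eq_one_left h1]; exact inv_mem (pow_mem hx _)))
  have hcard : (Fintype.card ↥C : ℂ) = 2 * Nat.card ↥K := by
    rw [← Nat.card_eq_fintype_card, hC, sec_card d.split d.ord]; push_cast; rfl
  have hN : (Nat.card ↥K : ℂ) ≠ 0 := Nat.cast_ne_zero.2 Nat.card_pos.ne'
  calc secCoeff t K (Cfsg.indFun H ψ) φ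
      = (Nat.card ↥K : ℂ)⁻¹ * (Nat.card ↥H : ℂ)⁻¹ *
          ∑ k : ↥K, (∑ y : G, F (y⁻¹ * (t * (k : G)) * y)) * conj (φ k) := by
        simp only [secCoeff, Cfsg.classInner, Cfsg.indFun, Finset.mul_sum, ← hF]
        refine Finset.sum_congr rfl fun k _ => ?_
        rw [Finset.sum_mul, Finset.sum_mul, Finset.mul_sum, Finset.mul_sum]
        exact Finset.sum_congr rfl fun y _ => by ring
    _ = (Nat.card ↥K : ℂ)⁻¹ * (Nat.card ↥H : ℂ)⁻¹ * ∑ k : ↥K, (∑ i : Fin 3, ∑ c : ↥C,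
          F ((d.r ^ (i : ℕ))⁻¹ * ((c : G)⁻¹ * (t * (k : G)) * c) * d.r ^ (i : ℕ))) * conj (φ k) := by
        congr 1
        refine Finset.sum_congr rfl fun k _ => ?_
        by_cases hk : φ k = 0
        · simp [hk]
        · rw [hG k hk]
    _ = (Nat.card ↥K : ℂ)⁻¹ * (Nat.card ↥H : ℂ)⁻¹ * ∑ i : Fin 3, ∑ c : ↥C,
          ∑ x : ↥d.U, F (d.pos i * ((d.r ^ (i : ℕ))⁻¹ * x * d.r ^ (i : ℕ))) *
            conj (φ ⟨x, d.U_le x.2⟩) := by
        congr 1
        simp only [Finset.sum_mul]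
        rw [Finset.sum_comm]
        refine Finset.sum_congr rfl fun i _ => ?_
        rw [Finset.sum_comm]
        exact Finset.sum_congr rfl fun c _ => (hK i c).trans (hU i)
    _ = _ := by
        simp only [Finset.sum_const, Finset.card_univ, nsmul_eq_mul, hcard, ← Finset.mul_sum]
        field_simp

omit hψ in
theorem card_conj_eq (b : G) : Nat.card {q : G // q * t * q⁻¹ = b} =
    if orderOf b = 2 then Nat.card ↥(centralizer ({t} : Set G)) else 0 := by
  split_ifs with hb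
  · obtain ⟨c, hc⟩ := isConj_iff.1 (d.one_class b hb)
    refine Nat.card_congr
      { toFun := fun q => ⟨c⁻¹ * q, mem_centralizer_singleton_iff.2 ?_⟩
        invFun := fun e => ⟨c * e, ?_⟩
        left_inv := fun q => Subtype.ext (mul_inv_cancel_left _ _)
        right_inv := fun e => Subtype.ext (inv_mul_cancel_left _ _) }
    · calc c⁻¹ * (q : G) * t = c⁻¹ * ((q : G) * t * (q : G)⁻¹) * q := by group
        _ = c⁻¹ * (c * t * c⁻¹) * q := by rw [q.2, hc]
        _ = t * (c⁻¹ * q) := by group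
    · have he : (e : G) * t = t * e := mem_centralizer_singleton_iff.1 e.2
      calc c * (e : G) * t * (c * (e : G))⁻¹ = c * ((e : G) * t) * (e : G)⁻¹ * c⁻¹ := by group
        _ = c * (t * e) * (e : G)⁻¹ * c⁻¹ := by rw [he]
        _ = c * t * c⁻¹ := by group
        _ = b := hc
  · haveI : IsEmpty {q : G // q * t * q⁻¹ = b} :=
      ⟨fun q => hb (by rw [← q.2, Involutions.Basic.orderOf_conj_eq, d.ord])⟩
    exact Nat.card_of_isEmpty

omit hψ in
theorem sum_pairs (h : G) :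
    ∑ p : G, (Nat.card {q : G // h⁻¹ * (p * t * p⁻¹) * (q * t * q⁻¹) = 1} : ℂ) =
      (Nat.card ↥(centralizer ({t} : Set G)) : ℂ) ^ 2 * invPairs h := by
  classical
  set n : ℕ := Nat.card ↥(centralizer ({t} : Set G)) with hn
  have hsecond : ∀ p : G, Nat.card {q : G // h⁻¹ * (p * t * p⁻¹) * (q * t * q⁻¹) = 1} =
      if orderOf (p * t * p⁻¹ * h) = 2 then n else 0 := by
    intro p
    rw [hn, ← d.card_conj_eq]
    refine Nat.card_congr (Equiv.subtypeEquivRight fun q => ?_)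
    have hinv : (p * t * p⁻¹)⁻¹ = p * t * p⁻¹ := inv_eq_of_mul_eq_one_right (by
      calc p * t * p⁻¹ * (p * t * p⁻¹) = p * (t * t) * p⁻¹ := by group
        _ = 1 := by rw [d.t_sq, mul_one, mul_inv_cancel])
    constructor
    · intro e
      rw [eq_inv_of_mul_eq_one_right e, mul_inv_rev, hinv, inv_inv]
    · intro e
      rw [e, show h⁻¹ * (p * t * p⁻¹) * (p * t * p⁻¹ * h) =
        h⁻¹ * ((p * t * p⁻¹) * (p * t * p⁻¹)) * h by group]
      nth_rewrite 1 [← hinv]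
      rw [inv_mul_cancel, mul_one, inv_mul_cancel]
  calc ∑ p : G, (Nat.card {q : G // h⁻¹ * (p * t * p⁻¹) * (q * t * q⁻¹) = 1} : ℂ)
      = ((∑ p : G, if orderOf (p * t * p⁻¹ * h) = 2 then n else 0 : ℕ) : ℂ) := by
        rw [Nat.cast_sum]
        exact Finset.sum_congr rfl fun p _ => by rw [hsecond p]
    _ = ((∑ b : G, if orderOf b = 2 ∧ orderOf (b * h) = 2 then n * n else 0 : ℕ) : ℂ) := by
        congr 1
        rw [← Finset.sum_fiberwise Finset.univ (fun p : G => p * t * p⁻¹)]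
        refine Finset.sum_congr rfl fun b _ => ?_
        rw [Finset.sum_congr rfl fun p hp => by rw [(Finset.mem_filter.1 hp).2],
          Finset.sum_const, smul_eq_mul, ← Fintype.card_subtype, ← Nat.card_eq_fintype_card,
          d.card_conj_eq, ← hn]
        by_cases h1 : orderOf b = 2 <;> by_cases h2 : orderOf (b * h) = 2 <;> simp [h1, h2]
    _ = _ := by
        rw [← Finset.sum_filter, Finset.sum_const, smul_eq_mul, ← Fintype.card_subtype,
          ← Nat.card_eq_fintype_card, invPairs]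
        push_cast
        ring

/-- The class equation. -/
theorem sum_classInner_sq [Fintype ↥H] [Fintype (Cfsg.IrrCharacter G)] :
    ∑ χ : Cfsg.IrrCharacter G,
        Cfsg.classInner (Cfsg.indFun H ψ) χ * (χ : G → ℂ) t ^ 2 / (χ : G → ℂ) 1 =
      (Nat.card ↥(centralizer ({t} : Set G)) : ℂ) ^ 2 / (Nat.card G * Nat.card ↥H) *
        ∑ h : ↥H, ψ h * invPairs (h : G) := by
  have hG : (Nat.card G : ℂ) ≠ 0 := Nat.cast_ne_zero.2 Nat.card_pos.ne'
  have e1 : ∀ χ : Cfsg.IrrCharacter G, Cfsg.classInner (Cfsg.indFun H ψ) χ =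
      (Nat.card ↥H : ℂ)⁻¹ * ∑ h : ↥H, ψ h * (χ : G → ℂ) (h : G)⁻¹ := fun χ => by
    rw [frobenius_reciprocity H ψ (Characters.Basic.isClassFunction_irr χ), Cfsg.classInner]
    simp only [Characters.Basic.apply_inv (Characters.Basic.isCharacter_irr χ)]
  have e2 : ∀ h : ↥H, ∑ χ : Cfsg.IrrCharacter G,
      (χ : G → ℂ) (h : G)⁻¹ * (χ : G → ℂ) t ^ 2 / (χ : G → ℂ) 1 =
      (Nat.card G : ℂ)⁻¹ *
        ((Nat.card ↥(centralizer ({t} : Set G)) : ℂ) ^ 2 * invPairs (h : G)) := fun h => by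
    rw [← d.sum_pairs, GorensteinWalter.Four.card_pairs, inv_mul_cancel_left₀ hG]
  simp only [e1, Finset.mul_sum, Finset.sum_mul, Finset.sum_div]
  rw [Finset.sum_comm]
  refine Finset.sum_congr rfl fun h _ => ?_
  calc ∑ χ : Cfsg.IrrCharacter G,
        (Nat.card ↥H : ℂ)⁻¹ * (ψ h * (χ : G → ℂ) (h : G)⁻¹) * (χ : G → ℂ) t ^ 2 / (χ : G → ℂ) 1
      = (Nat.card ↥H : ℂ)⁻¹ * ψ h * ∑ χ : Cfsg.IrrCharacter G,
          (χ : G → ℂ) (h : G)⁻¹ * (χ : G → ℂ) t ^ 2 / (χ : G → ℂ) 1 := by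
        rw [Finset.mul_sum]
        exact Finset.sum_congr rfl fun χ _ => by ring
    _ = _ := by rw [e2]; field_simp

end Cfsg.Agent.Lib.JankoThompson.GSide.TorusData
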