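import Cfsg.Agent.Lib.JankoThompson.GSide.TorusFun
import Cfsg.Agent.Lib.JankoThompson.GSide.Proj
import Cfsg.Agent.Lib.JankoThompson.Shapes

/-!
# Janko–Thompson: the projective functions of `K` on the torus

The functions `Ind ((±1) (1 - θ))` from `⟨s⟩ × U` to `K` have norm three.  Their coefficients at the
principal block are `1, 1, 0, 0` and `0, 0, -1, -1`: the other patterns fail at an involution or give
a character whose central character at it is not integral.  Hence the sums of `(1 - θ) ḡ` over `U`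
are `0, -2 |U|, -2 |U|`; `exists_sep_torus` exports this with the separated functions.

Owner: helper66.
-/

set_option autoImplicit false
set_option linter.style.haveILetI false
set_option linter.unusedSectionVars false

universe u

namespace Cfsg.Agent.Lib.JankoThompson.GSide.TorusData

open Subgroup Cfsg.Agent.Lib.Induced.Basic Cfsg.Agent.Lib.Walter.NoField
  Cfsg.Agent.Lib.Characters.Linear
open scoped ComplexConjugate Classical

variable {G : Type u} [Group G] {t : G} {K : Subgroup G} (d : TorusData t K)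

include d

theorem two_dvd_s_mul {x : G} (hx : x ∈ d.U) : 2 ∣ orderOf (d.s * x) := by
  by_contra h
  obtain ⟨j, hj⟩ : Odd (orderOf (d.s * x)) := Nat.odd_iff.2 (by omega)
  have h1 := pow_orderOf_eq_one (d.s * x)
  rw [(d.U_s x hx).mul_pow] at h1
  have h2 : d.s ^ orderOf (d.s * x) = d.s := by
    rw [hj, pow_succ, pow_mul, pow_two, d.s_sq, one_pow, one_mul]
  rw [h2] at h1
  exact d.s_ne_one (d.disjoint_V_U d.s_mem_V (by
    rw [eq_inv_of_mul_eq_one_left h1]; exact inv_mem (pow_mem hx _)))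

/-- An element of the support is no involution. -/
theorem sq_ne_one_of_support {g : G} (hg : g ∈ d.support) : g * g ≠ 1 := by
  intro h
  obtain ⟨k, hk, hk1⟩ := d.exists_pow hg
  refine hk1 (d.eq_one_of_sq (d.T_le (d.T₀_le hk)) ?_)
  rw [← pow_add, ← two_mul, pow_mul, pow_two, h, one_pow]

/-- `⟨s⟩ × U` inside `K`. -/
def H₁ : Subgroup ↥K := d.H₀.subgroupOf K

/-- The inclusion of `⟨s⟩ × U` in `H₀`. -/
def incl : ↥d.H₁ →* ↥d.H₀ where
  toFun h := ⟨((h : ↥K) : G), mem_subgroupOf.1 h.2⟩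
  map_one' := rfl
  map_mul' _ _ := rfl

theorem coe_incl (h : ↥d.H₁) : (d.incl h : G) = ((h : ↥K) : G) := rfl

/-- The element `sᵇ x`. -/
noncomputable def kPair (q : Bool × ↥d.U) : ↥d.H₁ :=
  ⟨⟨(if q.1 then d.s else 1) * q.2, mul_mem (by split <;> first | exact d.s_mem | exact one_mem _)
      (d.U_le q.2.2)⟩,
    mem_subgroupOf.2 (mul_mem (d.V_le_H₀ (by split <;> first | exact d.s_mem_V | exact one_mem _))
      (d.U_le_H₀ q.2.2))⟩

theorem kPair_bijective : Function.Bijective d.kPair := by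
  constructor
  · rintro ⟨b, x⟩ ⟨b', x'⟩ e
    have e' : (if b then d.s else 1) * (x : G) = (if b' then d.s else 1) * (x' : G) :=
      congrArg (fun z : ↥d.H₁ => ((z : ↥K) : G)) e
    have h := d.emb_injective (a₁ := (⟨if b then d.s else 1, by
        split <;> first | exact d.s_mem_V | exact one_mem _⟩, x))
      (a₂ := (⟨if b' then d.s else 1, by split <;> first | exact d.s_mem_V | exact one_mem _⟩, x')) e'
    obtain ⟨h1, h2⟩ := Prod.ext_iff.1 h
    have h1' := congrArg (fun z : ↥d.V => (z : G)) h1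
    refine Prod.ext ?_ h2
    cases b <;> cases b' <;> simp [d.s_ne_one, d.s_ne_one.symm] at h1' ⊢
  · intro h
    obtain ⟨v, hv, x, hx, e⟩ := d.mem_H₀.1 (mem_subgroupOf.1 h.2)
    have hvK : v ∈ K := by
      rw [show v = ((h : ↥K) : G) * x⁻¹ by rw [e, mul_inv_cancel_right]]
      exact mul_mem (h : ↥K).2 (inv_mem (d.U_le hx))
    rcases hv with ev | ev | ev | ev
    · exact ⟨(false, ⟨x, hx⟩), Subtype.ext (Subtype.ext (by simp [kPair, e, ev]))⟩
    · exact absurd (ev ▸ hvK) d.t_not_mem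
    · exact ⟨(true, ⟨x, hx⟩), Subtype.ext (Subtype.ext (by simp [kPair, e, ev]))⟩
    · exact absurd (ev ▸ hvK) d.ts_not_mem

theorem sum_H₁ {R : Type*} [AddCommMonoid R] [Fintype ↥d.H₁] [Fintype ↥d.U] (F : ↥d.H₁ → R) :
    ∑ h : ↥d.H₁, F h = ∑ x : ↥d.U, F (d.kPair (false, x)) + ∑ x : ↥d.U, F (d.kPair (true, x)) := by
  rw [← Fintype.sum_equiv (Equiv.ofBijective _ d.kPair_bijective) (fun q => F (d.kPair q)) F
    (fun q => rfl), Fintype.sum_prod_type, Fintype.sum_bool, add_comm]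

theorem card_H₁ : Nat.card ↥d.H₁ = 2 * Nat.card ↥d.U := by
  rw [← Nat.card_congr (Equiv.ofBijective _ d.kPair_bijective), Nat.card_prod,
    show Nat.card Bool = 2 by simp]

/-- `±(1 - θ)` on `⟨s⟩ × U`. -/
noncomputable def kPsi (ρ : ↥d.V →* ℂˣ) (θ : ↥d.U →* ℂˣ) : ↥d.H₁ → ℂ :=
  fun h => d.psi ρ 1 θ (d.incl h)

theorem kPsi_pair (ρ : ↥d.V →* ℂˣ) (θ : ↥d.U →* ℂˣ) (b : Bool) (x : ↥d.U) :
    d.kPsi ρ θ (d.kPair (b, x)) = (if b then (ρ ⟨d.s, d.s_mem_V⟩ : ℂ) else 1) * (1 - (θ x : ℂ)) := by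
  cases b
  · rw [kPsi, d.psi_apply ρ 1 θ (v := 1) (x := x) (by simp [coe_incl, kPair])]
    simp
  · rw [kPsi, d.psi_apply ρ 1 θ (v := ⟨d.s, d.s_mem_V⟩) (x := x) (by simp [coe_incl, kPair])]
    simp

theorem rho_s : d.rho ⟨d.s, d.s_mem_V⟩ = -1 := by
  have : (⟨d.s, d.s_mem_V⟩ : ↥d.V) = d.posV 2 := Subtype.ext d.pos_two.symm
  rw [this, d.rho_pos_ne (by decide)]

variable [Fintype G] [Fintype ↥K]

/-- The induced function on `K`. -/
noncomputable def kFun (ρ : ↥d.V →* ℂˣ) (θ : ↥d.U →* ℂˣ) : ↥K → ℂ :=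
  Cfsg.indFun d.H₁ (d.kPsi ρ θ)

theorem isGen_kFun (ρ : ↥d.V →* ℂˣ) (θ : ↥d.U →* ℂˣ) :
    Cfsg.IsGeneralizedCharacter ↥K (d.kFun ρ θ) := by
  refine Induced.Character.isGeneralizedCharacter_indFun d.H₁ ?_
  have e : d.kPsi ρ θ = (linChar ((d.lin ρ 1).comp d.incl) : ↥d.H₁ → ℂ) -
      (linChar ((d.lin ρ (1 * θ)).comp d.incl) : ↥d.H₁ → ℂ) := rfl
  rw [e]
  exact Induced.Generalized.isGen_sub (Induced.Generalized.of_irr _) (Induced.Generalized.of_irr _)

theorem kFun_eq_zero {θ : ↥d.U →* ℂˣ} (hθ : d.IsTheta θ) (ρ : ↥d.V →* ℂˣ) {k : ↥K}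
    (hk : k * k = 1) : d.kFun ρ θ k = 0 := by
  simp only [kFun, Cfsg.indFun]
  rw [Finset.sum_eq_zero, mul_zero]
  intro y _
  by_contra hne
  by_cases hy : y⁻¹ * k * y ∈ d.H₁
  · rw [extendByZero_of_mem d.H₁ _ hy] at hne
    refine d.sq_ne_one_of_support (hθ.support_of_ne ρ 1 _ hne) ?_
    have h2 : y⁻¹ * k * y * (y⁻¹ * k * y) = 1 := by
      calc y⁻¹ * k * y * (y⁻¹ * k * y) = y⁻¹ * (k * k) * y := by group
        _ = 1 := by rw [hk, mul_one, inv_mul_cancel]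
    exact congrArg (fun z : ↥K => (z : G)) h2
  · exact hne (extendByZero_of_not_mem d.H₁ _ hy)

theorem kFun_support {θ : ↥d.U →* ℂˣ} (hθ : d.IsTheta θ) (ρ : ↥d.V →* ℂˣ) (h : ↥d.H₁)
    (hh : ((h : ↥K) : G) ∈ d.support) :
    d.kFun ρ θ h = d.kPsi ρ θ h + d.kPsi ρ θ⁻¹ h := by
  simp only [kFun, Cfsg.indFun]
  letI := Fintype.ofFinite ↥d.H₁
  have hwpow : ∀ b : Bool, (if b then d.w else 1) ∈ K := fun b => by
    split <;> first | exact d.w_mem | exact one_mem _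
  obtain ⟨f, hf⟩ : ∃ f : Bool × ↥d.H₁ → ↥K, ∀ q, f q = (q.2 : ↥K) * ⟨_, hwpow q.1⟩ :=
    ⟨fun q => (q.2 : ↥K) * ⟨_, hwpow q.1⟩, fun q => rfl⟩
  have hrep : ∀ b : Bool, (if b then d.w else 1) = d.rep (b, 0) := fun b => by simp [rep]
  have hinj : Function.Injective f := by
    rintro ⟨b, a⟩ ⟨b', a'⟩ e
    have e' : ((a : ↥K) : G) * d.rep (b, 0) = ((a' : ↥K) : G) * d.rep (b', 0) := by
      rw [hf, hf] at e
      rw [← hrep, ← hrep]
      exact congrArg (fun z : ↥K => (z : G)) e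
    obtain ⟨h1, h2⟩ := d.rep_injective (mem_subgroupOf.1 a.2) (mem_subgroupOf.1 a'.2) e'
    exact Prod.ext (Prod.ext_iff.1 h2).1 (Subtype.ext (Subtype.ext h1))
  have hterm : ∀ q : Bool × ↥d.H₁,
      Cfsg.extendByZero d.H₁ (d.kPsi ρ θ) ((f q)⁻¹ * (h : ↥K) * f q) =
        if q.1 then d.kPsi ρ θ⁻¹ h else d.kPsi ρ θ h := by
    rintro ⟨b, a⟩
    obtain ⟨z, hz⟩ : ∃ z : ↥d.H₀, z = d.conjRep (b, 0) ((d.incl a)⁻¹ * d.incl h * d.incl a) :=
      ⟨_, rfl⟩
    have hzG : (((f (b, a))⁻¹ * (h : ↥K) * f (b, a) : ↥K) : G) = (z : G) := by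
      rw [hz, hf]
      show _ = (d.rep (b, 0))⁻¹ * _ * d.rep (b, 0)
      simp only [Subgroup.coe_mul, Subgroup.coe_inv, coe_incl, ← hrep]
      group
    have hm : (f (b, a))⁻¹ * (h : ↥K) * f (b, a) ∈ d.H₁ := mem_subgroupOf.2 (hzG ▸ z.2)
    rw [extendByZero_of_mem d.H₁ _ hm, kPsi,
      show d.incl ⟨_, hm⟩ = z from Subtype.ext hzG]
    have e : ∀ (ν : ↥d.U →* ℂˣ),
        d.lin ρ ν z = d.lin (ρ.comp (d.actV 0))
          (if b then ν.comp ((d.actU 0).comp d.wU) else ν.comp (d.actU 0)) (d.incl h) := fun ν => by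
      rw [← d.lin_comp_conjRep, hz, MonoidHom.comp_apply]
      simp only [map_mul, map_inv]
      rw [mul_comm ((d.lin ρ ν (d.conjRep (b, 0) (d.incl a)))⁻¹), inv_mul_cancel_right]
    simp only [psi, Pi.sub_apply, e, d.actV_zero, d.actU_zero, MonoidHom.comp_id, MonoidHom.id_comp]
    cases b
    · simp [kPsi, psi]
    · have e1 : (1 : ↥d.U →* ℂˣ).comp d.wU = 1 := MonoidHom.one_comp _
      have e2 : ((1 : ↥d.U →* ℂˣ) * θ).comp d.wU = 1 * θ⁻¹ := MonoidHom.ext fun x => by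
        simp [hθ.inv]
      simp [kPsi, psi, e1, e2]
  rw [← Finset.sum_subset (Finset.subset_univ (Finset.univ.image f)) fun k _ hk => ?_,
    Finset.sum_image hinj.injOn]
  · simp only [hterm, Fintype.sum_prod_type, Fintype.sum_bool, if_true, Bool.false_eq_true, if_false,
      Finset.sum_const, Finset.card_univ, nsmul_eq_mul, ← Nat.card_eq_fintype_card]
    have hH : (Nat.card ↥d.H₁ : ℂ) ≠ 0 := subgroup_card_ne_zero d.H₁
    field_simp
    ring
  · by_contra hne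
    have hs : ((k⁻¹ * (h : ↥K) * k : ↥K) : G) ∈ d.support := by
      by_cases hy : k⁻¹ * (h : ↥K) * k ∈ d.H₁
      · rw [extendByZero_of_mem d.H₁ _ hy] at hne
        exact hθ.support_of_ne ρ 1 _ hne
      · exact absurd (extendByZero_of_not_mem d.H₁ _ hy) hne
    have hN : (k : G) ∈ d.N := by
      refine inv_mem_iff.1 (d.fusion hh ?_)
      rw [inv_inv]
      simpa only [Subgroup.coe_mul, Subgroup.coe_inv] using hs
    obtain ⟨a, ha, ⟨b, i⟩, e⟩ := d.exists_rep hN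
    have hi : i = 0 := by
      refine d.pos_injective ?_
      rw [← d.conj_t_rep ha (b, i), ← e, d.pos_zero, (d.comm_t k.2).symm.inv_left.eq,
        inv_mul_cancel_right]
    subst hi
    rw [← hrep] at e
    have haK : a ∈ K := by
      rw [show a = (k : G) * (if b then d.w else 1)⁻¹ by rw [e, mul_inv_cancel_right]]
      exact mul_mem k.2 (inv_mem (hwpow b))
    refine hk (Finset.mem_image.2 ⟨(b, ⟨⟨a, haK⟩, mem_subgroupOf.2 ha⟩), Finset.mem_univ _, ?_⟩)
    rw [hf]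
    exact Subtype.ext e.symm

/-- Norm three. -/
theorem norm_kFun {θ : ↥d.U →* ℂˣ} (hθ : d.IsTheta θ) (ρ : ↥d.V →* ℂˣ) :
    Cfsg.classInner (d.kFun ρ θ) (d.kFun ρ θ) = 3 := by
  letI := Fintype.ofFinite ↥d.H₁
  have h1 : Cfsg.classInner (d.kFun ρ θ) (d.kFun ρ θ) =
      Cfsg.classInner (d.kPsi ρ θ) (d.kPsi ρ θ + d.kPsi ρ θ⁻¹) := by
    rw [kFun, frobenius_reciprocity d.H₁ _ (isClassFunction_indFun _ _)]
    simp only [Cfsg.classInner]
    congr 1
    refine Finset.sum_congr rfl fun h _ => ?_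
    by_cases h0 : d.kPsi ρ θ h = 0
    · simp [h0]
    · have := d.kFun_support hθ ρ h (hθ.support_of_ne ρ 1 (d.incl h) h0)
      rw [kFun] at this
      rw [this, Pi.add_apply]
  have hinj : ∀ ν ν' : ↥d.U →* ℂˣ,
      (d.lin ρ ν).comp d.incl = (d.lin ρ ν').comp d.incl ↔ ν = ν' := fun ν ν' => by
    refine ⟨fun h => MonoidHom.ext fun x => ?_, fun h => h ▸ rfl⟩
    have := DFunLike.congr_fun h (d.kPair (false, x))
    rwa [MonoidHom.comp_apply, MonoidHom.comp_apply,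
      d.lin_apply ρ ν (v := 1) (x := x) (by simp [coe_incl, kPair]),
      d.lin_apply ρ ν' (v := 1) (x := x) (by simp [coe_incl, kPair]), map_one, one_mul, one_mul] at this
  have hlin : ∀ A B : ↥d.H₁ →* ℂˣ,
      Cfsg.classInner (fun h => (A h : ℂ)) (fun h => (B h : ℂ)) = if A = B then 1 else 0 := by
    intro A B
    have := Characters.Basic.classInner_irr (linChar A) (linChar B)
    simp only [linChar_injective.eq_iff] at this
    exact this
  have e : ∀ η : ↥d.U →* ℂˣ, d.kPsi ρ η = (fun h => (((d.lin ρ 1).comp d.incl) h : ℂ)) -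
      fun h => (((d.lin ρ (1 * η)).comp d.incl) h : ℂ) := fun η => rfl
  have hne : ∀ η : ↥d.U →* ℂˣ, η ≠ 1 → (1 : ↥d.U →* ℂˣ) ≠ 1 * η := fun η hη h => hη
    (MonoidHom.ext fun x => by simpa using (DFunLike.congr_fun h x).symm)
  have hne' : (1 : ↥d.U →* ℂˣ) * θ ≠ 1 * θ⁻¹ := fun h =>
    hθ.ne_one (IsTheta.eq_one_of_inv_eq (MonoidHom.ext fun x => by
      simpa using DFunLike.congr_fun h x))
  rw [h1, e, e, classInner_sub_left, classInner_add_right, classInner_add_right, classInner_sub_right,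
    classInner_sub_right, classInner_sub_right, classInner_sub_right]
  simp only [hlin, hinj, if_true, if_neg (hne _ hθ.ne_one), if_neg (hne _ hθ.ne_one).symm,
    if_neg (hne _ hθ.inv'.ne_one), if_neg hne']
  norm_num

/-- The difference of the two functions against a function equal to one on `s U`. -/
theorem inner_kFun_diff {θ : ↥d.U →* ℂˣ} (hθ : d.IsTheta θ) {y : ↥K → ℂ}
    (hy : Cfsg.IsClassFunction ↥K y) (hys : ∀ x : ↥d.U, y (d.kPair (true, x)) = 1) :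
    Cfsg.classInner (d.kFun 1 θ) y - Cfsg.classInner (d.kFun d.rho θ) y = 1 := by
  letI := Fintype.ofFinite ↥d.H₁
  letI := Fintype.ofFinite ↥d.U
  rw [kFun, kFun, frobenius_reciprocity d.H₁ _ hy, frobenius_reciprocity d.H₁ _ hy, Cfsg.classInner,
    Cfsg.classInner, ← mul_sub, ← Finset.sum_sub_distrib, d.sum_H₁, d.card_H₁]
  simp only [d.kPsi_pair, MonoidHom.one_apply, Units.val_one, d.rho_s, Bool.false_eq_true, if_false,
    sub_self, Finset.sum_const_zero, zero_add, if_true, hys, map_one, one_mul, mul_one, Units.val_neg,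
    Finset.sum_sub_distrib, ← Finset.mul_sum, sum_hom_eq_zero hθ.ne_one, Finset.sum_const,
    Finset.card_univ, nsmul_eq_mul, ← Nat.card_eq_fintype_card]
  have hU : (Nat.card ↥d.U : ℂ) ≠ 0 := subgroup_card_ne_zero d.U
  push_cast
  field_simp
  ring

/-- A function vanishing on `s U`. -/
theorem inner_kFun_proj [Fintype ↥d.U] (θ : ↥d.U →* ℂˣ) {g : ↥K → ℂ}
    (hg : Cfsg.IsClassFunction ↥K g) (hgs : ∀ x : ↥d.U, g (d.kPair (true, x)) = 0) :
    Cfsg.classInner (d.kFun 1 θ) g =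
      (2 * (Nat.card ↥d.U : ℂ))⁻¹ * ∑ x : ↥d.U, (1 - (θ x : ℂ)) * conj (g ⟨x, d.U_le x.2⟩) := by
  letI := Fintype.ofFinite ↥d.H₁
  rw [kFun, frobenius_reciprocity d.H₁ _ hg, Cfsg.classInner, d.sum_H₁, d.card_H₁]
  simp only [hgs, map_zero, mul_zero, Finset.sum_const_zero, add_zero, d.kPsi_pair,
    Bool.false_eq_true, if_false, one_mul]
  push_cast
  congr 1
  refine Finset.sum_congr rfl fun x _ => ?_
  congr 3
  exact Subtype.ext (by simp [kPair])

theorem inner_kFun_one {θ : ↥d.U →* ℂˣ} (hθ : d.IsTheta θ) :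
    Cfsg.classInner (d.kFun 1 θ) (fun _ => 1) = 1 := by
  letI := Fintype.ofFinite ↥d.H₁
  letI := Fintype.ofFinite ↥d.U
  rw [kFun, frobenius_reciprocity d.H₁ _ (fun _ _ => rfl), Cfsg.classInner, d.sum_H₁, d.card_H₁]
  simp only [d.kPsi_pair, MonoidHom.one_apply, Units.val_one, Bool.false_eq_true, if_false, if_true,
    map_one, one_mul, mul_one, Finset.sum_sub_distrib, sum_hom_eq_zero hθ.ne_one, Finset.sum_const,
    Finset.card_univ, nsmul_eq_mul, ← Nat.card_eq_fintype_card, sub_zero]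
  have hU : (Nat.card ↥d.U : ℂ) ≠ 0 := subgroup_card_ne_zero d.U
  push_cast
  field_simp
  ring

/-- The sums of `(1 - θ) ḡ` over `U`. -/
theorem quad_sum [Fintype ↥d.U] {Q : ℤ} {c : ℕ} {M : Ideal Cfsg.AlgInt} (D : Quad M ↥K Q)
    (h : KleinPart K Q c) (hQ : 4 < |Q + 1|) {θ : ↥d.U →* ℂˣ} (hθ : d.IsTheta θ) (i : Fin 3) :
    ∑ x : ↥d.U, (1 - (θ x : ℂ)) * conj (D.g i ⟨x, d.U_le x.2⟩) =
      (if i = 0 then 0 else -2) * (Nat.card ↥d.U : ℂ) := by
  letI := Fintype.ofFinite (Cfsg.IrrCharacter ↥K)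
  set J : ↥K := ⟨d.s, d.s_mem⟩ with hJdef
  have hJ2 : orderOf J = 2 := by rw [← Subgroup.orderOf_coe]; exact d.s_ord
  have hJJ : J * J = 1 := Subtype.ext d.s_sq
  have heven : ∀ x : ↥d.U, 2 ∣ orderOf ((d.kPair (true, x) : ↥d.H₁) : ↥K) := fun x => by
    rw [← Subgroup.orderOf_coe]
    simpa [kPair] using d.two_dvd_s_mul x.2
  obtain ⟨c₁, hc₁, hf₁, hn₁⟩ := Induced.Generalized.exists_coeff (d.isGen_kFun 1 θ)
  obtain ⟨c₂, hc₂, hf₂, hn₂⟩ := Induced.Generalized.exists_coeff (d.isGen_kFun d.rho θ)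
  rw [d.norm_kFun hθ] at hn₁ hn₂
  have hN₁ : ∑ χ, c₁ χ * c₁ χ = 3 := by simp only [← pow_two]; exact_mod_cast hn₁.symm
  have hN₂ : ∑ χ, c₂ χ * c₂ χ = 3 := by simp only [← pow_two]; exact_mod_cast hn₂.symm
  -- the coefficients at the block
  have hdiff : ∀ j, c₁ (D.θ j) - c₂ (D.θ j) = D.e j := by
    intro j
    have := d.inner_kFun_diff hθ (y := (D.e j : ℂ) • (D.θ j : ↥K → ℂ))
      (fun a b => by simp only [Pi.smul_apply, Characters.Basic.isClassFunction_irr _ a b])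
      (fun x => by rw [Pi.smul_apply, smul_eq_mul]; exact D.even _ (heven x) j)
    rw [classInner_smul_right, classInner_smul_right, map_intCast, hc₁, hc₂] at this
    have h' : D.e j * (c₁ (D.θ j) - c₂ (D.θ j)) = 1 := by
      apply Int.cast_injective (α := ℂ)
      push_cast
      linear_combination this
    rcases D.sign j with s | s <;> rw [s] at h' ⊢ <;> linarith
  have h00 : c₁ (D.θ 0) = 1 := by
    have := d.inner_kFun_one hθ
    rw [show (fun _ : ↥K => (1 : ℂ)) = (D.θ 0 : ↥K → ℂ) by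
      rw [D.θ_zero]; funext k; exact (Characters.Basic.oneChar_apply k).symm, hc₁] at this
    exact_mod_cast this
  obtain ⟨a, ha⟩ : ∃ a : Fin 4 → ℤ, ∀ j, a j = D.e j * c₁ (D.θ j) := ⟨_, fun j => rfl⟩
  have hee : ∀ j, D.e j * D.e j = 1 := fun j => by rcases D.sign j with s | s <;> rw [s] <;> rfl
  have hc₁a : ∀ j, c₁ (D.θ j) = D.e j * a j := fun j => by rw [ha, ← mul_assoc, hee, one_mul]
  have hc₂a : ∀ j, c₂ (D.θ j) = D.e j * (a j - 1) := fun j => by
    rw [mul_sub, ← hc₁a, mul_one]; linarith [hdiff j]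
  have ha0 : a 0 = 1 := by rw [ha, h00, D.e_zero, one_mul]
  obtain ⟨B, hB⟩ : ∃ B, B = (Finset.univ : Finset (Fin 4)).image D.θ := ⟨_, rfl⟩
  -- one function and the rest outside the block
  have split : ∀ (f : ↥K → ℂ) (cf : Cfsg.IrrCharacter ↥K → ℤ) (b : Fin 4 → ℤ),
      f = ∑ χ, (cf χ : ℂ) • (χ : ↥K → ℂ) → ∑ χ, cf χ * cf χ = 3 → (∀ j, cf (D.θ j) = D.e j * b j) →
      (∑ j, b j * b j + ∑ χ ∈ Finset.univ \ B, cf χ * cf χ = 3) ∧
      ∀ k, f k = ∑ j, (b j : ℂ) * ((D.e j : ℂ) * (D.θ j : ↥K → ℂ) k) +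
        ∑ χ ∈ Finset.univ \ B, (cf χ : ℂ) * (χ : ↥K → ℂ) k := by
    intro f cf b hf hN hb
    refine ⟨?_, fun k => ?_⟩
    · rw [← hN, ← Finset.sum_sdiff (Finset.subset_univ B), add_comm]
      congr 1
      rw [hB, Finset.sum_image fun x _ y _ e => D.inj e]
      exact Finset.sum_congr rfl fun j _ => by rw [hb]; linear_combination -(b j * b j) * hee j
    · rw [hf]
      simp only [Finset.sum_apply, Pi.smul_apply, smul_eq_mul]
      rw [← Finset.sum_sdiff (Finset.subset_univ B), add_comm]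
      congr 1
      rw [hB, Finset.sum_image fun x _ y _ e => D.inj e]
      exact Finset.sum_congr rfl fun j _ => by rw [hb]; push_cast; ring
  obtain ⟨hs₁, hv₁⟩ := split _ c₁ a hf₁ hN₁ hc₁a
  obtain ⟨hs₂, hv₂⟩ := split _ c₂ (fun j => a j - 1) hf₂ hN₂ hc₂a
  have hout₁ : 0 ≤ ∑ χ ∈ Finset.univ \ B, c₁ χ * c₁ χ :=
    Finset.sum_nonneg fun _ _ => mul_self_nonneg _
  have hout₂ : 0 ≤ ∑ χ ∈ Finset.univ \ B, c₂ χ * c₂ χ :=
    Finset.sum_nonneg fun _ _ => mul_self_nonneg _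
  rw [Fin.sum_univ_four, ha0] at hs₁ hs₂
  have h01 : ∀ j, a j = 0 ∨ a j = 1 := by
    have h1 : a 1 = 0 ∨ a 1 = 1 := by
      by_contra hh
      push Not at hh
      have : a 1 ≤ -1 ∨ 2 ≤ a 1 := by omega
      rcases this with e | e <;> nlinarith [mul_self_nonneg (a 2 - 1), mul_self_nonneg (a 3 - 1),
        mul_self_nonneg (a 2), mul_self_nonneg (a 3)]
    have h2 : a 2 = 0 ∨ a 2 = 1 := by
      by_contra hh
      push Not at hh
      have : a 2 ≤ -1 ∨ 2 ≤ a 2 := by omega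
      rcases this with e | e <;> nlinarith [mul_self_nonneg (a 1 - 1), mul_self_nonneg (a 3 - 1),
        mul_self_nonneg (a 1), mul_self_nonneg (a 3)]
    have h3 : a 3 = 0 ∨ a 3 = 1 := by
      by_contra hh
      push Not at hh
      have : a 3 ≤ -1 ∨ 2 ≤ a 3 := by omega
      rcases this with e | e <;> nlinarith [mul_self_nonneg (a 2 - 1), mul_self_nonneg (a 1 - 1),
        mul_self_nonneg (a 2), mul_self_nonneg (a 1)]
    intro j
    fin_cases j
    exacts [Or.inr ha0, h1, h2, h3]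
  have hJv : ∀ j, (D.e j : ℂ) * (D.θ j : ↥K → ℂ) J = 1 := fun j => D.even J (by rw [hJ2]) j
  have hsq : ∀ j, a j * a j = a j := fun j => by rcases h01 j with e | e <;> rw [e] <;> rfl
  -- exactly one of `a 1, a 2, a 3`
  have hone : a 1 + a 2 + a 3 = 1 := by
    have hle : a 1 + a 2 + a 3 ≤ 2 := by linarith [hsq 1, hsq 2, hsq 3]
    by_contra hne
    rcases (show a 1 + a 2 + a 3 = 0 ∨ a 1 + a 2 + a 3 = 2 by
      rcases h01 1 with e1 | e1 <;> rcases h01 2 with e2 | e2 <;> rcases h01 3 with e3 | e3 <;> omega)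
      with e | e
    · have hz := out_zero (show ∑ χ ∈ Finset.univ \ B, c₂ χ * c₂ χ = 0 by
        linarith [hsq 1, hsq 2, hsq 3])
      have hk := hv₂ J
      rw [d.kFun_eq_zero hθ d.rho hJJ, Finset.sum_eq_zero (s := Finset.univ \ B)
        fun χ hχ => by rw [hz χ hχ, Int.cast_zero, zero_mul], add_zero] at hk
      simp only [hJv, mul_one, ← Int.cast_sum, Fin.sum_univ_four, ha0] at hk
      have : (1 - 1 + (a 1 - 1) + (a 2 - 1) + (a 3 - 1) : ℤ) = 0 := by exact_mod_cast hk.symm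
      omega
    · have hz := out_zero (show ∑ χ ∈ Finset.univ \ B, c₁ χ * c₁ χ = 0 by
        linarith [hsq 1, hsq 2, hsq 3])
      have hk := hv₁ J
      rw [d.kFun_eq_zero hθ 1 hJJ, Finset.sum_eq_zero (s := Finset.univ \ B)
        fun χ hχ => by rw [hz χ hχ, Int.cast_zero, zero_mul], add_zero] at hk
      simp only [hJv, mul_one, ← Int.cast_sum, Fin.sum_univ_four, ha0] at hk
      have : (1 + a 1 + a 2 + a 3 : ℤ) = 0 := by exact_mod_cast hk.symm
      omega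
  have ha1 : a 1 = 1 := by
    rcases h01 1 with e1 | e1
    swap
    · exact e1
    exfalso
    obtain ⟨χ, hχ, hχ1, hz⟩ := out_one (show ∑ χ ∈ Finset.univ \ B, c₁ χ * c₁ χ = 1 by
      linarith [hsq 1, hsq 2, hsq 3])
    have hrest : ∀ k, ∑ ψ ∈ Finset.univ \ B, (c₁ ψ : ℂ) * (ψ : ↥K → ℂ) k =
        (c₁ χ : ℂ) * (χ : ↥K → ℂ) k := fun k => sum_of_one (R := ℂ) hχ hz _
    have hk := hv₁ J
    rw [d.kFun_eq_zero hθ 1 hJJ, hrest] at hk
    simp only [hJv, mul_one, Fin.sum_univ_four, ha0, e1] at hk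
    have h23 : (a 2 : ℂ) + a 3 = 1 := by exact_mod_cast (show a 2 + a 3 = 1 by omega)
    have hvJ : (c₁ χ : ℂ) * (χ : ↥K → ℂ) J = -2 := by push_cast at hk; linear_combination -hk - h23
    have hk1 := hv₁ 1
    rw [d.kFun_eq_zero hθ 1 (one_mul 1), hrest] at hk1
    simp only [D.deg, Fin.sum_univ_four, ha0, e1] at hk1
    have hm : 2 * ((Q - 1) / 2) = Q - 1 := by have := h.Q_mod; omega
    have hmc : (2 : ℂ) * (((Q - 1) / 2 : ℤ) : ℂ) = (Q : ℂ) - 1 := by exact_mod_cast hm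
    have hv1 : (c₁ χ : ℂ) * (χ : ↥K → ℂ) 1 * 2 = -((Q : ℂ) + 1) := by
      simp [quadDeg] at hk1
      push_cast at hk1
      linear_combination -2 * hk1 - hmc - 2 * (((Q - 1) / 2 : ℤ) : ℂ) * h23
    have hint := Blocks.isIntegral_centralChar χ J
    rw [Cfsg.centralChar] at hint
    have hidx : 2 * ((centralizer ({J} : Set ↥K)).index : ℤ) * ((c : ℤ) * |Q + 1|) =
        (c : ℤ) * |Q * (Q ^ 2 - 1)| := by
      rw [← h.card, ← (centralizer ({J} : Set ↥K)).card_mul_index, Nat.cast_mul, h.cent J hJ2]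
      ring
    have hc0 : (c : ℤ) ≠ 0 := by
      have := h.odd_c.pos
      exact_mod_cast this.ne'
    have hidx' : 2 * ((centralizer ({J} : Set ↥K)).index : ℤ) = |Q * (Q - 1)| := by
      have hne : (c : ℤ) * |Q + 1| ≠ 0 := mul_ne_zero hc0 (by omega)
      refine mul_right_cancel₀ hne (hidx.trans ?_)
      rw [show Q * (Q ^ 2 - 1) = Q * (Q - 1) * (Q + 1) by ring, abs_mul]
      ring
    set I : ℕ := (centralizer ({J} : Set ↥K)).index with hI
    have hQ1 : (Q : ℂ) + 1 ≠ 0 := by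
      have : Q + 1 ≠ 0 := fun e => by rw [e, abs_zero] at hQ; omega
      exact_mod_cast this
    have hval : (I : ℂ) * (χ : ↥K → ℂ) J / (χ : ↥K → ℂ) 1 =
        algebraMap ℚ ℂ ((4 * (I : ℤ) : ℤ) / ((Q + 1 : ℤ) : ℚ)) := by
      have hc0' : (c₁ χ : ℂ) ≠ 0 := Int.cast_ne_zero.2 fun e => by rw [e] at hχ1; norm_num at hχ1
      rw [map_div₀, map_intCast, map_intCast,
        div_eq_div_iff (Characters.Basic.apply_one_ne_zero χ) (by exact_mod_cast hQ1)]
      refine mul_left_cancel₀ hc0' ?_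
      push_cast
      linear_combination (I : ℂ) * ((Q : ℂ) + 1) * hvJ - 2 * (I : ℂ) * hv1
    rw [hval, isIntegral_algebraMap_iff (algebraMap ℚ ℂ).injective] at hint
    obtain ⟨w, hw⟩ := IsIntegrallyClosed.isIntegral_iff.mp hint
    have hQq : ((Q + 1 : ℤ) : ℚ) ≠ 0 := by
      have : Q + 1 ≠ 0 := fun e => by rw [e, abs_zero] at hQ; omega
      exact_mod_cast this
    rw [eq_div_iff hQq] at hw
    simp only [algebraMap_int_eq, eq_intCast] at hw
    have hdvd : Q + 1 ∣ 4 * (I : ℤ) := ⟨w, by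
      apply Int.cast_injective (α := ℚ)
      push_cast at hw ⊢
      linear_combination -hw⟩
    have h4 : Q + 1 ∣ 4 := by
      have h2 : Q + 1 ∣ 2 * (Q * (Q - 1)) := by
        rw [show 4 * (I : ℤ) = 2 * (2 * (I : ℤ)) by ring, hidx'] at hdvd
        rcases abs_choice (Q * (Q - 1)) with e | e <;> rw [e] at hdvd
        · exact hdvd
        · rwa [mul_neg, dvd_neg] at hdvd
      have h3 : Q + 1 ∣ (Q + 1) * (2 * (Q - 2)) := dvd_mul_right _ _
      have := dvd_sub h2 h3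
      rwa [show 2 * (Q * (Q - 1)) - (Q + 1) * (2 * (Q - 2)) = 4 by ring] at this
    have := Int.le_of_dvd (by norm_num) ((abs_dvd _ _).2 h4)
    omega
  have hval : a 1 = 1 ∧ a 2 = 0 ∧ a 3 = 0 := by
    refine ⟨ha1, ?_, ?_⟩ <;>
    · rcases h01 2 with e2 | e2 <;> rcases h01 3 with e3 | e3 <;> omega
  -- back to the functions
  have hg := d.inner_kFun_proj θ (g := D.g i) (D.g_class i) fun x => D.g_even (heven x) i
  have hgi : Cfsg.classInner (d.kFun 1 θ) (D.g i) = ((a (Quad.idx i) - a 1 : ℤ) : ℂ) := by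
    have e : D.g i = (D.e (Quad.idx i) : ℂ) • (D.θ (Quad.idx i) : ↥K → ℂ) -
        (D.e 1 : ℂ) • (D.θ 1 : ↥K → ℂ) := rfl
    rw [e, classInner_sub_right, classInner_smul_right, classInner_smul_right, map_intCast,
      map_intCast, hc₁, hc₁, ha, ha]
    push_cast
    ring
  rw [hgi] at hg
  have hU : (Nat.card ↥d.U : ℂ) ≠ 0 := subgroup_card_ne_zero d.U
  rw [eq_inv_mul_iff_mul_eq₀ (mul_ne_zero two_ne_zero hU)] at hg
  rw [← hg]
  fin_cases i <;> simp [Quad.idx, ha0, hval.1, hval.2.1, hval.2.2] <;> ring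

/-- The hypothesis of `secCoeff_tiFun_of_sum` for the twisted functions. -/
theorem proj_sum [Fintype ↥d.U] {Q : ℤ} {c : ℕ} {M : Ideal Cfsg.AlgInt} (D : Quad M ↥K Q)
    (h : KleinPart K Q c) (hQ : 4 < |Q + 1|) (lam : ↥K →* ℂˣ) {η : ↥d.U →* ℂˣ} (hη : d.IsTheta η)
    (i : Fin 3) :
    ∑ x : ↥d.U, (lam ⟨x, d.U_le x.2⟩ : ℂ) * (1 - (η x : ℂ)) *
        conj (D.g i ⟨x, d.U_le x.2⟩ * (lam ⟨x, d.U_le x.2⟩ : ℂ)) =
      (if i = 0 then 0 else -2) * (Nat.card ↥d.U : ℂ) := by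
  rw [← d.quad_sum D h hQ hη i]
  refine Finset.sum_congr rfl fun x _ => ?_
  rw [map_mul]
  linear_combination ((1 - (η x : ℂ)) * conj (D.g i ⟨x, d.U_le x.2⟩)) *
    mul_conj_hom lam ⟨x, d.U_le x.2⟩

end Cfsg.Agent.Lib.JankoThompson.GSide.TorusData

namespace Cfsg.Agent.Lib.JankoThompson.GSide

open Subgroup Cfsg.Agent.Lib.Walter.NoField
open scoped ComplexConjugate

/-- The twisted projective functions of a principal block. -/
theorem Quad.isProj {G : Type u} [Group G] [Finite G] {K : Subgroup G} [Fintype ↥K] {Q : ℤ} {c : ℕ}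
    {M : Ideal Cfsg.AlgInt} (D : Quad M ↥K Q) (h : KleinPart K Q c) (lam : ↥K →* ℂˣ) :
    IsProj K Q c fun i k => D.g i k * (lam k : ℂ) := by
  have hunit := TorusData.mul_conj_hom lam
  refine ⟨fun i => D.g_gen lam i, fun i a b => ?_, fun i k hk => ?_, fun i j => ?_, fun i => ?_⟩
  · show D.g i (b * a * b⁻¹) * (lam (b * a * b⁻¹) : ℂ) = _
    rw [D.g_class, map_mul, map_mul, map_inv, mul_comm (lam b), mul_inv_cancel_right]
  · show D.g i k * _ = 0
    rw [D.g_even (by rwa [Subgroup.orderOf_coe] at hk), zero_mul]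
  · rw [← D.g_gram i j]
    simp only [Cfsg.classInner, map_mul]
    refine congrArg _ (Finset.sum_congr rfl fun k _ => ?_)
    linear_combination (D.g i k * conj (D.g j k)) * hunit k
  · rw [← D.g_pairs h i]
    simp only [Cfsg.classInner, map_mul]
    refine congrArg _ (Finset.sum_congr rfl fun k _ => ?_)
    by_cases hp : pairs K k = 0
    · simp [hp]
    · obtain ⟨⟨⟨a, b⟩, ha, hb, hab⟩⟩ := (Nat.card_ne_zero.1 hp).1
      have : lam k = 1 := by rw [← hab, map_mul, h.lam_invol lam ha, h.lam_invol lam hb, one_mul]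
      rw [this, Units.val_one, map_one, mul_one]

/-- `propSep` with the sums over the tori. -/
theorem exists_sep_torus {G : Type u} [Group G] [Fintype G] {t : G} {K : Subgroup G} [Fintype ↥K]
    {Q : ℤ} {c : ℕ} (h : Cent t K Q c) (hO : FixedOdd t) :
    ∃ g : Fin 3 → ↥K → ℂ,
      (∀ i, Cfsg.classInner (g i) 1 = if i = 0 then 1 else 0) ∧
      (∀ lam : ↥K →* ℂˣ, lam ≠ 1 → ∀ i, Cfsg.classInner (g i) (fun k => (lam k : ℂ)) = 0) ∧
      (∀ lam : ↥K →* ℂˣ, IsProj K Q c (fun i k => g i k * (lam k : ℂ)) ∧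
        IsSep t K Q fun i k => g i k * (lam k : ℂ)) ∧
      (4 < |Q + 1| → ∀ (d : TorusData t K) [Fintype ↥d.U] (lam : ↥K →* ℂˣ) (η : ↥d.U →* ℂˣ),
        d.IsTheta η → ∀ i : Fin 3,
          ∑ x : ↥d.U, (lam ⟨x, d.U_le x.2⟩ : ℂ) * (1 - (η x : ℂ)) *
              conj (g i ⟨x, d.U_le x.2⟩ * (lam ⟨x, d.U_le x.2⟩ : ℂ)) =
            (if i = 0 then 0 else -2) * (Nat.card ↥d.U : ℂ)) := by
  obtain ⟨M, hM⟩ := Blocks.exists_isPModular 2 Nat.prime_two
  obtain ⟨D⟩ := exists_quad h.part h.part.hasSteinberg M hM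
  refine ⟨D.g, D.g_one, fun lam hl i => D.g_lin h.part.Q_big lam hl i, fun lam => ⟨?_, ?_⟩,
    fun hQ d _ lam η hη i => d.proj_sum D h.part hQ lam hη i⟩
  · exact D.isProj h.part lam
  · exact h.isSep hM hO ⟨D.g_span, D.g_reg h.part.Q_mod⟩ D.g_class
      (fun i k hk => D.g_even (by rwa [Subgroup.orderOf_coe] at hk) i) lam

end Cfsg.Agent.Lib.JankoThompson.GSide
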