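import Cfsg.Agent.Lib.BrauerMap.PrincipalSection
import Cfsg.Agent.Lib.JankoThompson.GSide.Interface

/-!
# Janko–Thompson: twisted principal blocks of the centraliser of an involution

For a linear character `η` of `H` the block `tw η` is the homomorphism `z ↦ ∑ z(h) η(h)` of the
centre.  For `C(t) = ⟨t⟩ × K` the map `twHom` sends the centre of `k[K]` into that of `k[C(t)]`,
twisted by a character of `K`; `tw η` is the only block over the principal one.

Owner: helper68.
-/

set_option autoImplicit false
set_option linter.style.haveILetI false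

namespace Cfsg.Agent.Lib.JankoThompson.GSide.Twist

open MonoidAlgebra Cfsg.Agent.Lib.BrauerMap.Basic Cfsg.Agent.Lib.BrauerMap.ClassSum
open Cfsg.Agent.Lib.BrauerPairs
open Cfsg.Agent.Lib.BrauerPairs.Center Cfsg.Agent.Lib.BrauerPairs.Trunc
open Cfsg.Agent.Lib.BrauerPairs.Conj Cfsg.Agent.Lib.BrauerPairs.Pairs
open Cfsg.Agent.Lib.BrauerPairs.Transport Cfsg.Agent.Lib.BrauerPairs.Maximal

universe u v w

variable {k : Type v} [Field k]

/-- The block of a linear character. -/
noncomputable def tw {H : Type w} [Group H] (η : H →* k) : Blk k H :=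
  (MonoidAlgebra.lift k k H η).comp (Subalgebra.center k (MonoidAlgebra k H)).val

theorem lift_eq_sum {H : Type w} [Group H] [Fintype H] (η : H →* k) (a : MonoidAlgebra k H) :
    MonoidAlgebra.lift k k H η a = ∑ h, a.coeff h * η h := by
  induction a using MonoidAlgebra.induction_linear with
  | zero => simp
  | add f g hf hg => simp [map_add, hf, hg, Finset.sum_add_distrib, add_mul]
  | single m r =>
    classical
    rw [MonoidAlgebra.lift_single, coeff_single]
    simp [Finsupp.single_apply]

theorem tw_apply {H : Type w} [Group H] [Fintype H] (η : H →* k) (z : ZAlg k H) :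
    tw η z = ∑ h, (z : MonoidAlgebra k H).coeff h * η h := lift_eq_sum η _

theorem tw_comp_zMap {H : Type w} {H' : Type u} [Group H] [Group H'] [Finite H] [Finite H']
    (θ : H ≃* H') {η : H →* k} {η' : H' →* k} (h : ∀ a, η' (θ a) = η a) :
    (tw η').comp (zMap θ) = tw η := by
  refine AlgHom.ext fun z => ?_
  show MonoidAlgebra.lift k k H' η' (MonoidAlgebra.domCongr k k θ (z : MonoidAlgebra k H))
    = MonoidAlgebra.lift k k H η (z : MonoidAlgebra k H)
  generalize (z : MonoidAlgebra k H) = a
  induction a using MonoidAlgebra.induction_linear with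
  | zero => simp
  | add f g hf hg => simp only [map_add, hf, hg]
  | single m r => simp [h]

/-- In characteristic two a square root of one is one. -/
theorem eq_one_of_sq [CharP k 2] {x : k} (h : x * x = 1) : x = 1 := by
  have h2 : (2 : k) = 0 := by exact_mod_cast CharP.cast_eq_zero k 2
  have : (x - 1) * (x - 1) = 0 := by linear_combination h + (1 - x) * h2
  exact sub_eq_zero.1 (mul_self_eq_zero.1 this)

theorem eq_of_pow_two_pow [CharP k 2] : ∀ (j : ℕ) {x y : k}, x ^ 2 ^ j = y ^ 2 ^ j → x = y := by
  intro j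
  induction j with
  | zero => intro x y h; simpa using h
  | succ j ih =>
    intro x y h
    rw [pow_succ, pow_mul, pow_mul] at h
    refine ih ?_
    have h2 : (2 : k) = 0 := by exact_mod_cast CharP.cast_eq_zero k 2
    have h3 : (x ^ 2 ^ j - y ^ 2 ^ j) * (x ^ 2 ^ j - y ^ 2 ^ j) = 0 := by
      linear_combination h + (y ^ 2 ^ j * y ^ 2 ^ j - x ^ 2 ^ j * y ^ 2 ^ j) * h2
    exact sub_eq_zero.1 (mul_self_eq_zero.1 h3)

section Section

variable {G : Type u} [Group G] {C K : Subgroup G} {R : Type v} [CommRing R] (hKC : K ≤ C)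

/-- `k[K] → k[C]`, twisted by a character of `K`. -/
noncomputable def twHom (χ : ↥K →* R) : MonoidAlgebra R ↥K →ₐ[R] MonoidAlgebra R ↥C :=
  MonoidAlgebra.lift R (MonoidAlgebra R ↥C) ↥K
    { toFun := fun x => single (Subgroup.inclusion hKC x) (χ x)
      map_one' := by simp [MonoidAlgebra.one_def]
      map_mul' := fun x y => by simp [single_mul_single] }

theorem twHom_single (χ : ↥K →* R) (x : ↥K) (r : R) :
    twHom hKC χ (single x r) = single (Subgroup.inclusion hKC x) (r * χ x) := by
  simp [twHom]

theorem coeff_twHom (χ : ↥K →* R) (z : MonoidAlgebra R ↥K) (x : ↥K) :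
    (twHom hKC χ z).coeff (Subgroup.inclusion hKC x) = z.coeff x * χ x := by
  induction z using MonoidAlgebra.induction_linear with
  | zero => simp
  | add f g hf hg => simp [map_add, hf, hg, add_mul]
  | single a r =>
    classical
    rw [twHom_single, coeff_single, coeff_single, Finsupp.single_apply, Finsupp.single_apply]
    by_cases h : a = x
    · subst h; simp
    · rw [if_neg fun e => h (Subgroup.inclusion_injective hKC e), if_neg h, zero_mul]

theorem coeff_twHom_of_notMem (χ : ↥K →* R) (z : MonoidAlgebra R ↥K) {c : ↥C}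
    (hc : (c : G) ∉ K) : (twHom hKC χ z).coeff c = 0 := by
  induction z using MonoidAlgebra.induction_linear with
  | zero => simp
  | add f g hf hg => simp [map_add, hf, hg]
  | single a r =>
    rw [twHom_single, coeff_single]
    exact Finsupp.single_eq_of_ne fun e => hc (e ▸ a.2)

theorem mapRingHom_twHom {S : Type w} [CommRing S] (φ : R →+* S) (χ : ↥K →* R) (χ' : ↥K →* S)
    (h : ∀ x, φ (χ x) = χ' x) (z : MonoidAlgebra R ↥K) :
    MonoidAlgebra.mapRingHom ↥C φ (twHom hKC χ z) =
      twHom hKC χ' (MonoidAlgebra.mapRingHom ↥K φ z) := by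
  induction z using MonoidAlgebra.induction_linear with
  | zero => simp
  | add f g hf hg => simp only [map_add, hf, hg]
  | single a r => simp [twHom_single, h]

variable [Finite G]

theorem twHom_mem_center (χ : ↥K →* R)
    (hcen : ∀ c : ↥C, ∃ w : ↥K, ∀ x : ↥K, (c : G) * x * (c : G)⁻¹ = ((w * x * w⁻¹ : ↥K) : G))
    {z : MonoidAlgebra R ↥K} (hz : z ∈ Subalgebra.center R (MonoidAlgebra R ↥K)) :
    twHom hKC χ z ∈ Subalgebra.center R (MonoidAlgebra R ↥C) := by
  rw [mem_center_iff_coeff]
  intro c h
  obtain ⟨w, hw⟩ := hcen c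
  by_cases hh : (h : G) ∈ K
  · set x : ↥K := ⟨h, hh⟩ with hx
    have e1 : c * h * c⁻¹ = Subgroup.inclusion hKC (w * x * w⁻¹) := Subtype.ext (hw x)
    have e2 : h = Subgroup.inclusion hKC x := Subtype.ext rfl
    rw [e1, coeff_twHom, e2, coeff_twHom, (mem_center_iff_coeff z).1 hz w x, map_mul, map_mul,
      mul_right_comm (χ w), ← map_mul, mul_inv_cancel, map_one, one_mul]
  · have hh' : ((c * h * c⁻¹ : ↥C) : G) ∉ K := by
      intro hm
      obtain ⟨w', hw'⟩ := hcen c⁻¹
      refine hh ?_
      have h1 := hw' ⟨_, hm⟩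
      have e : ((c⁻¹ : ↥C) : G) * ((c * h * c⁻¹ : ↥C) : G) * ((c⁻¹ : ↥C) : G)⁻¹ = (h : G) := by
        simp [mul_assoc]
      rw [e] at h1
      rw [h1]
      exact Subtype.mem _
    rw [coeff_twHom_of_notMem hKC χ z hh, coeff_twHom_of_notMem hKC χ z hh']

end Section

section Unique

variable {G : Type u} [Group G] [Finite G] {C K : Subgroup G} (hKC : K ≤ C)
  (hcen : ∀ c : ↥C, ∃ w : ↥K, ∀ x : ↥K, (c : G) * x * (c : G)⁻¹ = ((w * x * w⁻¹ : ↥K) : G))

/-- `twHom` on the centres. -/
noncomputable def twC (χ : ↥K →* k) : ZAlg k ↥K →ₐ[k] ZAlg k ↥C :=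
  ((twHom hKC χ).comp (Subalgebra.center k (MonoidAlgebra k ↥K)).val).codRestrict _
    fun z => twHom_mem_center hKC χ hcen z.2

theorem coe_twC (χ : ↥K →* k) (z : ZAlg k ↥K) :
    (twC hKC hcen χ z : MonoidAlgebra k ↥C) = twHom hKC χ z := rfl

variable (η : ↥C →* k) (χ : ↥K →* k) (hχ : ∀ x : ↥K, χ x * η (Subgroup.inclusion hKC x) = 1)

include hχ

theorem tw_comp_twC : (tw η).comp (twC hKC hcen χ) = Principal.princ k ↥K := by
  refine AlgHom.ext fun z => ?_
  show MonoidAlgebra.lift k k ↥C η (twHom hKC χ (z : MonoidAlgebra k ↥K)) =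
    MonoidAlgebra.lift k k ↥K (1 : ↥K →* k) (z : MonoidAlgebra k ↥K)
  generalize (z : MonoidAlgebra k ↥K) = a
  induction a using MonoidAlgebra.induction_linear with
  | zero => simp
  | add f g hf hg => simp only [map_add, hf, hg]
  | single x r =>
    rw [twHom_single, MonoidAlgebra.lift_single, MonoidAlgebra.lift_single, smul_eq_mul,
      smul_eq_mul, mul_assoc, hχ, MonoidHom.one_apply]

theorem comp_twC_iff [CharP k 2] {τ : ↥C} (hτ : ∀ c, τ * c = c * τ) (hτ2 : τ * τ = 1)
    (hdec : ∀ c : ↥C, (c : G) ∈ K ∨ ((τ * c : ↥C) : G) ∈ K) (ω : Blk k ↥C) :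
    ω.comp (twC hKC hcen χ) = Principal.princ k ↥K ↔ ω = tw η := by
  classical
  refine ⟨fun hω => algHom_ext fun c => ?_, fun h => h ▸ tw_comp_twC hKC hcen η χ hχ⟩
  -- the class sums of elements of `K`
  have hK : ∀ x : ↥K, ω (classSumC k (Subgroup.inclusion hKC x)) =
      tw η (classSumC k (Subgroup.inclusion hKC x)) := by
    intro x
    have e : classSumC k (Subgroup.inclusion hKC x) =
        η (Subgroup.inclusion hKC x) • twC hKC hcen χ (classSumC k x) := by
      refine Subtype.ext ?_
      ext c
      simp only [SetLike.val_smul, coe_twC, coeff_smul, Finsupp.smul_apply, smul_eq_mul]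
      show (classSum k (Subgroup.inclusion hKC x)).coeff c =
        _ * (twHom hKC χ (classSum k x)).coeff c
      rw [coeff_classSum]
      by_cases hc : (c : G) ∈ K
      · set y : ↥K := ⟨c, hc⟩
        have hy : c = Subgroup.inclusion hKC y := Subtype.ext rfl
        rw [hy, coeff_twHom, coeff_classSum]
        by_cases hxy : IsConj x y
        · rw [if_pos ((Subgroup.inclusion hKC).map_isConj hxy), if_pos hxy, one_mul,
            mul_comm, ← hχ y]
          obtain ⟨u, hu⟩ := isConj_iff.1 hxy
          rw [← hu]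
          simp only [map_mul]
          rw [mul_right_comm (η (Subgroup.inclusion hKC u)), ← map_mul η,
            ← map_mul (Subgroup.inclusion hKC), mul_inv_cancel, map_one, map_one, one_mul]
        · rw [if_neg hxy, zero_mul, mul_zero, if_neg]
          intro h
          obtain ⟨u, hu⟩ := isConj_iff.1 h
          obtain ⟨w, hw⟩ := hcen u
          exact hxy (isConj_iff.2 ⟨w, Subtype.ext ((hw x).symm.trans (congrArg Subtype.val hu))⟩)
      · rw [coeff_twHom_of_notMem hKC χ _ hc, mul_zero, if_neg]
        intro h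
        obtain ⟨u, hu⟩ := isConj_iff.1 h
        obtain ⟨w, hw⟩ := hcen u
        refine hc ?_
        rw [← hu]
        exact ((hw x).symm ▸ (w * x * w⁻¹).2 :)
    rw [e, map_smul, map_smul]
    refine congrArg _ ?_
    exact (DFunLike.congr_fun hω _).trans
      (DFunLike.congr_fun (tw_comp_twC hKC hcen η χ hχ) _).symm
  rcases hdec c with h | h
  · exact hK ⟨c, h⟩
  · -- `τ` goes to `1`
    have hT : single τ (1 : k) ∈ Subalgebra.center k (MonoidAlgebra k ↥C) := by
      rw [mem_center_iff_coeff]
      intro u x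
      simp only [coeff_single, Finsupp.single_apply]
      refine if_congr ⟨fun e => ?_, fun e => ?_⟩ rfl rfl
      · have := congrArg (fun y => u⁻¹ * y * u) e
        simpa [mul_assoc, ← hτ] using this
      · rw [← e, ← hτ, mul_inv_cancel_right]
    set T : ZAlg k ↥C := ⟨single τ 1, hT⟩
    have hT2 : T * T = 1 := Subtype.ext (by
      show single τ (1 : k) * single τ 1 = 1
      rw [single_mul_single, hτ2, one_mul, MonoidAlgebra.one_def])
    have hv : ∀ φ : Blk k ↥C, φ T = 1 := fun φ => eq_one_of_sq (by rw [← map_mul, hT2, map_one])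
    have e : classSumC k c = T * classSumC k (τ * c) := by
      refine Subtype.ext ?_
      ext x
      show (classSum k c).coeff x = (single τ (1 : k) * classSum k (τ * c)).coeff x
      rw [coeff_single_mul_apply, one_mul, coeff_classSum, coeff_classSum]
      have hinv : τ⁻¹ = τ := inv_eq_of_mul_eq_one_right hτ2
      refine if_congr ?_ rfl rfl
      rw [hinv, isConj_iff, isConj_iff]
      refine exists_congr fun u => ?_
      rw [show u * (τ * c) * u⁻¹ = τ * (u * c * u⁻¹) by
        rw [← mul_assoc, ← mul_assoc, ← mul_assoc, ← hτ u], mul_right_inj]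
    rw [e, map_mul, map_mul, hv, hv, one_mul, one_mul]
    have := hK ⟨_, h⟩
    exact this

end Unique

end Cfsg.Agent.Lib.JankoThompson.GSide.Twist
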